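import Mathlib

/-!
# An abelian normal irreducible self-centralizing linear group

`V` is a group of order `p ^ d`, `H` acts faithfully on `V`, `A` is an abelian normal subgroup of
`H` which acts irreducibly and contains its centralizer.  The ring generated by `A` is a field `E`
with `p ^ d` elements. Consequently `A` is cyclic, `H / A` is cyclic of order dividing `d`, and `A`
is not fixed elementwise by `x ↦ x ^ (p ^ i)`, `0 < i < d`.
-/

set_option autoImplicit false
set_option linter.style.haveILetI false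

namespace Cfsg.Agent.H382.FieldAction

theorem charP_of_card (E : Type*) [Field E] [Finite E] {p d : ℕ} [Fact p.Prime]
    (hcard : Nat.card E = p ^ d) : CharP E p := by
  have hp : p.Prime := Fact.out
  haveI : Fintype E := Fintype.ofFinite E
  obtain ⟨n, hn, hn'⟩ := FiniteField.card E (ringChar E)
  have hrp : ringChar E = p := by
    rw [Nat.card_eq_fintype_card, hn'] at hcard
    have h1 : ringChar E ∣ p ^ d := by
      rw [← hcard]
      exact dvd_pow_self _ n.ne_zero
    exact (Nat.prime_dvd_prime_iff_eq hn hp).mp (hn.dvd_of_dvd_pow h1)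
  exact hrp ▸ ringChar.charP E

/-- A field has at most `p ^ i` elements with `x ^ (p ^ i) = x`. -/
theorem card_le_of_pow_eq (E : Type*) [Field E] [Finite E] {p i : ℕ} (hp : 1 < p) (hi : 0 < i)
    (T : Set E) (hT : ∀ x ∈ T, x ^ (p ^ i) = x) : Nat.card T ≤ p ^ i := by
  classical
  haveI : Fintype E := Fintype.ofFinite E
  have hlt : 1 < p ^ i := Nat.one_lt_pow hi.ne' hp
  have h4 := FiniteField.X_pow_card_sub_X_ne_zero E hlt
  have h5 : T.toFinset ⊆
      ((Polynomial.X : Polynomial E) ^ (p ^ i) - Polynomial.X).roots.toFinset := by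
    intro y hy
    rw [Multiset.mem_toFinset, Polynomial.mem_roots h4, Polynomial.IsRoot.def,
      Polynomial.eval_sub, Polynomial.eval_pow, Polynomial.eval_X, sub_eq_zero]
    exact hT y (Set.mem_toFinset.mp hy)
  have h6 := Finset.card_le_card h5
  have h7 := h6.trans ((Multiset.toFinset_card_le _).trans (Polynomial.card_roots' _))
  rw [FiniteField.X_pow_card_sub_X_natDegree_eq E hlt, Set.toFinset_card] at h7
  rwa [Nat.card_eq_fintype_card]

theorem card_ringAut_dvd (E : Type*) [Field E] [Finite E] {p d : ℕ} [Fact p.Prime]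
    (hcard : Nat.card E = p ^ d) : Nat.card (E ≃+* E) = d ∧ IsCyclic (E ≃+* E) := by
  have hp : p.Prime := Fact.out
  haveI hchar : CharP E p := charP_of_card E hcard
  letI : Algebra (ZMod p) E := ZMod.algebra E p
  let φ : (E ≃ₐ[ZMod p] E) →* (E ≃+* E) :=
    { toFun := fun σ => σ.toRingEquiv
      map_one' := rfl
      map_mul' := fun _ _ => rfl }
  have hφ : Function.Surjective φ := by
    intro σ
    refine ⟨AlgEquiv.ofRingEquiv (f := σ) ?_, ?_⟩
    · intro x
      have : (σ : E →+* E).comp (algebraMap (ZMod p) E) = algebraMap (ZMod p) E := Subsingleton.elim _ _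
      exact RingHom.congr_fun this x
    · ext x
      rfl
  have hφi : Function.Injective φ := by
    intro σ τ h
    ext x
    exact congrArg (fun s : E ≃+* E => s x) h
  have hfin : Module.finrank (ZMod p) E = d := by
    haveI : Module.Finite (ZMod p) E := Module.Finite.of_finite
    have h1 := Module.natCard_eq_pow_finrank (K := ZMod p) (V := E)
    rw [hcard, Nat.card_eq_fintype_card, ZMod.card] at h1
    exact (Nat.pow_right_injective hp.two_le h1).symm
  refine ⟨?_, isCyclic_of_surjective φ hφ⟩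
  rw [← hfin, ← IsGalois.card_aut_eq_finrank (ZMod p) E]
  exact (Nat.card_congr (Equiv.ofBijective φ ⟨hφi, hφ⟩)).symm

theorem core {V : Type*} [AddCommGroup V] [Finite V] {p d : ℕ} [Fact p.Prime] (hd : d ≠ 0)
    (hcard : Nat.card V = p ^ d) {H : Type*} [Group H] [DistribMulAction H V] [FaithfulSMul H V]
    (A : Subgroup H) (hAn : A.Normal) (hAc : ∀ a ∈ A, ∀ b ∈ A, a * b = b * a)
    (hirr : ∀ W : AddSubgroup V, (∀ a ∈ A, ∀ w ∈ W, a • w ∈ W) → W = ⊥ ∨ W = ⊤)
    (hcent : ∀ h : H, (∀ a ∈ A, a * h = h * a) → h ∈ A) :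
    IsCyclic A ∧ (∀ i, 0 < i → i < d → ∃ a ∈ A, a ^ (p ^ i) ≠ a) ∧ A.index ∣ d ∧
      ∃ h : H, A ⊔ Subgroup.zpowers h = ⊤ := by
  classical
  have hp : p.Prime := Fact.out
  have hnt : Nontrivial V := by
    rw [← Finite.one_lt_card_iff_nontrivial, hcard]
    exact Nat.one_lt_pow hd hp.one_lt
  obtain ⟨v₀, hv₀⟩ := exists_ne (0 : V)
  let ρ := DistribMulAction.toAddMonoidEnd H V
  have hρ : ∀ h v, ρ h v = h • v := fun _ _ => rfl
  have hρinj : Function.Injective ρ := by
    intro a b hab
    apply FaithfulSMul.eq_of_smul_eq_smul (α := V)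
    intro v
    exact DFunLike.congr_fun hab v
  let S : Set (AddMonoid.End V) := ρ '' (A : Set H)
  let E : Subring (AddMonoid.End V) := Subring.closure S
  have hSE : ∀ a ∈ A, ρ a ∈ E := fun a ha => Subring.subset_closure ⟨a, ha, rfl⟩
  have hcomm1 : ∀ a ∈ E, ∀ b ∈ S, a * b = b * a := by
    intro a ha b hb
    have hle : E ≤ Subring.centralizer S := by
      refine Subring.closure_le.mpr ?_
      rintro _ ⟨x, hx, rfl⟩
      rw [SetLike.mem_coe, Subring.mem_centralizer_iff]
      rintro _ ⟨y, hy, rfl⟩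
      rw [← map_mul, ← map_mul, hAc y hy x hx]
    exact (Subring.mem_centralizer_iff.mp (hle ha) b hb).symm
  have hcomm : ∀ a ∈ E, ∀ b ∈ E, a * b = b * a := by
    intro a ha b hb
    have hle : E ≤ Subring.centralizer (E : Set (AddMonoid.End V)) := by
      refine Subring.closure_le.mpr ?_
      intro x hx
      rw [SetLike.mem_coe, Subring.mem_centralizer_iff]
      intro y hy
      exact hcomm1 y hy x hx
    exact (Subring.mem_centralizer_iff.mp (hle ha) b hb).symm
  -- a subring containing `S` acts transitively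
  have htrans : ∀ E' : Subring (AddMonoid.End V), (∀ a ∈ A, ρ a ∈ E') →
      ∀ v w : V, v ≠ 0 → ∃ a ∈ E', a v = w := by
    intro E' hE' v w hv
    let W : AddSubgroup V :=
      { carrier := {w | ∃ a ∈ E', a v = w}
        zero_mem' := ⟨0, E'.zero_mem, rfl⟩
        add_mem' := by
          rintro _ _ ⟨a, ha, rfl⟩ ⟨b, hb, rfl⟩
          exact ⟨a + b, E'.add_mem ha hb, rfl⟩
        neg_mem' := by
          rintro _ ⟨a, ha, rfl⟩
          exact ⟨-a, E'.neg_mem ha, rfl⟩ }
    rcases hirr W (by
      rintro a ha _ ⟨b, hb, rfl⟩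
      exact ⟨ρ a * b, E'.mul_mem (hE' a ha) hb, rfl⟩) with h | h
    · exfalso
      have h1 : v ∈ W := ⟨1, E'.one_mem, rfl⟩
      rw [h, AddSubgroup.mem_bot] at h1
      exact hv h1
    · have h1 : w ∈ W := by rw [h]; trivial
      exact h1
  have hE := htrans E hSE
  have hinj : ∀ a ∈ E, ∀ b ∈ E, a v₀ = b v₀ → a = b := by
    intro a ha b hb hab
    ext w
    obtain ⟨c, hc, rfl⟩ := hE v₀ w hv₀
    have h1 : a (c v₀) = c (a v₀) := DFunLike.congr_fun (hcomm a ha c hc) v₀
    have h2 : b (c v₀) = c (b v₀) := DFunLike.congr_fun (hcomm b hb c hc) v₀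
    rw [h1, h2, hab]
  have hfield : IsField E := by
    refine ⟨⟨0, 1, ?_⟩, ?_, ?_⟩
    · intro h
      have h1 : (0 : AddMonoid.End V) = 1 := congrArg Subtype.val h
      exact hv₀ (DFunLike.congr_fun h1 v₀).symm
    · intro a b
      exact Subtype.ext (hcomm a a.2 b b.2)
    · intro a ha
      have h1 : a.1 v₀ ≠ 0 := by
        intro h
        apply ha
        apply Subtype.ext
        exact hinj _ a.2 _ E.zero_mem (by rw [h]; rfl)
      obtain ⟨b, hb, hbv⟩ := hE (a.1 v₀) v₀ h1
      refine ⟨⟨b, hb⟩, Subtype.ext ?_⟩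
      change a.1 * b = 1
      rw [hcomm _ a.2 _ hb]
      exact hinj _ (E.mul_mem hb a.2) _ E.one_mem hbv
  let _ : CommRing E := { (inferInstance : Ring E) with
    mul_comm := fun a b => Subtype.ext (hcomm a a.2 b b.2) }
  let _ : Field E := IsField.toField hfield
  -- evaluation at `v₀`
  let ev : E →+ V := { toFun := fun a => a.1 v₀, map_zero' := rfl, map_add' := fun a b => rfl }
  have hev : Function.Bijective ev := by
    refine ⟨fun a b hab => Subtype.ext (hinj _ a.2 _ b.2 hab), fun w => ?_⟩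
    obtain ⟨c, hc, rfl⟩ := hE v₀ w hv₀
    exact ⟨⟨c, hc⟩, rfl⟩
  let evE : E ≃+ V := AddEquiv.ofBijective ev hev
  have : Finite E := Finite.of_equiv V evE.symm.toEquiv
  have hcardE : Nat.card E = p ^ d := by
    rw [← hcard]; exact Nat.card_congr evE.toEquiv
  -- `A` embeds in `E`
  let ρA : A →* E :=
    { toFun := fun a => ⟨ρ a, hSE a a.2⟩
      map_one' := Subtype.ext (map_one ρ)
      map_mul' := fun a b => Subtype.ext (map_mul ρ _ _) }
  have hρA : Function.Injective ρA := by
    intro a b hab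
    have h1 : ρ a = ρ b := congrArg Subtype.val hab
    exact Subtype.ext (hρinj h1)
  have hAfin : Finite A := Finite.of_injective ρA hρA
  obtain ⟨hcardAut, hcycAut⟩ := card_ringAut_dvd E hcardE
  have hone : ∀ h : H, ρ h * ρ h⁻¹ = 1 := by
    intro h; rw [← map_mul, mul_inv_cancel, map_one]
  have hone' : ∀ h : H, ρ h⁻¹ * ρ h = 1 := by
    intro h; rw [← map_mul, inv_mul_cancel, map_one]
  have hnorm : ∀ h : H, ∀ a ∈ E, ρ h * a * ρ h⁻¹ ∈ E := by
    intro h a ha
    induction ha using Subring.closure_induction with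
    | mem x hx =>
      obtain ⟨y, hy, rfl⟩ := hx
      rw [← map_mul, ← map_mul]
      exact hSE _ (hAn.conj_mem y hy h)
    | zero => rw [mul_zero, zero_mul]; exact E.zero_mem
    | one => rw [mul_one, hone]; exact E.one_mem
    | add x y _ _ hx hy => rw [mul_add, add_mul]; exact E.add_mem hx hy
    | neg x _ hx => rw [mul_neg, neg_mul]; exact E.neg_mem hx
    | mul x y _ _ hx hy =>
      have : ρ h * (x * y) * ρ h⁻¹ = (ρ h * x * ρ h⁻¹) * (ρ h * y * ρ h⁻¹) := by
        calc ρ h * (x * y) * ρ h⁻¹ = ρ h * x * 1 * y * ρ h⁻¹ := by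
              rw [mul_one]; simp only [mul_assoc]
          _ = _ := by rw [← hone' h]; simp only [mul_assoc]
      rw [this]
      exact E.mul_mem hx hy
  have hnorm' : ∀ h : H, ∀ a ∈ E, ρ h⁻¹ * a * ρ h ∈ E := by
    intro h a ha
    have := hnorm h⁻¹ a ha
    rwa [inv_inv] at this
  let conj : H →* (E ≃+* E) :=
    { toFun := fun h =>
      { toFun := fun a => ⟨_, hnorm h a.1 a.2⟩
        invFun := fun a => ⟨_, hnorm' h a.1 a.2⟩
        left_inv := by
          intro a
          apply Subtype.ext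
          change ρ h⁻¹ * (ρ h * a.1 * ρ h⁻¹) * ρ h = a.1
          rw [mul_assoc, mul_assoc, mul_assoc, hone', mul_one, ← mul_assoc, hone', one_mul]
        right_inv := by
          intro a
          apply Subtype.ext
          change ρ h * (ρ h⁻¹ * a.1 * ρ h) * ρ h⁻¹ = a.1
          rw [mul_assoc, mul_assoc, mul_assoc, hone, mul_one, ← mul_assoc, hone, one_mul]
        map_mul' := by
          intro a b
          apply Subtype.ext
          change ρ h * (a.1 * b.1) * ρ h⁻¹ = (ρ h * a.1 * ρ h⁻¹) * (ρ h * b.1 * ρ h⁻¹)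
          calc ρ h * (a.1 * b.1) * ρ h⁻¹
              = ρ h * a.1 * 1 * b.1 * ρ h⁻¹ := by
                rw [mul_one]; simp only [mul_assoc]
            _ = _ := by rw [← hone' h]; simp only [mul_assoc]
        map_add' := by
          intro a b
          apply Subtype.ext
          change ρ h * (a.1 + b.1) * ρ h⁻¹ = (ρ h * a.1 * ρ h⁻¹) + (ρ h * b.1 * ρ h⁻¹)
          rw [mul_add, add_mul] }
      map_one' := by
        apply RingEquiv.ext
        intro a
        apply Subtype.ext
        change ρ 1 * a.1 * ρ 1⁻¹ = a.1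
        rw [inv_one, map_one, one_mul, mul_one]
      map_mul' := by
        intro g h
        apply RingEquiv.ext
        intro a
        apply Subtype.ext
        change ρ (g * h) * a.1 * ρ (g * h)⁻¹ = ρ g * (ρ h * a.1 * ρ h⁻¹) * ρ g⁻¹
        rw [mul_inv_rev, map_mul, map_mul]
        simp only [mul_assoc] }
  have hker : conj.ker = A := by
    ext h
    rw [MonoidHom.mem_ker]
    constructor
    · intro h1
      apply hcent
      intro a ha
      have h2 : ρ h * ρ a * ρ h⁻¹ = ρ a := by
        have := congrArg (fun s : E ≃+* E => ((s ⟨ρ a, hSE a ha⟩ : E) : AddMonoid.End V)) h1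
        exact this
      apply hρinj
      rw [map_mul, map_mul]
      nth_rewrite 1 [← h2]
      rw [mul_assoc, hone', mul_one]
    · intro ha
      apply RingEquiv.ext
      intro a
      apply Subtype.ext
      change ρ h * a.1 * ρ h⁻¹ = a.1
      rw [hcomm (ρ h) (hSE h ha) a.1 a.2, mul_assoc, hone, mul_one]
  have hfinAut : Finite (E ≃+* E) := Nat.finite_of_card_ne_zero (by rw [hcardAut]; exact hd)
  refine ⟨?_, ?_, ?_, ?_⟩
  · exact isCyclic_of_injective_ringHom ρA hρA
  · intro i h0 hi
    by_contra hcon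
    push Not at hcon
    haveI hchar : CharP E p := charP_of_card E hcardE
    let K : Subring E := RingHom.eqLocus (iterateFrobenius E p i) (RingHom.id E)
    have hKm : ∀ x : E, x ∈ K ↔ x ^ (p ^ i) = x := fun x => Iff.rfl
    have h1 := card_le_of_pow_eq E hp.one_lt h0 (K : Set E) (fun x hx => (hKm x).mp hx)
    let E' : Subring (AddMonoid.End V) := K.map E.subtype
    have hE' : ∀ a ∈ A, ρ a ∈ E' := by
      intro a ha
      refine Subring.mem_map.mpr ⟨⟨ρ a, hSE a ha⟩, ?_, rfl⟩
      rw [hKm]
      apply Subtype.ext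
      rw [SubmonoidClass.coe_pow]
      change ρ a ^ (p ^ i) = ρ a
      rw [← map_pow, hcon a ha]
    have h2 : Function.Surjective (fun x : (K : Set E) => (x : E).1 v₀) := by
      intro w
      obtain ⟨a, ha, haw⟩ := htrans E' hE' v₀ w hv₀
      obtain ⟨x, hx, rfl⟩ := Subring.mem_map.mp ha
      exact ⟨⟨x, hx⟩, haw⟩
    have h3 := Nat.card_le_card_of_surjective _ h2
    rw [hcard] at h3
    exact absurd (h3.trans h1) (not_le.mpr (Nat.pow_lt_pow_right hp.one_lt hi))
  · rw [← hker, Subgroup.index_ker, ← hcardAut]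
    exact Subgroup.card_subgroup_dvd_card conj.range
  · have hcyc : IsCyclic conj.range := inferInstance
    obtain ⟨⟨_, h, rfl⟩, hg⟩ := hcyc.exists_generator
    refine ⟨h, ?_⟩
    rw [eq_top_iff]
    intro x _
    obtain ⟨n, hn⟩ := Subgroup.mem_zpowers_iff.mp (hg ⟨conj x, x, rfl⟩)
    have h1 : conj h ^ n = conj x := congrArg Subtype.val hn
    have h2 : x * (h ^ n)⁻¹ ∈ conj.ker := by
      rw [MonoidHom.mem_ker, map_mul, map_inv, map_zpow, h1, mul_inv_cancel]
    rw [hker] at h2
    have h3 : x = (x * (h ^ n)⁻¹) * h ^ n := by rw [inv_mul_cancel_right]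
    rw [h3]
    exact Subgroup.mul_mem_sup h2 (Subgroup.zpow_mem_zpowers h n)

end Cfsg.Agent.H382.FieldAction
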