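import Cfsg.Agent.ClassicalGeometry.OrthDickson
import Cfsg.Agent.ClassicalGeometry.WittQuad
import Cfsg.Agent.ClassicalGeometry.SympBasic
import Cfsg.Agent.LieClassical.OrthCount
import Cfsg.Agent.LieClassical.SympPerfect
import Cfsg.Agent.LieClassical.SympCenter
import Cfsg.Agent.LieClassical.OmegaReindex
import Cfsg.Agent.S0752

/-!
# `Sp_{2m}(q)` in `Ω^±_{2m+2}(q)`, `q` even (helper382)

The stabiliser of a nonsingular vector.  Main result: `exists_sp_in_omega`.
-/

set_option autoImplicit false
set_option linter.unusedSectionVars false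
set_option linter.style.haveILetI false

namespace Cfsg.Agent.H382.SpOm

open Cfsg QuadraticMap Matrix
open Cfsg.Agent.ClassicalGeometry.OrthCharTwo Cfsg.Agent.ClassicalGeometry.Reflection
open Cfsg.Agent.ClassicalGeometry

/-! ### A group theoretic lemma -/

theorem map_commutator_surj {R S : Type*} [Group R] [Group S] (π : R →* S)
    (hπ : Function.Surjective π) : (commutator R).map π = commutator S := by
  rw [commutator_def, commutator_def, Subgroup.map_commutator, Subgroup.map_top_of_surjective π hπ]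

/-- A perfect quotient `S` of `R` lifts through `σ` if the kernel meets the derived group in the
kernel of `σ`. -/
theorem lift_of_perfect {R S G : Type*} [Group R] [Group S] [Group G] (π : R →* S) (σ : R →* G)
    (hπ : Function.Surjective π) (hS : commutator S = ⊤)
    (hk : ∀ r ∈ commutator R, π r = 1 → σ r = 1) :
    ∃ f : S →* commutator G, ∀ r ∈ commutator R, ((f (π r) : commutator G) : G) = σ r := by
  let π' : commutator R →* S := π.comp (commutator R).subtype
  have hπ' : Function.Surjective π' := by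
    intro s
    have hs : s ∈ (commutator R).map π := by
      rw [map_commutator_surj π hπ, hS]; exact Subgroup.mem_top s
    obtain ⟨r, hr, rfl⟩ := hs
    exact ⟨⟨r, hr⟩, rfl⟩
  have hσ : ∀ r : commutator R, σ.comp (commutator R).subtype r ∈ commutator G := by
    intro r
    have h1 : σ r.1 ∈ (commutator R).map σ := ⟨r.1, r.2, rfl⟩
    have h2 : (commutator R).map σ ≤ commutator G := by
      rw [commutator_def, commutator_def, Subgroup.map_commutator]
      exact Subgroup.commutator_mono le_top le_top
    exact h2 h1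
  let σ' : commutator R →* commutator G := (σ.comp (commutator R).subtype).codRestrict _ hσ
  have hker : π'.ker ≤ σ'.ker := by
    intro r hr
    rw [MonoidHom.mem_ker] at hr ⊢
    apply Subtype.ext
    exact hk r.1 r.2 hr
  refine ⟨π'.liftOfSurjective hπ' ⟨σ', hker⟩, fun r hr => ?_⟩
  have := MonoidHom.liftOfRightInverse_comp_apply π' _ (Function.rightInverse_surjInv hπ') ⟨σ', hker⟩ ⟨r, hr⟩
  exact congrArg Subtype.val this

/-! ### The frame -/

variable {ι : Type} [Fintype ι] [DecidableEq ι] {F : Type*} [Field F]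

/-- A nonsingular vector `w`, a vector `e` with `B (e, w) = 1` and a symplectic basis of `⟨e, w⟩^⊥`. -/
structure Fr (Q : QuadraticForm F (ι → F)) (m : ℕ) where
  L : (Fin m ⊕ Fin m → F) →ₗ[F] (ι → F)
  e : ι → F
  w : ι → F
  gram : ∀ x y, polar Q (L x) (L y) = sympForm m F x y
  wL : ∀ x, polar Q w (L x) = 0
  eL : ∀ x, polar Q e (L x) = 0
  ew : polar Q e w = 1
  Qw : Q w = 1
  span : ∀ v : ι → F, ∃ (x : Fin m ⊕ Fin m → F) (α β : F), v = L x + α • e + β • w

section frame

variable [CharP F 2] (Q : QuadraticForm F (ι → F))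

theorem polar_self_two (v : ι → F) : polar Q v v = 0 := by
  rw [QuadraticMap.polar_self]
  have h2 : (2 : F) = 0 := CharTwo.two_eq_zero
  simp [h2]

theorem polar_symm (u v : ι → F) : polar Q u v = polar Q v u := polar_comm _ _ _

/-- The subspace `⟨e, w⟩^⊥`. -/
def V0 (e w : ι → F) : Submodule F (ι → F) where
  carrier := {v | polar Q w v = 0 ∧ polar Q e v = 0}
  add_mem' {a b} ha hb := by
    simp only [Set.mem_ofPred_eq] at ha hb ⊢
    rw [polar_add_right, polar_add_right, ha.1, ha.2, hb.1, hb.2]
    simp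
  zero_mem' := by
    simp only [Set.mem_ofPred_eq, polar_zero_right, and_self]
  smul_mem' c x hx := by
    simp only [Set.mem_ofPred_eq] at hx ⊢
    rw [polar_smul_right, polar_smul_right, hx.1, hx.2]
    simp

theorem mem_V0 {e w v : ι → F} : v ∈ V0 Q e w ↔ polar Q w v = 0 ∧ polar Q e v = 0 := Iff.rfl

/-- the projection onto `⟨e, w⟩^⊥` -/
theorem proj_mem {e w : ι → F} (hew : polar Q e w = 1) (v : ι → F) :
    v + polar Q w v • e + polar Q e v • w ∈ V0 Q e w := by
  rw [mem_V0]
  have hwe : polar Q w e = 1 := by rw [polar_symm]; exact hew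
  constructor
  · rw [polar_add_right, polar_add_right, polar_smul_right, polar_smul_right, hwe, polar_self_two]
    simp only [smul_eq_mul, mul_one, mul_zero, add_zero]
    exact CharTwo.add_self_eq_zero _
  · rw [polar_add_right, polar_add_right, polar_smul_right, polar_smul_right, hew, polar_self_two]
    simp only [smul_eq_mul, mul_one, mul_zero, add_zero]
    exact CharTwo.add_self_eq_zero _

theorem exists_frame [Finite F] (hQ : (polarBilin Q).Nondegenerate) {m : ℕ}
    (hm : Fintype.card ι = 2 * (m + 1)) : Nonempty (Fr Q m) := by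
  classical
  have h2 : (2 : F) = 0 := CharTwo.two_eq_zero
  -- a nonsingular vector
  obtain ⟨w0, hw0⟩ : ∃ w : ι → F, Q w ≠ 0 := by
    by_contra h
    push Not at h
    have : Nonempty ι := Fintype.card_pos_iff.1 (by omega)
    obtain ⟨i⟩ := this
    have hne : (Pi.single i 1 : ι → F) ≠ 0 := by
      intro h0
      have := congrFun h0 i
      simp at this
    obtain ⟨v, hv⟩ := exists_polar_ne_zero Q hQ hne
    apply hv
    simp [polar, h]
  obtain ⟨c, hc⟩ := FiniteField.isSquare_of_char_two (F := F) (ringChar.eq F 2) (Q w0)⁻¹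
  obtain ⟨w, hQw⟩ : ∃ w, Q w = 1 := by
    refine ⟨c • w0, ?_⟩
    rw [QuadraticMap.map_smul, smul_eq_mul, ← hc]
    exact inv_mul_cancel₀ hw0
  have hwne : w ≠ 0 := by
    intro h0
    rw [h0, QuadraticMap.map_zero] at hQw
    exact zero_ne_one hQw
  obtain ⟨e0, he0⟩ := exists_polar_ne_zero Q hQ hwne
  obtain ⟨e, hwe⟩ : ∃ e, polar Q w e = 1 := by
    refine ⟨(polar Q w e0)⁻¹ • e0, ?_⟩
    rw [polar_smul_right, smul_eq_mul, inv_mul_cancel₀ he0]
  have hew : polar Q e w = 1 := by rw [polar_symm]; exact hwe
  -- the form on `V0`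
  set W := V0 Q e w with hW
  let B0 : LinearMap.BilinForm F W := LinearMap.BilinForm.restrict (polarBilin Q) W
  have hB0 : ∀ u v : W, B0 u v = polar Q (u : ι → F) (v : ι → F) := fun u v => rfl
  have hA : B0.IsAlt := fun u => by
    rw [hB0]; exact polar_self_two Q _
  have hnd : ∀ u : W, (∀ v, B0 u v = 0) → u = 0 := by
    intro u hu
    have h1 : (u : ι → F) = 0 := by
      by_contra hne
      obtain ⟨v, hv⟩ := exists_polar_ne_zero Q hQ hne
      apply hv
      have h3 := hu ⟨_, proj_mem Q hew v⟩
      rw [hB0] at h3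
      simp only at h3
      rw [polar_add_right, polar_add_right, polar_smul_right, polar_smul_right,
        polar_symm Q (u : ι → F) e, polar_symm Q (u : ι → F) w, u.2.1, u.2.2] at h3
      simpa using h3
    exact Subtype.ext h1
  obtain ⟨m', k, b, g1, g2, g3, g4⟩ := S0752.result B0 hA
  have hk : k = 0 := by
    by_contra hk
    have := hnd _ (g4 ⟨0, Nat.pos_of_ne_zero hk⟩)
    exact b.ne_zero _ this
  subst hk
  -- dimensions
  have hdim : Module.finrank F W + 2 = 2 * (m + 1) := by
    let f : (ι → F) →ₗ[F] F × F :=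
      LinearMap.prod (polarBilin Q w) (polarBilin Q e)
    have hf : ∀ v, f v = (polar Q w v, polar Q e v) := fun v => rfl
    have hker : LinearMap.ker f = W := by
      ext v
      rw [LinearMap.mem_ker, hf, Prod.mk_eq_zero]
      rfl
    have hsurj : LinearMap.range f = ⊤ := by
      rw [LinearMap.range_eq_top]
      rintro ⟨α, β⟩
      refine ⟨α • e + β • w, ?_⟩
      rw [hf, polar_add_right, polar_add_right, polar_smul_right, polar_smul_right, polar_smul_right,
        polar_smul_right, hwe, hew, polar_self_two, polar_self_two]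
      simp
    have := LinearMap.finrank_range_add_finrank_ker f
    rw [hker, hsurj, finrank_top, Module.finrank_prod, Module.finrank_self,
      Module.finrank_fintype_fun_eq_card, hm] at this
    omega
  have hm' : m' = m := by
    have h3 := Module.finrank_eq_card_basis b
    simp only [Fintype.card_sum, Fintype.card_fin] at h3
    omega
  subst hm'
  let b' := b.reindex (Equiv.sumEmpty (Fin m' ⊕ Fin m') (Fin 0))
  have e1 : ∀ i, b' (Sum.inl i) = b (Sum.inl (Sum.inl i)) := by
    intro i; simp [b']
  have e2 : ∀ i, b' (Sum.inr i) = b (Sum.inl (Sum.inr i)) := by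
    intro i; simp [b']
  let L : (Fin m' ⊕ Fin m' → F) →ₗ[F] (ι → F) := W.subtype ∘ₗ b'.equivFun.symm.toLinearMap
  have hLmem : ∀ x, L x ∈ W := fun x => (b'.equivFun.symm x).2
  have hLs : ∀ i, L (Pi.single i 1) = (b' i : ι → F) := by
    intro i
    change ((b'.equivFun.symm (Pi.single i 1) : W) : ι → F) = _
    congr 1
    rw [Module.Basis.equivFun_symm_apply]
    simp [Pi.single_apply]
  have hgram : ∀ x y, polar Q (L x) (L y) = sympForm m' F x y := by
    have h5 : (polarBilin Q).compl₁₂ L L = SympBasic.sympBilin m' F := by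
      refine LinearMap.BilinForm.ext_basis (Pi.basisFun F (Fin m' ⊕ Fin m')) fun i j => ?_
      simp only [Pi.basisFun_apply, LinearMap.compl₁₂_apply, polarBilin_apply_apply,
        SympBasic.sympBilin_apply]
      rw [hLs, hLs]
      rcases i with i | i <;> rcases j with j | j
      · rw [SympBasic.sympForm_single_inl_left, e1, e1]
        have := g2 i j
        rw [hB0] at this
        rw [this]
        simp
      · rw [SympBasic.sympForm_single_inl_left, e1, e2]
        have := g1 i j
        rw [hB0] at this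
        rw [this, CharTwo.neg_eq]
        simp [Pi.single_apply]
      · rw [SympBasic.sympForm_single_inr_left, e2, e1]
        have := g1 j i
        rw [hB0, polar_symm] at this
        rw [this]
        simp [Pi.single_apply, eq_comm]
      · rw [SympBasic.sympForm_single_inr_left, e2, e2]
        have := g3 i j
        rw [hB0] at this
        rw [this]
        simp
    intro x y
    exact LinearMap.congr_fun (LinearMap.congr_fun h5 x) y
  exact ⟨{ L := L
           e := e
           w := w
           gram := hgram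
           wL := fun x => (hLmem x).1
           eL := fun x => (hLmem x).2
           ew := hew
           Qw := hQw
           span := fun v => by
             refine ⟨b'.equivFun ⟨_, proj_mem Q hew v⟩, polar Q w v, polar Q e v, ?_⟩
             change v = ((b'.equivFun.symm (b'.equivFun ⟨_, proj_mem Q hew v⟩) : W) : ι → F) + _ + _
             rw [LinearEquiv.symm_apply_apply]
             simp only
             have h6 : polar Q w v • e + polar Q w v • e = (0 : ι → F) := by
               rw [← two_smul F, h2, zero_smul]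
             have h7 : polar Q e v • w + polar Q e v • w = (0 : ι → F) := by
               rw [← two_smul F, h2, zero_smul]
             calc v = v + (polar Q w v • e + polar Q w v • e) + (polar Q e v • w + polar Q e v • w) := by
                   rw [h6, h7, add_zero, add_zero]
               _ = _ := by abel }⟩

end frame

/-! ### The relation between the stabiliser of `w` and the symplectic group -/

section rel

variable {Q : QuadraticForm F (ι → F)} {m : ℕ} (T : Fr Q m)

theorem coe_one_mulVec (x : Fin m ⊕ Fin m → F) : (1 : Matrix.symplecticGroup (Fin m) F).1 *ᵥ x = x :=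
  Matrix.one_mulVec x

theorem mulVec_mul_coe (A B : Matrix.symplecticGroup (Fin m) F) (x : Fin m ⊕ Fin m → F) :
    (A * B).1 *ᵥ x = A.1 *ᵥ (B.1 *ᵥ x) := by
  rw [Matrix.mulVec_mulVec]; rfl

/-- Pairs `(A, g)`: `g` fixes `w` and induces `A` on `w^⊥ / w`. -/
def Rel : Subgroup (Matrix.symplecticGroup (Fin m) F × Cfsg.isometryGroup F (⇑Q)) where
  carrier := {p | act p.2 T.w = T.w ∧
    ∀ x, ∃ c : F, act p.2 (T.L x) = T.L (p.1.1 *ᵥ x) + c • T.w}
  mul_mem' {a b} ha hb := by
    refine ⟨?_, fun x => ?_⟩
    · change act (a.2 * b.2) T.w = T.w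
      rw [act_mul, hb.1, ha.1]
    · obtain ⟨c, hc⟩ := hb.2 x
      obtain ⟨d, hd⟩ := ha.2 (b.1.1 *ᵥ x)
      refine ⟨d + c, ?_⟩
      change act (a.2 * b.2) (T.L x) = T.L ((a.1 * b.1).1 *ᵥ x) + _
      rw [act_mul, hc, act_add, act_smul, ha.1, hd, mulVec_mul_coe, add_smul, add_assoc]
  one_mem' := by
    refine ⟨act_one _, fun x => ⟨0, ?_⟩⟩
    change act (1 : Cfsg.isometryGroup F (⇑Q)) (T.L x) = T.L ((1 : Matrix.symplecticGroup (Fin m) F).1 *ᵥ x) + _
    rw [act_one, zero_smul, add_zero, coe_one_mulVec]
  inv_mem' {a} ha := by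
    have hw : act a.2⁻¹ T.w = T.w := by
      conv_lhs => rw [← ha.1]
      rw [act_inv_act]
    refine ⟨hw, fun x => ?_⟩
    obtain ⟨c, hc⟩ := ha.2 ((a.1⁻¹).1 *ᵥ x)
    have h1 : a.1.1 *ᵥ ((a.1⁻¹).1 *ᵥ x) = x := by
      rw [← mulVec_mul_coe, mul_inv_cancel, coe_one_mulVec]
    rw [h1] at hc
    refine ⟨-c, ?_⟩
    change act a.2⁻¹ (T.L x) = T.L ((a.1⁻¹).1 *ᵥ x) + _
    have h2 : T.L x = act a.2 (T.L ((a.1⁻¹).1 *ᵥ x)) - c • T.w := by
      rw [hc]; abel
    rw [h2, act_sub, act_smul, hw, act_inv_act, neg_smul, sub_eq_add_neg]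

variable [CharP F 2]

theorem eq_zero_of_L_w {x : Fin m ⊕ Fin m → F} {c : F} (h : T.L x + c • T.w = 0) : x = 0 ∧ c = 0 := by
  have hx : x = 0 := by
    apply SympBasic.eq_zero_of_forall_sympForm_left
    intro y
    rw [← T.gram, show T.L x = - (c • T.w) from eq_neg_of_add_eq_zero_left h, polar_neg_right, polar_smul_right,
      polar_comm Q _ T.w, T.wL]
    simp
  subst hx
  refine ⟨rfl, ?_⟩
  rw [map_zero, zero_add] at h
  have := congrArg (fun v => polar Q T.e v) h
  simp only [polar_smul_right, T.ew, polar_zero_right, smul_eq_mul, mul_one] at this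
  exact this

/-- The kernel of the projection to the symplectic group. -/
theorem ker_cases {g : Cfsg.isometryGroup F (⇑Q)} (h : ((1 : Matrix.symplecticGroup (Fin m) F), g) ∈ Rel T) :
    g = 1 ∨ g = reflIso Q T.w (by rw [T.Qw]; exact one_ne_zero) := by
  have hw : act g T.w = T.w := h.1
  have hL : ∀ x, act g (T.L x) = T.L x := by
    intro x
    obtain ⟨c, hc⟩ := h.2 x
    change act g (T.L x) = T.L ((1 : Matrix.symplecticGroup (Fin m) F).1 *ᵥ x) + _ at hc
    rw [coe_one_mulVec] at hc
    have h2 : Q (act g (T.L x)) = Q (T.L x) := Q_act g _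
    rw [hc, QuadraticMap.map_add Q, QuadraticMap.map_smul, T.Qw, polar_smul_right, polar_comm Q (T.L x) T.w, T.wL] at h2
    have h3 : c = 0 := by
      simpa using h2
    rw [hc, h3, zero_smul, add_zero]
  have hwe : polar Q T.w T.e = 1 := by rw [polar_comm]; exact T.ew
  obtain ⟨x, α, β, hd⟩ := T.span (act g T.e - T.e)
  have hge : act g T.e = T.e + (T.L x + α • T.e + β • T.w) := by rw [← hd]; abel
  have h4 : α = 0 := by
    have h5 : polar Q T.w (act g T.e) = 1 := by
      conv_lhs => rw [← hw]
      rw [polar_act, hwe]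
    rw [hge, polar_add_right, polar_add_right, polar_add_right, T.wL, polar_smul_right, polar_smul_right, hwe,
      polar_self_two] at h5
    simpa using h5
  subst h4
  have h6 : x = 0 := by
    apply SympBasic.eq_zero_of_forall_sympForm_right
    intro y
    have h7 : polar Q (act g T.e) (T.L y) = 0 := by
      conv_lhs => rw [← hL y]
      rw [polar_act, T.eL]
    rw [hge, polar_add_left, polar_add_left, polar_add_left, T.eL, polar_smul_left, polar_smul_left, T.wL,
      T.gram] at h7
    simpa using h7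
  subst h6
  rw [map_zero, zero_smul, zero_add, zero_add] at hge
  have h8 : β = 0 ∨ β = 1 := by
    have h9 : Q (act g T.e) = Q T.e := Q_act g _
    rw [hge, QuadraticMap.map_add Q, QuadraticMap.map_smul, T.Qw, polar_smul_right, T.ew] at h9
    have h10 : β * (β + 1) = 0 := by
      have : Q T.e + (β * β + β) = Q T.e := by
        simpa [smul_eq_mul, add_assoc] using h9
      have h11 : β * β + β = 0 := by
        exact left_eq_add.1 this.symm
      rw [mul_add, mul_one]
      exact h11
    rcases mul_eq_zero.1 h10 with h11 | h11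
    · exact Or.inl h11
    · exact Or.inr (by rw [← CharTwo.neg_eq (1 : F)]; exact eq_neg_of_add_eq_zero_left h11)
  rcases h8 with h8 | h8
  · left
    apply act_ext
    intro v
    obtain ⟨y, a, b, hv⟩ := T.span v
    rw [act_one, hv, act_add, act_add, act_smul, act_smul, hL, hw, hge, h8, zero_smul, add_zero]
  · right
    apply act_ext
    intro v
    obtain ⟨y, a, b, hv⟩ := T.span v
    rw [act_refl, hv, act_add, act_add, act_smul, act_smul, hL, hw, hge, h8, polar_add_right, polar_add_right,
      polar_smul_right, polar_smul_right, T.wL, hwe, polar_self_two, T.Qw]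
    simp only [one_smul, inv_one, smul_eq_mul, mul_one, mul_zero, add_zero, zero_add, one_mul]
    rw [sub_eq_add_neg, ← neg_smul, CharTwo.neg_eq, smul_add]
    abel

/-- The family `L (A e_i) + c_i w`, `w`. -/
def fam (A : Matrix.symplecticGroup (Fin m) F) (c : Fin m ⊕ Fin m → F) : (Fin m ⊕ Fin m) ⊕ Unit → (ι → F)
  | Sum.inl i => T.L (A.1 *ᵥ Pi.single i 1) + c i • T.w
  | Sum.inr _ => T.w

theorem sum_fam (A : Matrix.symplecticGroup (Fin m) F) (c x : Fin m ⊕ Fin m → F) :
    ∑ i, x i • (T.L (A.1 *ᵥ Pi.single i 1) + c i • T.w) = T.L (A.1 *ᵥ x) + (∑ i, x i * c i) • T.w := by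
  simp only [smul_add, Finset.sum_add_distrib]
  congr 1
  · rw [← Matrix.toLin'_apply, ← LinearMap.comp_apply]
    conv_rhs => rw [pi_eq_sum_univ' x]
    rw [map_sum]
    refine Finset.sum_congr rfl fun i _ => ?_
    rw [map_smul]
    rfl
  · rw [Finset.sum_smul]
    exact Finset.sum_congr rfl fun i _ => by rw [smul_smul]

theorem fam_li (A : Matrix.symplecticGroup (Fin m) F) (c : Fin m ⊕ Fin m → F) :
    LinearIndependent F (fam T A c) := by
  rw [Fintype.linearIndependent_iff]
  intro g hg
  rw [Fintype.sum_sum_type] at hg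
  simp only [fam, Finset.univ_unique, Finset.sum_singleton] at hg
  rw [sum_fam T A c (fun i => g (Sum.inl i)), add_assoc, ← add_smul] at hg
  obtain ⟨h1, h2⟩ := eq_zero_of_L_w T hg
  have h3 : (fun i => g (Sum.inl i)) = 0 := by
    have h4 : (A⁻¹).1 *ᵥ (A.1 *ᵥ fun i => g (Sum.inl i)) = fun i => g (Sum.inl i) := by
      rw [← mulVec_mul_coe, inv_mul_cancel, coe_one_mulVec]
    rw [← h4, h1, Matrix.mulVec_zero]
  intro j
  rcases j with j | j
  · exact congrFun h3 j
  · have h5 : ∀ i, g (Sum.inl i) = 0 := fun i => congrFun h3 i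
    simp only [h5, zero_mul, Finset.sum_const_zero, zero_add] at h2
    exact h2

theorem Q_fam (A : Matrix.symplecticGroup (Fin m) F) (c : Fin m ⊕ Fin m → F) (i : Fin m ⊕ Fin m) :
    Q (fam T A c (Sum.inl i)) = Q (T.L (A.1 *ᵥ Pi.single i 1)) + c i * c i := by
  change Q (T.L (A.1 *ᵥ Pi.single i 1) + c i • T.w) = _
  rw [QuadraticMap.map_add Q, QuadraticMap.map_smul, T.Qw, polar_smul_right, polar_comm Q _ T.w, T.wL]
  simp

theorem polar_fam (A : Matrix.symplecticGroup (Fin m) F) (c : Fin m ⊕ Fin m → F) (i j : (Fin m ⊕ Fin m) ⊕ Unit) :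
    polar Q (fam T A c i) (fam T A c j) = match i, j with
      | Sum.inl i, Sum.inl j => sympForm m F (Pi.single i 1) (Pi.single j 1)
      | _, _ => 0 := by
  have hLw : ∀ x, polar Q (T.L x) T.w = 0 := fun x => by rw [polar_comm, T.wL]
  rcases i with i | i <;> rcases j with j | j <;>
    simp only [fam, polar_add_left, polar_add_right, polar_smul_left, polar_smul_right, T.wL, hLw,
      polar_self_two, T.gram, smul_zero, add_zero]
  exact SympBasic.sympForm_mulVec A.2 _ _

theorem surj [Finite F] (hQ : (polarBilin Q).Nondegenerate) (A : Matrix.symplecticGroup (Fin m) F) :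
    ∃ g : Cfsg.isometryGroup F (⇑Q), (A, g) ∈ Rel T := by
  classical
  have hsq : ∀ i : Fin m ⊕ Fin m, ∃ c : F,
      c * c = Q (T.L (Pi.single i 1)) + Q (T.L (A.1 *ᵥ Pi.single i 1)) := fun i => by
    obtain ⟨c, hc⟩ := FiniteField.isSquare_of_char_two (F := F) (ringChar.eq F 2)
      (Q (T.L (Pi.single i 1)) + Q (T.L (A.1 *ᵥ Pi.single i 1)))
    exact ⟨c, hc.symm⟩
  choose c hc using hsq
  let E := Fintype.equivFin ((Fin m ⊕ Fin m) ⊕ Unit)
  obtain ⟨g, hg, hg2⟩ := WittQuad.extend_family Q hQ (Fintype.card ((Fin m ⊕ Fin m) ⊕ Unit))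
    (fam T 1 0 ∘ E.symm) (fam T A c ∘ E.symm)
    ((linearIndependent_equiv E.symm).2 (fam_li T 1 0))
    ((linearIndependent_equiv E.symm).2 (fam_li T A c))
    (by
      intro i
      simp only [Function.comp_apply]
      rcases E.symm i with j | j
      · rw [Q_fam, Q_fam, hc, coe_one_mulVec]
        simp only [Pi.zero_apply, mul_zero, add_zero]
        rw [add_comm (Q (T.L (Pi.single j 1))), ← add_assoc, CharTwo.add_self_eq_zero, zero_add]
      · rfl)
    (by
      intro i j
      simp only [Function.comp_apply, polarBilin_apply_apply]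
      rw [polar_fam, polar_fam])
  have hg3 : ∀ j, g (fam T 1 0 j) = fam T A c j := fun j => by
    have := hg2 (E j)
    simpa using this
  have hact : ∀ v, act ((LieClassical.OrthCount.isometryGroupEquiv Q).symm ⟨g, hg⟩) v = g v := by
    intro v
    rw [act_def, ← LieClassical.OrthCount.glEquiv_apply]
    exact congrFun (congrArg (fun k : LieClassical.OrthCount.OG Q => ((k : (ι → F) ≃ₗ[F] (ι → F)) : (ι → F) → (ι → F)))
      ((LieClassical.OrthCount.isometryGroupEquiv Q).apply_symm_apply ⟨g, hg⟩)) v
  refine ⟨(LieClassical.OrthCount.isometryGroupEquiv Q).symm ⟨g, hg⟩, ?_, fun x => ⟨∑ i, x i * c i, ?_⟩⟩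
  · rw [hact]
    exact hg3 (Sum.inr ())
  · rw [hact]
    have h1 : T.L x = ∑ i, x i • fam T 1 0 (Sum.inl i) := by
      have := sum_fam T 1 0 x
      simp only [Pi.zero_apply, mul_zero, Finset.sum_const_zero, zero_smul, add_zero, coe_one_mulVec] at this
      rw [← this]
      refine Finset.sum_congr rfl fun i _ => ?_
      simp only [fam, Pi.zero_apply, zero_smul, add_zero, coe_one_mulVec]
    rw [h1, map_sum]
    rw [← sum_fam]
    refine Finset.sum_congr rfl fun i _ => ?_
    rw [map_smul, hg3]
    rfl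

end rel

/-! ### The embedding -/

theorem exists_sp_in_omega [Fintype F] [CharP F 2] (Q : QuadraticForm F (ι → F))
    (hQ : (polarBilin Q).Nondegenerate) {m : ℕ} (hι : Fintype.card ι = 2 * (m + 1))
    (hm : 3 ≤ m ∨ (m = 2 ∧ 3 ≤ Fintype.card F) ∨ (1 ≤ m ∧ 4 ≤ Fintype.card F)) :
    ∃ f : Matrix.symplecticGroup (Fin m) F →* Cfsg.POmega F (⇑Q), Function.Injective f := by
  classical
  obtain ⟨T⟩ := exists_frame Q hQ hι
  have h2 : (2 : F) = 0 := CharTwo.two_eq_zero
  have hm1 : 1 ≤ m := by omega
  have hperf : commutator (Matrix.symplecticGroup (Fin m) F) = ⊤ :=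
    LieClassical.SympPerfect.commutator_eq_top (by omega)
  let π : Rel T →* Matrix.symplecticGroup (Fin m) F := (MonoidHom.fst _ _).comp (Rel T).subtype
  let σ : Rel T →* Cfsg.isometryGroup F (⇑Q) := (MonoidHom.snd _ _).comp (Rel T).subtype
  have hπ : Function.Surjective π := fun A => by
    obtain ⟨g, hg⟩ := surj T hQ A
    exact ⟨⟨_, hg⟩, rfl⟩
  have hσc : ∀ r ∈ commutator (Rel T), σ r ∈ commutator (Cfsg.isometryGroup F (⇑Q)) := by
    intro r hr
    have h1 : σ r ∈ (commutator (Rel T)).map σ := ⟨r, hr, rfl⟩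
    have h3 : (commutator (Rel T)).map σ ≤ commutator (Cfsg.isometryGroup F (⇑Q)) := by
      rw [commutator_def, commutator_def, Subgroup.map_commutator]
      exact Subgroup.commutator_mono le_top le_top
    exact h3 h1
  have hcard : (∃ θ : F, θ ≠ 0 ∧ θ ≠ 1) ∨ Fintype.card ι ≠ 4 := by
    rcases hm with hm | hm | hm
    · right; omega
    · right; omega
    · left
      by_contra hne
      push Not at hne
      have h5 : Fintype.card F ≤ 2 := by
        have : (Finset.univ : Finset F) ⊆ {0, 1} := by
          intro x _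
          by_cases hx : x = 0
          · simp [hx]
          · simp [hne x hx]
        calc Fintype.card F = (Finset.univ : Finset F).card := rfl
          _ ≤ ({0, 1} : Finset F).card := Finset.card_le_card this
          _ ≤ 2 := Finset.card_le_two
      omega
  have hk : ∀ r ∈ commutator (Rel T), π r = 1 → σ r = 1 := by
    intro r hr h1
    have h3 : ((1 : Matrix.symplecticGroup (Fin m) F), σ r) ∈ Rel T := by
      have h4 : r.1 = (1, σ r) := Prod.ext h1 rfl
      rw [← h4]
      exact r.2
    rcases ker_cases T h3 with h4 | h4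
    · exact h4
    · exfalso
      have h5 := hσc r hr
      rw [h4] at h5
      exact OrthDickson.refl_notMem_commutator Q hQ hcard T.w _ h5
  obtain ⟨f, hf⟩ := lift_of_perfect π σ hπ hperf hk
  refine ⟨(QuotientGroup.mk' _).comp f, ?_⟩
  rw [injective_iff_map_eq_one]
  intro s hs
  have hs' : f s ∈ Subgroup.center (Cfsg.Omega F (⇑Q)) := by
    rw [MonoidHom.comp_apply, QuotientGroup.mk'_apply, QuotientGroup.eq_one_iff] at hs
    exact hs
  have hlift : ∀ A : Matrix.symplecticGroup (Fin m) F, ∃ r ∈ commutator (Rel T), π r = A := by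
    intro A
    have h3 : A ∈ (commutator (Rel T)).map π := by
      rw [map_commutator_surj π hπ, hperf]; exact Subgroup.mem_top A
    obtain ⟨r, hr, h4⟩ := h3
    exact ⟨r, hr, h4⟩
  -- `σ` determines the element of `Rel T`
  have hinj : ∀ r r' : Rel T, σ r = σ r' → r = r' := by
    intro r r' h
    have h3 : σ (r * r'⁻¹) = 1 := by rw [map_mul, map_inv, h, mul_inv_cancel]
    have h4 : (π (r * r'⁻¹)) = 1 := by
      apply Subtype.ext
      apply Matrix.mulVec_injective
      funext x
      obtain ⟨c, hc⟩ := (r * r'⁻¹).2.2 x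
      change act (σ (r * r'⁻¹)) (T.L x) = T.L ((π (r * r'⁻¹)).1 *ᵥ x) + c • T.w at hc
      rw [h3, act_one] at hc
      have h5 : T.L ((π (r * r'⁻¹)).1 *ᵥ x - x) + c • T.w = 0 := by
        rw [map_sub]
        calc T.L ((π (r * r'⁻¹)).1 *ᵥ x) - T.L x + c • T.w
            = (T.L ((π (r * r'⁻¹)).1 *ᵥ x) + c • T.w) - T.L x := by abel
          _ = 0 := by rw [← hc, sub_self]
      have h6 := (eq_zero_of_L_w T h5).1
      rw [sub_eq_zero.1 h6]
      exact (coe_one_mulVec x).symm
    have h5 : r * r'⁻¹ = 1 := Subtype.ext (Prod.ext h4 h3)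
    exact mul_inv_eq_one.1 h5
  have hcen : s ∈ Subgroup.center (Matrix.symplecticGroup (Fin m) F) := by
    rw [Subgroup.mem_center_iff]
    intro A
    obtain ⟨r, hr, rfl⟩ := hlift s
    obtain ⟨t, ht, rfl⟩ := hlift A
    rw [Subgroup.mem_center_iff] at hs'
    have h3 := congrArg Subtype.val (hs' (f (π t)))
    rw [Subgroup.coe_mul, Subgroup.coe_mul, hf t ht, hf r hr, ← map_mul, ← map_mul] at h3
    rw [← map_mul, ← map_mul, hinj _ _ h3]
  obtain ⟨a, ha⟩ := (LieClassical.SympCenter.mem_center_iff m s).1 hcen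
  have ha2 := LieClassical.SympCenter.sq_eq_one_of_smul_mem hm1 (ha ▸ s.2)
  have ha1 : a = 1 := by
    have h3 : (a + 1) * (a + 1) = 0 := by
      have : (a + 1) * (a + 1) = a * a + 2 * a + 1 := by ring
      rw [this, ha2, h2, zero_mul, add_zero]
      exact CharTwo.add_self_eq_zero 1
    have h4 : a + 1 = 0 := mul_self_eq_zero.1 h3
    rw [← CharTwo.neg_eq (1 : F)]
    exact eq_neg_of_add_eq_zero_left h4
  apply Subtype.ext
  rw [ha, ha1, one_smul]
  rfl

theorem sp_in_plus [Fintype F] [CharP F 2] {n : ℕ} (hn : 4 ≤ n) :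
    ∃ f : Matrix.symplecticGroup (Fin (n - 1)) F →* Cfsg.POmega F (Cfsg.quadFormPlus n F), Function.Injective f := by
  rw [← LieClassical.OmegaReindex.coe_quadPlus]
  exact exists_sp_in_omega _ LieClassical.OmegaReindex.quadPlus_nondegenerate
    (by simp only [Fintype.card_sum, Fintype.card_fin]; omega) (Or.inl (by omega))

theorem sp_in_minus [Fintype F] [CharP F 2] {n : ℕ} (hn : 4 ≤ n) {a b : F}
    (hab : ∀ z₁ z₂ : F, z₁ ^ 2 + a * z₁ * z₂ + b * z₂ ^ 2 = 0 → z₁ = 0 ∧ z₂ = 0) :
    ∃ f : Matrix.symplecticGroup (Fin (n - 1)) F →* Cfsg.POmega F (Cfsg.quadFormMinus (n - 1) F a b),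
      Function.Injective f := by
  rw [← LieClassical.OmegaReindex.coe_quadMinus]
  exact exists_sp_in_omega _ (LieClassical.OmegaReindex.quadMinus_nondegenerate hab)
    (by simp only [Fintype.card_sum, Fintype.card_fin]; omega) (Or.inl (by omega))

end Cfsg.Agent.H382.SpOm
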