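import Cfsg.Agent.H382.Own5OmEnd
import Cfsg.Agent.H376.Six.Own

/-!
# Own characteristic covers relative to a set of orders, `q = 5^m` (helper382)

* `own5'` : as `own5`, the element has order 10 or `r`;
* `ownCov_sp`, `ownCov_odd`, `ownCov_plus` : `OwnCov 5 (UB5 q) L` for `L = PSp₆(q), Ω₇(q), PΩ₈⁺(q)`, `q = 5^m`.
-/

set_option autoImplicit false

universe u w

namespace Cfsg.Agent.H382.Own5

open Finset

/-- **Elements of order 10.** -/
theorem ten' {G V : Type*} [Group G] [AddCommGroup V] (hV : ∀ v : V, 5 • v = 0) (φ : G →* AddMonoid.End V)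
    {z u : G} (hz : z * z = 1) (hz1 : z ≠ 1) (hu : u ^ 5 = 1) (hc : Commute z u)
    (hne : (∑ i ∈ range 5, φ u ^ i) * (1 + φ z) ≠ 0) :
    ∃ (x : G) (v : V), ∑ i ∈ range (orderOf x), φ (x ^ i) v ≠ 0 ∧ orderOf x = 10 := by
  have h5 : (5 : AddMonoid.End V) = 0 := by
    ext v
    have h := hV v
    rw [← AddMonoid.End.natCast_apply] at h
    exact h
  have hx10 : (z * u) ^ 10 = 1 := by
    rw [hc.mul_pow, show 10 = 2 * 5 by norm_num, pow_mul, pow_two, hz, one_pow, one_mul, mul_comm 2 5, pow_mul, hu, one_pow]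
  have hord : orderOf (z * u) = 10 := by
    refine orderOf_eq_of_pow_and_pow_div_prime (by norm_num) hx10 ?_
    intro p hp hpd
    have hp2 : p = 2 ∨ p = 5 := by
      have h1 : p ∣ 2 * 5 := by simpa using hpd
      rcases hp.dvd_mul.1 h1 with h | h
      · exact Or.inl ((Nat.prime_dvd_prime_iff_eq hp Nat.prime_two).1 h)
      · exact Or.inr ((Nat.prime_dvd_prime_iff_eq hp Nat.prime_five).1 h)
    rcases hp2 with rfl | rfl
    · intro h
      apply hz1
      have hz2 : z ^ 2 = 1 := by rw [pow_two, hz]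
      rw [show 10 / 2 = 5 by norm_num, hc.mul_pow, hu, mul_one, show 5 = 2 * 2 + 1 by norm_num, pow_succ, pow_mul,
        hz2, one_pow, one_mul] at h
      exact h
    · intro h
      rw [show 10 / 5 = 2 by norm_num, hc.mul_pow, pow_two, hz, one_mul] at h
      have hu1 : u = 1 := by
        have : u ^ 5 = u := by rw [show 5 = 2 * 2 + 1 by norm_num, pow_succ, pow_mul, h, one_pow, one_mul]
        rw [← this, hu]
      apply hne
      rw [hu1, map_one]
      simp [h5]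
  have hsum : ∑ i ∈ range 10, φ ((z * u) ^ i) = (∑ i ∈ range 5, φ u ^ i) * (1 + φ z) := by
    have hcZ : φ z * φ u = φ u * φ z := by rw [← map_mul, ← map_mul, hc.eq]
    have hZ : φ z * φ z = 1 := by rw [← map_mul, hz, map_one]
    have hU : φ u ^ 5 = 1 := by rw [← map_pow, hu, map_one]
    have hpow : ∀ i, φ ((z * u) ^ i) = φ u ^ i * φ z ^ i := by
      intro i
      rw [hc.mul_pow, map_mul, map_pow, map_pow]
      exact ((show Commute (φ z) (φ u) from hcZ).pow_pow i i).eq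
    rw [sum_congr rfl fun i _ => hpow i]
    generalize φ z = Z at *
    generalize φ u = U at *
    have hZ2 : Z ^ 2 = 1 := by rw [pow_two, hZ]
    have hZe : ∀ k, Z ^ (2 * k) = 1 := fun k => by rw [pow_mul, hZ2, one_pow]
    have hZo : ∀ k, Z ^ (2 * k + 1) = Z := fun k => by rw [pow_succ, hZe, one_mul]
    have hUr : ∀ k, U ^ (5 + k) = U ^ k := fun k => by rw [pow_add, hU, one_mul]
    simp only [sum_range_succ, sum_range_zero]
    rw [show U ^ 6 = U ^ 1 from hUr 1, show U ^ 7 = U ^ 2 from hUr 2, show U ^ 8 = U ^ 3 from hUr 3,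
      show U ^ 9 = U ^ 4 from hUr 4, hU, show Z ^ 3 = Z from hZo 1, show Z ^ 5 = Z from hZo 2,
      show Z ^ 7 = Z from hZo 3, show Z ^ 9 = Z from hZo 4, hZ2, show Z ^ 4 = 1 from hZe 2,
      show Z ^ 6 = 1 from hZe 3, show Z ^ 8 = 1 from hZe 4]
    noncomm_ring
  obtain ⟨v, hv⟩ : ∃ v, ((∑ i ∈ range 5, φ u ^ i) * (1 + φ z)) v ≠ 0 := by
    by_contra h
    push Not at h
    exact hne (AddMonoidHom.ext h)
  refine ⟨z * u, v, ?_, ?_⟩
  · rw [hord]
    rw [← hsum] at hv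
    have h1 : (∑ i ∈ range 10, φ ((z * u) ^ i)) v = ∑ i ∈ range 10, φ ((z * u) ^ i) v :=
      AddMonoidHom.finsetSum_apply _ _ _
    rwa [h1] at hv
  · exact hord

/-- **The main argument.** -/
theorem own5' {G : Type*} [Group G] [Finite G] [IsSimpleGroup G] {z z' u s : G} {e : A → G} (H : Cfg z z' u s e)
    {r : ℕ} (hr : r.Prime) (hr5 : r ≠ 5) (hrG : r ∣ Nat.card G)
    {V : Type*} [AddCommGroup V] [Nontrivial V]
    (hV : ∀ v : V, 5 • v = 0) (φ : G →* AddMonoid.End V) :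
    ∃ (x : G) (v : V), ∑ i ∈ range (orderOf x), φ (x ^ i) v ≠ 0 ∧ (orderOf x = 10 ∨ orderOf x = r) := by
  by_cases hN : (∑ i ∈ range 5, φ u ^ i) * (1 + φ z) = 0
  swap
  · obtain ⟨x, v, h1, h2⟩ := ten' hV φ H.z2 H.z1 H.u5 H.zu hN
    exact ⟨x, v, h1, Or.inl h2⟩
  have h5 : (5 : AddMonoid.End V) = 0 := by
    ext v
    have h := hV v
    rw [← AddMonoid.End.natCast_apply] at h
    exact h
  have hZ : φ z * (1 + φ z) = 1 + φ z := by
    rw [mul_add, mul_one, ← map_mul, H.z2, map_one, add_comm]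
  have hZ' : φ z' * (1 + φ z) = 1 + φ z := by
    obtain ⟨a, ha⟩ := H.mem
    rw [← ha]
    refine block h5 (fun a => φ (e a)) (φ u) (1 + φ z) ?_ ?_ ?_ ?_ ?_ hN a
    · show φ (e 1) * _ = _
      rw [H.one, map_one, one_mul]
    · intro a b
      show φ (e a) * φ (e b) * _ = φ (e (a * b)) * _
      rw [← map_mul]
      rcases H.mul a b with h | h
      · rw [h]
      · rw [h, map_mul, mul_assoc, hZ]
    · intro a
      show φ u * φ (e a) * _ = φ (e (T a)) * φ u * _
      rw [← map_mul, ← map_mul]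
      rcases H.conj a with h | h
      · rw [h]
      · rw [h, map_mul, mul_assoc, hZ]
    · intro a
      show _ * φ (e a) = φ (e a) * _
      rw [add_mul, mul_add, ← map_mul, ← map_mul, H.ze, one_mul, mul_one]
    · rw [add_mul, mul_add, ← map_mul, ← map_mul, H.zu, one_mul, mul_one]
  have hs : φ s * φ s⁻¹ = 1 := by rw [← map_mul, mul_inv_cancel, map_one]
  have hsz : φ s * φ z * φ s⁻¹ = φ z' := by
    rw [← map_mul, H.s1, map_mul, mul_assoc, hs, mul_one]
  have hsz' : φ s * φ z' * φ s⁻¹ = φ z := by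
    rw [← map_mul, H.s2, map_mul, mul_assoc, hs, mul_one]
  have hs' : φ s⁻¹ * φ s = 1 := by rw [← map_mul, inv_mul_cancel, map_one]
  have hZ'' : φ z * (1 + φ z') = 1 + φ z' := by
    have h1 : φ s * (φ z' * (1 + φ z)) * φ s⁻¹ = φ s * (1 + φ z) * φ s⁻¹ := by rw [hZ']
    have h2 : φ s * (1 + φ z) * φ s⁻¹ = 1 + φ z' := by
      rw [mul_add, add_mul, hsz, mul_one, hs]
    have h3 : φ s * (φ z' * (1 + φ z)) * φ s⁻¹ = (φ s * φ z' * φ s⁻¹) * (φ s * (1 + φ z) * φ s⁻¹) := by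
      have : φ s * φ z' * φ s⁻¹ * (φ s * (1 + φ z) * φ s⁻¹) =
        φ s * φ z' * (φ s⁻¹ * φ s) * (1 + φ z) * φ s⁻¹ := by noncomm_ring
      rw [this, hs']
      noncomm_ring
    rw [h3, h2, hsz'] at h1
    exact h1
  have hcomm : φ z' * φ z = φ z * φ z' := by
    obtain ⟨a, ha⟩ := H.mem
    rw [← ha, ← map_mul, ← map_mul, H.ze]
  have hab : φ z' = φ z := by
    have h1 : φ z' + φ z' * φ z = 1 + φ z := by rw [← hZ', mul_add, mul_one]
    have h2 : φ z + φ z * φ z' = 1 + φ z' := by rw [← hZ'', mul_add, mul_one]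
    have h3 : (2 : AddMonoid.End V) * (φ z' - φ z) = 0 := by
      have h4 : φ z' - φ z = φ z - φ z' := by
        calc φ z' - φ z = (φ z' + φ z' * φ z) - (φ z + φ z * φ z') := by rw [hcomm]; abel
          _ = (1 + φ z) - (1 + φ z') := by rw [h1, h2]
          _ = _ := by abel
      calc (2 : AddMonoid.End V) * (φ z' - φ z) = (φ z' - φ z) + (φ z' - φ z) := by rw [two_mul]
        _ = (φ z' - φ z) + (φ z - φ z') := by rw [h4]
        _ = 0 := by abel
    have h4 : φ z' - φ z = 0 := by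
      have h6 : (5 : AddMonoid.End V) * (φ z' - φ z) = 0 := by rw [h5, zero_mul]
      have h7 : (5 : AddMonoid.End V) = 2 * 2 + 1 := by norm_num
      rw [h7, add_mul, one_mul, mul_assoc, h3, mul_zero, zero_add] at h6
      exact h6
    exact sub_eq_zero.1 h4
  have hker : φ (z * z') = 1 := by rw [map_mul, hab, ← map_mul, H.z2, map_one]
  have htop : φ.ker = ⊤ := by
    rcases IsSimpleGroup.eq_bot_or_eq_top_of_normal φ.ker inferInstance with h | h
    · exfalso
      apply H.ne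
      have : z * z' ∈ φ.ker := hker
      rwa [h, Subgroup.mem_bot] at this
    · exact h
  have htriv : ∀ g, φ g = 1 := fun g => by
    have : g ∈ φ.ker := by rw [htop]; trivial
    exact this
  have := Fact.mk hr
  obtain ⟨x, hx⟩ := exists_prime_orderOf_dvd_card' r hrG
  obtain ⟨v, hv⟩ := exists_ne (0 : V)
  refine ⟨x, v, ?_, ?_⟩
  · rw [sum_congr rfl fun i _ => by rw [htriv]]
    show ∑ i ∈ range (orderOf x), v ≠ 0
    rw [sum_const, card_range, hx]
    intro h2
    apply hv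
    have h3 : IsCoprime (r : ℤ) (5 : ℤ) := by
      have := (Nat.coprime_primes hr Nat.prime_five).2 hr5
      exact_mod_cast Nat.isCoprime_iff_coprime.2 this
    obtain ⟨a, b, hab⟩ := h3
    have h4 : (a * (r : ℤ) + b * 5) • v = 0 := by
      rw [add_smul, mul_smul, mul_smul, natCast_zsmul, h2, smul_zero, zero_add]
      have : (5 : ℤ) • v = 5 • v := by rw [← natCast_zsmul]; rfl
      rw [this, hV, smul_zero]
    rwa [hab, one_smul] at h4
  · exact Or.inr hx


open Matrix Cfsg Module QuadraticMap Cfsg.Agent.H376.Six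
open Cfsg.Agent.LieClassical.OrthCount Cfsg.Agent.LieClassical.OmegaReindex Cfsg.Agent.LieClassical


theorem five_pow {F : Type*} [Field F] [Fintype F] [CharP F 5] : ∃ n : ℕ, 1 ≤ n ∧ Fintype.card F = 5 ^ n := by
  obtain ⟨n, -, hn⟩ := FiniteField.card F 5
  exact ⟨n, n.2, hn⟩

theorem not_ub {q N : ℕ} (hq : 5 ∣ q) (hq4 : q % 4 = 1) (hN : ¬ N ∣ q ^ 2 + 1) (hN' : ¬ N ∣ q ^ 2 - 1) (hN5 : ¬ N ∣ 5) :
    ¬ UB5 q (5 * N) := by
  have hq0 : 0 < q := by omega
  have h1 : ∀ k, 1 ≤ k → 5 ∣ q ^ k := fun k hk => dvd_pow hq (by omega)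
  have h2 : ∀ k, 1 ≤ q ^ k := fun k => Nat.one_le_pow _ _ hq0
  have hsub : ∀ k, 1 ≤ k → ¬ 5 ∣ q ^ k - 1 := by
    intro k hk h
    have h3 := (Nat.dvd_sub (h1 k hk) h)
    have h4 := h2 k
    rw [show q ^ k - (q ^ k - 1) = 1 by omega] at h3
    omega
  have hadd : ∀ k, 1 ≤ k → ¬ 5 ∣ q ^ k + 1 := by
    intro k hk h
    have h3 := (Nat.dvd_sub h (h1 k hk))
    rw [show q ^ k + 1 - q ^ k = 1 by omega] at h3
    omega
  have hdiv : ∀ a b : ℕ, b ∣ a → 5 * N ∣ a / b → 5 ∣ a := by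
    intro a b hb h
    obtain ⟨c, rfl⟩ := hb
    rcases Nat.eq_zero_or_pos b with rfl | hb0
    · simp
    · rw [Nat.mul_div_cancel_left _ hb0] at h
      exact ((Dvd.intro _ rfl : 5 ∣ 5 * N).trans h).mul_left _
  have h4 : ∀ k, q ^ k % 4 = 1 := by
    intro k
    rw [Nat.pow_mod, hq4, one_pow]
    rfl
  have h43 := h4 3
  have h44 := h4 4
  rintro (h | h | h | h | h | h)
  · exact hsub 3 (by norm_num) (hdiv _ 2 (by omega) h)
  · exact hadd 3 (by norm_num) (hdiv _ 2 (by omega) h)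
  · exact hsub 4 (by norm_num) (hdiv _ 4 (by omega) h)
  · exact hN (Nat.dvd_of_mul_dvd_mul_left (by norm_num) h)
  · exact hN' (Nat.dvd_of_mul_dvd_mul_left (by norm_num) h)
  · exact hN5 (Nat.dvd_of_mul_dvd_mul_left (k := 5) (by norm_num) (by simpa using h))

theorem card_mod {F : Type*} [Field F] [Fintype F] [CharP F 5] : 5 ∣ Fintype.card F ∧ Fintype.card F % 4 = 1 := by
  obtain ⟨n, hn, h⟩ := five_pow (F := F)
  rw [h]
  exact ⟨dvd_pow_self _ (by omega), by rw [Nat.pow_mod]; norm_num⟩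

theorem not_ub_ten {F : Type*} [Field F] [Fintype F] [CharP F 5] : ¬ UB5 (Fintype.card F) (5 * 10) := by
  obtain ⟨h5, h4⟩ := card_mod (F := F)
  have h1 : 5 ∣ Fintype.card F ^ 2 := dvd_pow h5 (by norm_num)
  have h2 : 1 ≤ Fintype.card F ^ 2 := Nat.one_le_pow _ _ Fintype.card_pos
  refine not_ub h5 h4 ?_ ?_ (by norm_num)
  · intro h
    have h3 : 5 ∣ Fintype.card F ^ 2 + 1 := (by norm_num : 5 ∣ 10).trans h
    omega
  · intro h
    have h3 : 5 ∣ Fintype.card F ^ 2 - 1 := (by norm_num : 5 ∣ 10).trans h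
    omega

/-- the prime `r` -/
theorem exists_r' {F : Type*} [Field F] [Fintype F] [CharP F 5] {L : Type*} [Group L] (h : H424.SpecL.LF F 5 L) :
    ∃ r : ℕ, r.Prime ∧ r ≠ 5 ∧ r ∣ Nat.card L ∧ ¬ UB5 (Fintype.card F) (5 * r) := by
  obtain ⟨h5, h4⟩ := card_mod (F := F)
  have hq : 3 ≤ Nat.card F := by
    have := Nat.le_of_dvd Fintype.card_pos h5
    rw [Nat.card_eq_fintype_card]
    omega
  obtain ⟨r, hr⟩ := H424.Zs.exists_pr (F := F) hq (e := 6) (by norm_num)
  have hno : ∀ k, 1 ≤ k → k < 6 → ¬ r ∣ Fintype.card F ^ k - 1 := by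
    intro k hk hk6 hd
    have h1 : ((Nat.card F : ℕ) : ZMod r) ^ k = 1 := by
      have h2 : ((Fintype.card F ^ k : ℕ) : ZMod r) = ((1 : ℕ) : ZMod r) :=
        ((ZMod.natCast_eq_natCast_iff _ _ _).2
          ((Nat.modEq_iff_dvd' (Nat.one_le_pow _ _ Fintype.card_pos)).2 hd)).symm
      rw [Nat.card_eq_fintype_card]
      exact_mod_cast h2
    have h3 := orderOf_dvd_of_pow_eq_one h1
    rw [hr.ord] at h3
    have := Nat.le_of_dvd (by omega) h3
    omega
  refine ⟨r, hr.prime, hr.ne_char 5, h.dvd r 6 hr (Or.inr (Or.inr rfl)), not_ub h5 h4 ?_ (hno 2 (by norm_num) (by norm_num)) ?_⟩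
  · intro hd
    apply hno 4 (by norm_num) (by norm_num)
    have h1 : Fintype.card F ^ 4 - 1 = (Fintype.card F ^ 2 + 1) * (Fintype.card F ^ 2 - 1) := by
      rw [← Nat.sq_sub_sq, ← pow_mul, one_pow]
    rw [h1]
    exact hd.mul_right _
  · intro hd
    exact hr.ne_char 5 ((Nat.prime_dvd_prime_iff_eq hr.prime Nat.prime_five).1 hd)

theorem ownCov_sp {F : Type*} [Field F] [Fintype F] [CharP F 5] :
    OwnCov.{_, w} 5 (UB5 (Fintype.card F)) (PSp 3 F) := by
  intro V _ _ _ hV φ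
  have : IsSimpleGroup (PSp 3 F) := Cfsg.Agent.S0270.result 3 (by norm_num) (by norm_num)
  obtain ⟨r, hr, hr5, hd, hno⟩ := exists_r' (H424.SpecL.lf_psp (F := F) 5)
  obtain ⟨x, v, h1, h2⟩ := own5' cfg_sp hr hr5 hd hV φ
  refine ⟨x, v, h1, ?_⟩
  rcases h2 with h2 | h2 <;> rw [h2]
  · exact not_ub_ten
  · exact hno

theorem ownCov_odd {F : Type*} [Field F] [Fintype F] [CharP F 5] :
    OwnCov.{_, w} 5 (UB5 (Fintype.card F)) (POmega F (quadFormOdd 3 F)) := by
  intro V _ _ _ hV φ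
  have h2 := two_ne F
  have ho : Odd (Fintype.card F) := by
    rw [Nat.odd_iff]
    have := (card_mod (F := F)).2
    omega
  have : IsSimpleGroup (POmega F (quadFormOdd 3 F)) := Cfsg.Agent.S0295.result ho 3 (by norm_num)
  obtain ⟨r, hr, hr5, hd, hno⟩ := exists_r' (H424.SpecL.lf_odd (F := F) 5 ho)
  have hnd : H150.ND (sq F (Fin 7)) := by
    intro u hu
    funext i
    have h1 := hu (Pi.single i 1)
    rw [polar_sq] at h1
    exact (mul_eq_zero.1 h1).resolve_left h2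
  obtain ⟨f⟩ := H150.nonempty_pomega h2 (sq F (Fin 7)) hnd (n := 3) (by norm_num) (by simp)
  have hC := cfg_om F (Fin 7) (Function.Embedding.refl _) h2 f.toMonoidHom (by
    intro x hx
    have : x = 1 := f.injective (by rw [map_one]; exact hx)
    rw [this]
    exact Subgroup.one_mem _)
  obtain ⟨x, v, h1, h3⟩ := own5' hC hr hr5 hd hV φ
  refine ⟨x, v, h1, ?_⟩
  rcases h3 with h3 | h3 <;> rw [h3]
  · exact not_ub_ten
  · exact hno

theorem ownCov_plus {F : Type*} [Field F] [Fintype F] [CharP F 5] :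
    OwnCov.{_, w} 5 (UB5 (Fintype.card F)) (POmega F (quadFormPlus 4 F)) := by
  have h2 := two_ne F
  have hsimple : IsSimpleGroup (POmega F (quadFormPlus 4 F)) := Cfsg.Agent.S0296.result 4 (by norm_num)
  have hr := exists_r' (H424.SpecL.lf_plus (F := F) 5)
  rw [← coe_quadPlus] at hsimple hr ⊢
  intro V _ _ _ hV φ
  obtain ⟨r, hr, hr5, hd, hno⟩ := hr
  obtain ⟨f⟩ := Cfsg.Agent.ClassicalGeometry.OddInvolutions.commutator_quot_center_congr
    ((OGcongr (chg F) (quadPlus_chg F)).trans (isometryGroupEquiv (quadPlus 4 F)).symm)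
  let j : Fin 7 ↪ Fin 4 ⊕ Fin 4 := (Fin.castLEEmb (by norm_num : 7 ≤ 4 + 4)).trans finSumFinEquiv.symm.toEmbedding
  have hC := cfg_om F (Fin 4 ⊕ Fin 4) j h2
    (f.toMonoidHom.comp (QuotientGroup.mk' (Subgroup.center (commutator (OG (sq F (Fin 4 ⊕ Fin 4))))))) (by
    intro x hx
    have h1 : f (QuotientGroup.mk x) = 1 := hx
    have h3 : (QuotientGroup.mk x : commutator (OG (sq F (Fin 4 ⊕ Fin 4))) ⧸ Subgroup.center _) = 1 :=
      f.injective (by rw [map_one]; exact h1)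
    exact (QuotientGroup.eq_one_iff _).1 h3)
  obtain ⟨x, v, h1, h3⟩ := own5' hC hr hr5 hd hV φ
  refine ⟨x, v, h1, ?_⟩
  rcases h3 with h3 | h3 <;> rw [h3]
  · exact not_ub_ten
  · exact hno

end Cfsg.Agent.H382.Own5
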