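import Mathlib
import Cfsg.Agent.H375.Out.Split

/-!
# Unipotent isometries commuting with elements of odd order: tools for (N3), (N4), (N5) of E5 (helper382)
-/

set_option autoImplicit false
set_option linter.unusedVariables false
set_option linter.unusedSectionVars false

namespace Cfsg.Agent.H382.Out

open Module Finset Cfsg.Agent.H375.Odd Cfsg.Agent.H375.Out

variable {F : Type*} [Field F] [CharP F 2] {V : Type*} [AddCommGroup V] [Module F V]

/-! ### Chains -/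

theorem map_succ (u : V ≃ₗ[F] V) (C : Submodule F V) (i : ℕ) : (C.map (Nu u ^ i)).map (Nu u) = C.map (Nu u ^ (i + 1)) := by
  rw [← Submodule.map_comp, pow_succ']
  rfl

theorem map_le {u : V ≃ₗ[F] V} {C : Submodule F V} (hC : ∀ v ∈ C, u v ∈ C) (i : ℕ) :
    C.map (Nu u ^ (i + 1)) ≤ C.map (Nu u ^ i) := by
  rintro _ ⟨w, hw, rfl⟩
  refine ⟨Nu u w, C.sub_mem (hC w hw) hw, ?_⟩
  rw [pow_succ]
  rfl

variable [FiniteDimensional F V]

/-- The chain is strictly decreasing. -/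
theorem chain {u : V ≃ₗ[F] V} {C : Submodule F V} (hC : ∀ v ∈ C, u v ∈ C) {c : ℕ} (huc : u ^ 2 ^ c = 1) {i : ℕ}
    (h0 : C.map (Nu u ^ i) ≠ ⊥) : finrank F (C.map (Nu u ^ (i + 1))) + 1 ≤ finrank F (C.map (Nu u ^ i)) := by
  have hlt : C.map (Nu u ^ (i + 1)) < C.map (Nu u ^ i) := by
    refine lt_of_le_of_ne (map_le hC i) fun heq => h0 ?_
    have h1 : ∀ j, C.map (Nu u ^ (i + j)) = C.map (Nu u ^ i) := by
      intro j
      induction j with
      | zero => rfl
      | succ j ihj => rw [← add_assoc, ← map_succ, ihj, map_succ, heq]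
    rw [← h1 (2 ^ c), eq_bot_iff]
    rintro _ ⟨w, -, rfl⟩
    rw [pow_add, Nu_pow, huc, Nu_one, mul_zero]
    exact Submodule.zero_mem _
  exact Submodule.finrank_lt_finrank_of_lt hlt

theorem map_zero_eq (u : V ≃ₗ[F] V) (C : Submodule F V) : C.map (Nu u ^ 0) = C := by
  rw [pow_zero, Module.End.one_eq_id, Submodule.map_id]

theorem ne_bot_of_le {u : V ≃ₗ[F] V} {C : Submodule F V} (hC : ∀ v ∈ C, u v ∈ C) {i j : ℕ} (hij : i ≤ j)
    (h : C.map (Nu u ^ j) ≠ ⊥) : C.map (Nu u ^ i) ≠ ⊥ := by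
  induction j, hij using Nat.le_induction with
  | base => exact h
  | succ j _ ih =>
    apply ih
    intro h0
    apply h
    rw [eq_bot_iff, ← h0]
    exact map_le hC j

/-- The number of blocks. -/
theorem count {u : V ≃ₗ[F] V} {C : Submodule F V} (hC : ∀ v ∈ C, u v ∈ C) {k : ℕ}
    (hk : ∀ v ∈ C, (Nu u ^ (k + 1)) v = 0) : (k + 1) * finrank F (C.map (Nu u ^ k)) ≤ finrank F C := by
  classical
  set E := C.map (Nu u ^ k) with hE
  have hstep : ∀ i, i ≤ k → i * finrank F E + finrank F (C.map (Nu u ^ i)) ≤ finrank F C := by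
    intro i
    induction i with
    | zero =>
      intro _
      rw [zero_mul, zero_add, map_zero_eq]
    | succ i ih =>
      intro hi
      have ih' := ih (by omega)
      have hle := map_le hC i
      set g := (Nu u ^ (k - i)).domRestrict (C.map (Nu u ^ i)) with hg
      have hrange : LinearMap.range g = E := by
        ext z
        constructor
        · rintro ⟨⟨_, ⟨w, hw, rfl⟩⟩, rfl⟩
          refine ⟨w, hw, ?_⟩
          show (Nu u ^ k) w = (Nu u ^ (k - i)) ((Nu u ^ i) w)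
          rw [← Module.End.mul_apply, ← pow_add, Nat.sub_add_cancel (by omega)]
        · rintro ⟨w, hw, rfl⟩
          refine ⟨⟨(Nu u ^ i) w, ⟨w, hw, rfl⟩⟩, ?_⟩
          show (Nu u ^ (k - i)) ((Nu u ^ i) w) = (Nu u ^ k) w
          rw [← Module.End.mul_apply, ← pow_add, Nat.sub_add_cancel (by omega)]
      have hker : (C.map (Nu u ^ (i + 1))).comap (C.map (Nu u ^ i)).subtype ≤ LinearMap.ker g := by
        rintro ⟨z, hz⟩ hz'
        obtain ⟨w, hw, hwz⟩ := hz'
        rw [LinearMap.mem_ker]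
        show (Nu u ^ (k - i)) z = 0
        have : z = (Nu u ^ (i + 1)) w := hwz.symm
        rw [this, ← Module.End.mul_apply, ← pow_add, show k - i + (i + 1) = k + 1 by omega]
        exact hk w hw
      have h1 := LinearMap.finrank_range_add_finrank_ker g
      rw [hrange] at h1
      have h2 := Submodule.finrank_mono hker
      have h3 := (Submodule.comapSubtypeEquivOfLe hle).finrank_eq
      rw [h3] at h2
      rw [add_mul, one_mul]
      omega
  have h1 := hstep k le_rfl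
  rw [add_mul, one_mul]
  exact h1

/-- The last nonzero power. -/
theorem exists_last {u : V ≃ₗ[F] V} {C : Submodule F V} {c : ℕ} (huc : u ^ 2 ^ c = 1) {k : ℕ}
    (h : C.map (Nu u ^ k) ≠ ⊥) : ∃ k', k ≤ k' ∧ C.map (Nu u ^ k') ≠ ⊥ ∧ ∀ v ∈ C, (Nu u ^ (k' + 1)) v = 0 := by
  by_contra hno
  push Not at hno
  have h1 : ∀ i, C.map (Nu u ^ (k + i)) ≠ ⊥ := by
    intro i
    induction i with
    | zero => exact h
    | succ i ih =>
      obtain ⟨v, hv, hv0⟩ := hno (k + i) (by omega) ih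
      intro hb
      apply hv0
      have : (Nu u ^ (k + i + 1)) v ∈ C.map (Nu u ^ (k + (i + 1))) := ⟨v, hv, rfl⟩
      rw [hb] at this
      exact (Submodule.mem_bot F).1 this
  apply h1 (2 ^ c)
  rw [eq_bot_iff]
  rintro _ ⟨w, -, rfl⟩
  rw [pow_add, Nu_pow, huc, Nu_one, mul_zero]
  exact Submodule.zero_mem _

/-- A block of size six. -/
theorem six {u : V ≃ₗ[F] V} {C : Submodule F V} (hC : ∀ v ∈ C, u v ∈ C) {c : ℕ} (huc : u ^ 2 ^ c = 1)
    (h6 : finrank F C = 6) (h4 : 2 ≤ finrank F (C.map (Nu u ^ 4))) : finrank F (C.map (Nu u ^ 1)) = 5 := by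
  have h0 : C.map (Nu u ^ 4) ≠ ⊥ := by
    intro h
    rw [h, finrank_bot] at h4
    omega
  have e0 := chain hC huc (ne_bot_of_le hC (Nat.zero_le 4) h0)
  rw [map_zero_eq] at e0
  have e0' : finrank F (C.map (Nu u ^ 1)) + 1 ≤ finrank F C := e0
  have e1 : finrank F (C.map (Nu u ^ 2)) + 1 ≤ finrank F (C.map (Nu u ^ 1)) :=
    chain hC huc (ne_bot_of_le hC (by norm_num : 1 ≤ 4) h0)
  have e2 : finrank F (C.map (Nu u ^ 3)) + 1 ≤ finrank F (C.map (Nu u ^ 2)) :=
    chain hC huc (ne_bot_of_le hC (by norm_num : 2 ≤ 4) h0)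
  have e3 : finrank F (C.map (Nu u ^ 4)) + 1 ≤ finrank F (C.map (Nu u ^ 3)) :=
    chain hC huc (ne_bot_of_le hC (by norm_num : 3 ≤ 4) h0)
  omega

/-- `5 ≤ dim C`. -/
theorem five_le {u : V ≃ₗ[F] V} {C : Submodule F V} (hC : ∀ v ∈ C, u v ∈ C) {c : ℕ} (huc : u ^ 2 ^ c = 1)
    (h0 : C.map (Nu u ^ 4) ≠ ⊥) : finrank F (C.map (Nu u ^ 4)) + 4 ≤ finrank F C := by
  have e0 := chain hC huc (ne_bot_of_le hC (Nat.zero_le 4) h0)
  rw [map_zero_eq] at e0
  have e0' : finrank F (C.map (Nu u ^ 1)) + 1 ≤ finrank F C := e0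
  have e1 : finrank F (C.map (Nu u ^ 2)) + 1 ≤ finrank F (C.map (Nu u ^ 1)) :=
    chain hC huc (ne_bot_of_le hC (by norm_num : 1 ≤ 4) h0)
  have e2 : finrank F (C.map (Nu u ^ 3)) + 1 ≤ finrank F (C.map (Nu u ^ 2)) :=
    chain hC huc (ne_bot_of_le hC (by norm_num : 2 ≤ 4) h0)
  have e3 : finrank F (C.map (Nu u ^ 4)) + 1 ≤ finrank F (C.map (Nu u ^ 3)) :=
    chain hC huc (ne_bot_of_le hC (by norm_num : 3 ≤ 4) h0)
  omega

theorem finrank_pos_of_ne_bot {C : Submodule F V} (h : C ≠ ⊥) : 0 < finrank F C := by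
  rw [Nat.pos_iff_ne_zero]
  intro h0
  exact h (Submodule.finrank_eq_zero.1 h0)

/-- Restricting to a subspace. -/
theorem top_map_eq {f : Module.End F V} {C : Submodule F V} (h : ∀ v, ∃ c ∈ C, f v = f c) :
    (⊤ : Submodule F V).map f = C.map f := by
  apply le_antisymm
  · rintro _ ⟨v, -, rfl⟩
    obtain ⟨c, hc, hv⟩ := h v
    exact ⟨c, hc, hv.symm⟩
  · exact Submodule.map_mono le_top

theorem bW_eq (u : V ≃ₗ[F] V) : bW u = (⊤ : Submodule F V).map (Nu u ^ 1) := by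
  rw [pow_one, Submodule.map_top]
  rfl

theorem bW_four (u : V ≃ₗ[F] V) : bW (u ^ 4) = (⊤ : Submodule F V).map (Nu u ^ 4) := by
  have h := Nu_pow u 2
  norm_num at h
  rw [h, Submodule.map_top]
  rfl

/-! ### The forms on the images -/

section form

variable {β : V →ₗ[F] V →ₗ[F] F}

/-- An isometry that is scalar on `N^k D` is the identity there. -/
theorem scalar_one (hβ : Alt β) {x u : V ≃ₗ[F] V} (hx : x ∈ Isom β) (hu : u ∈ Isom β) (hxu : ∀ v, x (u v) = u (x v))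
    {D : Submodule F V} (hDx : ∀ v ∈ D, x v ∈ D) (hDnd : ∀ v ∈ D, (∀ w ∈ D, β v w = 0) → v = 0)
    (hDu : ∀ v ∈ D, u v ∈ D) {k : ℕ} (hE : D.map (Nu u ^ k) ≠ ⊥) {d : F}
    (hd : ∀ e ∈ D.map (Nu u ^ k), x e = d • e) : d = 1 := by
  obtain ⟨e, heE, he0⟩ := Submodule.exists_mem_ne_zero_of_ne_bot hE
  have hxe := hd e heE
  obtain ⟨v, hv, rfl⟩ := heE
  have hker : ∀ z ∈ D, (Nu u ^ k) z = 0 → β z ((Nu u ^ k) v) = 0 := by
    intro z _ hz
    rw [Nu_adj hu, Nu_inv_zero hz, map_zero, LinearMap.zero_apply]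
  obtain ⟨w, hw, hwe⟩ : ∃ w ∈ D, β w ((Nu u ^ k) v) ≠ 0 := by
    by_contra hno
    push Not at hno
    apply he0
    apply hDnd _ (Nu_mem hDu k v hv)
    intro w hw
    rw [hβ.symm]
    exact hno w hw
  have h1 : β (x w) ((Nu u ^ k) v) = d * β w ((Nu u ^ k) v) := by
    have h2 := hker (x w - d • w) (D.sub_mem (hDx w hw) (D.smul_mem _ hw)) (by
      rw [map_sub, map_smul, Nu_comm hxu, hd _ ⟨w, hw, rfl⟩, sub_self])
    rw [map_sub, map_smul, LinearMap.sub_apply, LinearMap.smul_apply, smul_eq_mul, sub_eq_zero] at h2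
    exact h2
  have h2 : β (x w) (x ((Nu u ^ k) v)) = β w ((Nu u ^ k) v) := hx w _
  rw [hxe, map_smul, smul_eq_mul, h1, ← mul_assoc] at h2
  have h3 : d * d = 1 := mul_right_cancel₀ hwe (by rw [h2, one_mul])
  have h5 : (d - 1) * (d - 1) = 0 := by
    have : (2 : F) = 0 := CharTwo.two_eq_zero
    linear_combination h3 + (1 - d) * this
  exact sub_eq_zero.1 (mul_self_eq_zero.1 h5)

end form

/-- `x` trivial on `N^k D`, all blocks of `D` of size `k + 1`: `x` is trivial on `D`. -/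
theorem trivial_of {x u : V ≃ₗ[F] V} (hxu : ∀ v, x (u v) = u (x v)) {D : Submodule F V} (hDx : ∀ v ∈ D, x v ∈ D)
    (hDu : ∀ v ∈ D, u v ∈ D) {R : ℕ} (hR : Odd R) (hxR : x ^ R = 1) {k : ℕ}
    (hk : ∀ v ∈ D, (Nu u ^ (k + 1)) v = 0) (hdim : finrank F D = (k + 1) * finrank F (D.map (Nu u ^ k)))
    (h : ∀ e ∈ D.map (Nu u ^ k), x e = e) : ∀ v ∈ D, x v = v := by
  classical
  set C := D ⊓ bV x with hC
  let T : Module.End F V := (x : V →ₗ[F] V)
  have hTpow : ∀ j : ℕ, ∀ v, (T ^ j) v = (x ^ j) v := by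
    intro j
    induction j with
    | zero => intro v; rfl
    | succ j ih => intro v; rw [pow_succ, pow_succ]; exact ih _
  have hTl : T ^ R = 1 := LinearMap.ext fun v => by rw [hTpow, hxR]; rfl
  have hTD : ∀ j : ℕ, ∀ v ∈ D, (T ^ j) v ∈ D := by
    intro j
    induction j with
    | zero => intro v hv; exact hv
    | succ j ih => intro v hv; rw [pow_succ]; exact ih _ (hDx v hv)
  have hTN : ∀ j : ℕ, ∀ v, (Nu u ^ k) ((T ^ j) v) = (T ^ j) ((Nu u ^ k) v) := by
    intro j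
    induction j with
    | zero => intro v; rfl
    | succ j ih =>
      intro v
      rw [pow_succ]
      show (Nu u ^ k) ((T ^ j) (x v)) = (T ^ j) (x ((Nu u ^ k) v))
      rw [ih, Nu_comm hxu]
  have hTE : ∀ j : ℕ, ∀ v ∈ D, (T ^ j) ((Nu u ^ k) v) = (Nu u ^ k) v := by
    intro j
    induction j with
    | zero => intro v _; rfl
    | succ j ih =>
      intro v hv
      rw [pow_succ]
      show (T ^ j) (x ((Nu u ^ k) v)) = _
      rw [h _ ⟨v, hv, rfl⟩, ih v hv]
  have hCu : ∀ v ∈ C, u v ∈ C := by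
    rintro v ⟨hv, hv'⟩
    exact ⟨hDu v hv, bV_inv (fun w => (hxu w).symm) v hv'⟩
  have hmap : C.map (Nu u ^ k) = D.map (Nu u ^ k) := by
    apply le_antisymm (Submodule.map_mono inf_le_left)
    rintro _ ⟨v, hv, rfl⟩
    refine ⟨(∑ i ∈ range R, T ^ i) v, ⟨?_, mem_bV.2 ?_⟩, ?_⟩
    · rw [LinearMap.sum_apply]
      exact D.sum_mem fun i _ => hTD i v hv
    · have h2 := mul_geom_sum T R
      rw [hTl, sub_self] at h2
      have h3 := LinearMap.congr_fun h2 v
      exact sub_eq_zero.1 h3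
    · rw [LinearMap.sum_apply, map_sum, sum_congr rfl fun i _ => by rw [hTN, hTE i v hv], sum_const, card_range,
        ← Nat.cast_smul_eq_nsmul F]
      have h4 : (R : F) = 1 := by
        obtain ⟨j, hj⟩ := hR
        have : (2 : F) = 0 := CharTwo.two_eq_zero
        rw [hj]
        push_cast
        rw [this, zero_mul, zero_add]
      rw [h4, one_smul]
  have h1 := count hCu (k := k) (fun v hv => hk v hv.1)
  rw [hmap, ← hdim] at h1
  have h2 : C = D := Submodule.eq_of_le_of_finrank_le inf_le_left h1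
  intro v hv
  rw [← h2] at hv
  exact mem_bV.1 hv.2

/-! ### Two commuting elements on a plane -/

section pair

variable [Fintype F]

theorem exists_eig {E : Type*} [AddCommGroup E] [Module F E] [FiniteDimensional F E] [Nontrivial E] (f : Module.End F E)
    (hf : f ^ (Fintype.card F - 1) = 1) : ∃ (d : F) (e : E), e ≠ 0 ∧ f e = d • e := by
  classical
  have hq : 1 < Fintype.card F := Fintype.one_lt_card
  have h1 : minpoly F f ∣ Polynomial.X ^ Fintype.card F - Polynomial.X := by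
    apply minpoly.dvd
    rw [map_sub, map_pow, Polynomial.aeval_X]
    have : f ^ Fintype.card F = f := by
      have h2 : f ^ (Fintype.card F - 1 + 1) = f := by rw [pow_succ, hf, one_mul]
      rwa [Nat.sub_add_cancel hq.le] at h2
    rw [this, sub_self]
  have h2 : (Polynomial.X ^ Fintype.card F - Polynomial.X : Polynomial F).Splits := by
    rw [Polynomial.splits_iff_card_roots, FiniteField.roots_X_pow_card_sub_X,
      FiniteField.X_pow_card_sub_X_natDegree_eq F hq]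
    rfl
  have h3 := h2.of_dvd (FiniteField.X_pow_card_sub_X_ne_zero F hq) h1
  obtain ⟨d, hd⟩ := h3.exists_eval_eq_zero (minpoly.degree_pos (Algebra.IsIntegral.isIntegral f)).ne'
  obtain ⟨e, he⟩ := (Module.End.hasEigenvalue_of_isRoot (f := f) hd).exists_hasEigenvector
  exact ⟨d, e, he.2, he.apply_eq_smul⟩

theorem line {x : V ≃ₗ[F] V} {L : Submodule F V} (hL : finrank F L ≤ 1) (hLx : ∀ v ∈ L, x v ∈ L) {r : ℕ}
    (hr : Nat.Coprime r (Fintype.card F - 1)) (hx : x ^ r = 1) : ∀ v ∈ L, x v = v := by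
  obtain ⟨v0, hv0⟩ := finrank_le_one_iff.1 hL
  by_cases h0 : v0 = 0
  · intro v hv
    obtain ⟨c, hc⟩ := hv0 ⟨v, hv⟩
    rw [h0, smul_zero] at hc
    have : v = 0 := (congrArg Subtype.val hc).symm
    rw [this, map_zero]
  obtain ⟨d, hd⟩ := hv0 ⟨x v0, hLx v0 v0.2⟩
  have hd' : x v0 = d • (v0 : V) := (congrArg Subtype.val hd).symm
  have hv0' : (v0 : V) ≠ 0 := fun h => h0 (Subtype.ext h)
  have hpow : ∀ j : ℕ, (x ^ j) (v0 : V) = d ^ j • (v0 : V) := by
    intro j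
    induction j with
    | zero => rw [pow_zero, pow_zero, one_smul]; rfl
    | succ j ih =>
      rw [pow_succ]
      show (x ^ j) (x v0) = _
      rw [hd', map_smul, ih, smul_smul, pow_succ, mul_comm]
  have h1 : d ^ r = 1 := by
    have h2 := hpow r
    rw [hx] at h2
    have h3 : (d ^ r - 1) • (v0 : V) = 0 := by
      rw [sub_smul, one_smul, ← h2]
      exact sub_self _
    exact sub_eq_zero.1 ((smul_eq_zero.1 h3).resolve_right hv0')
  have hd0 : d ≠ 0 := by
    rintro rfl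
    rw [zero_smul] at hd'
    exact hv0' (x.map_eq_zero_iff.1 hd')
  have h2 : d ^ (Fintype.card F - 1) = 1 := FiniteField.pow_card_sub_one_eq_one d hd0
  have h3 : orderOf d ∣ 1 := by
    rw [← hr]
    exact Nat.dvd_gcd (orderOf_dvd_of_pow_eq_one h1) (orderOf_dvd_of_pow_eq_one h2)
  have h4 : d = 1 := orderOf_eq_one_iff.1 (Nat.dvd_one.1 h3)
  intro v hv
  obtain ⟨c, hc⟩ := hv0 ⟨v, hv⟩
  have hc' : c • (v0 : V) = v := congrArg Subtype.val hc
  rw [← hc', map_smul, hd', h4, one_smul]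

/-- `x₁` of order dividing `q - 1`, `x₂` of odd order prime to `q - 1`, `dim E ≤ 2`: `x₁` is scalar on `E` or `x₂` is
trivial on `E`. -/
theorem pair {x₁ x₂ : V ≃ₗ[F] V} (h12 : ∀ v, x₁ (x₂ v) = x₂ (x₁ v)) {E : Submodule F V} (hE1 : ∀ v ∈ E, x₁ v ∈ E)
    (hE2 : ∀ v ∈ E, x₂ v ∈ E) (hdim : finrank F E ≤ 2) (h1 : x₁ ^ (Fintype.card F - 1) = 1) {r : ℕ} (hr : Odd r)
    (hrq : Nat.Coprime r (Fintype.card F - 1)) (h2 : x₂ ^ r = 1) :
    (∃ d : F, ∀ e ∈ E, x₁ e = d • e) ∨ ∀ e ∈ E, x₂ e = e := by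
  classical
  by_cases hE0 : E = ⊥
  · left
    refine ⟨1, fun e he => ?_⟩
    rw [hE0, Submodule.mem_bot] at he
    rw [he, map_zero, smul_zero]
  have hnt : Nontrivial E := (Submodule.nontrivial_iff_ne_bot).2 hE0
  have hrp : ∀ j : ℕ, ∀ w : E, (((restr x₁ E hE1 ^ j) w : E) : V) = (x₁ ^ j) (w : V) := fun j w => restr_pow_coe hE1 j w
  obtain ⟨d, e0, he0, hde0⟩ := exists_eig (F := F) (((restr x₁ E hE1 : E ≃ₗ[F] E) : E →ₗ[F] E) : Module.End F E) (by
    apply LinearMap.ext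
    intro w
    apply Subtype.ext
    have h3 : ∀ j : ℕ, ((((restr x₁ E hE1 : E ≃ₗ[F] E) : E →ₗ[F] E) : Module.End F E) ^ j) w = (restr x₁ E hE1 ^ j) w := by
      intro j
      induction j generalizing w with
      | zero => rfl
      | succ j ih => rw [pow_succ, pow_succ]; exact ih _
    rw [h3, hrp, h1]
    rfl)
  have hde0' : x₁ (e0 : V) = d • (e0 : V) := congrArg Subtype.val hde0
  let g : V →ₗ[F] V := (x₁ : V →ₗ[F] V) - d • LinearMap.id
  have hg : ∀ v, g v = x₁ v - d • v := fun _ => rfl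
  set K : Submodule F V := E ⊓ LinearMap.ker g with hK
  set R : Submodule F V := E.map g with hR
  have hsum : finrank F R + finrank F K = finrank F E := by
    have h3 := LinearMap.finrank_range_add_finrank_ker (g.domRestrict E)
    have h4 : LinearMap.range (g.domRestrict E) = R := LinearMap.range_domRestrict E g
    have h5 : finrank F (LinearMap.ker (g.domRestrict E)) = finrank F K := by
      have h6 : (LinearMap.ker (g.domRestrict E)).map E.subtype = K := by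
        rw [LinearMap.ker_domRestrict, Submodule.map_comap_subtype]
      rw [← h6]
      exact (Submodule.equivMapOfInjective E.subtype Subtype.val_injective _).finrank_eq
    rw [h4, h5] at h3
    exact h3
  have hKpos : 0 < finrank F K := by
    apply finrank_pos_of_ne_bot
    intro h
    have h3 : (e0 : V) ∈ K := ⟨e0.2, LinearMap.mem_ker.2 (by rw [hg, hde0', sub_self])⟩
    rw [h] at h3
    exact he0 (Subtype.ext ((Submodule.mem_bot F).1 h3))
  by_cases hR0 : R = ⊥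
  · left
    refine ⟨d, fun e he => ?_⟩
    have h3 : g e ∈ R := ⟨e, he, rfl⟩
    rw [hR0] at h3
    exact sub_eq_zero.1 ((Submodule.mem_bot F).1 h3)
  right
  have hRpos := finrank_pos_of_ne_bot hR0
  have hKx : ∀ v ∈ K, x₂ v ∈ K := by
    rintro v ⟨hv, hv'⟩
    refine ⟨hE2 v hv, ?_⟩
    rw [SetLike.mem_coe, LinearMap.mem_ker, hg] at hv' ⊢
    rw [h12, ← map_smul, ← map_sub, hv', map_zero]
  have hRx : ∀ v ∈ R, x₂ v ∈ R := by
    rintro _ ⟨v, hv, rfl⟩
    refine ⟨x₂ v, hE2 v hv, ?_⟩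
    rw [hg, hg, h12, map_sub, map_smul]
  have hK1 := line (F := F) (x := x₂) (L := K) (by omega) hKx hrq h2
  have hR1 := line (F := F) (x := x₂) (L := R) (by omega) hRx hrq h2
  intro e he
  have h3 : x₂ e - e ∈ K := by
    refine ⟨E.sub_mem (hE2 e he) he, ?_⟩
    rw [SetLike.mem_coe, LinearMap.mem_ker, map_sub, sub_eq_zero]
    have h4 := hR1 (g e) ⟨e, he, rfl⟩
    rw [hg] at h4
    rw [hg, hg, h12, ← map_smul, ← map_sub, h4]
  have h4 := disj hr h2 (sub_mem_bW x₂ e) (hK1 _ h3)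
  exact sub_eq_zero.1 h4

/-- The combination. -/
theorem two_on {β : V →ₗ[F] V →ₗ[F] F} (hβ : Alt β) {x₁ x₂ u : V ≃ₗ[F] V} (h12 : ∀ v, x₁ (x₂ v) = x₂ (x₁ v))
    (hx₁ : x₁ ∈ Isom β) (hu : u ∈ Isom β) (h1u : ∀ v, x₁ (u v) = u (x₁ v)) (h2u : ∀ v, x₂ (u v) = u (x₂ v))
    {D : Submodule F V} (hD1 : ∀ v ∈ D, x₁ v ∈ D) (hD2 : ∀ v ∈ D, x₂ v ∈ D) (hDu : ∀ v ∈ D, u v ∈ D)
    (hDnd : ∀ v ∈ D, (∀ w ∈ D, β v w = 0) → v = 0) {k : ℕ}
    (hk : ∀ v ∈ D, (Nu u ^ (k + 1)) v = 0) (hE2 : finrank F (D.map (Nu u ^ k)) = 2)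
    (hdim : finrank F D = (k + 1) * 2)
    (hq1 : Odd (Fintype.card F - 1)) (h1 : x₁ ^ (Fintype.card F - 1) = 1) {r : ℕ} (hr : Odd r)
    (hrq : Nat.Coprime r (Fintype.card F - 1)) (h2 : x₂ ^ r = 1) :
    (∀ v ∈ D, x₁ v = v) ∨ ∀ v ∈ D, x₂ v = v := by
  have hinv : ∀ x : V ≃ₗ[F] V, (∀ v, x (u v) = u (x v)) → (∀ v ∈ D, x v ∈ D) →
      ∀ e ∈ D.map (Nu u ^ k), x e ∈ D.map (Nu u ^ k) := by
    rintro x hxu hDx _ ⟨v, hv, rfl⟩
    exact ⟨x v, hDx v hv, Nu_comm hxu k v⟩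
  have hne : D.map (Nu u ^ k) ≠ ⊥ := by
    intro h
    rw [h, finrank_bot] at hE2
    omega
  rcases pair (F := F) h12 (hinv x₁ h1u hD1) (hinv x₂ h2u hD2) hE2.le h1 hr hrq h2 with ⟨d, hd⟩ | h
  · left
    have hd1 := scalar_one hβ hx₁ hu h1u hD1 hDnd hDu hne hd
    refine trivial_of h1u hD1 hDu hq1 h1 hk (by rw [hE2, hdim]) ?_
    intro e he
    rw [hd e he, hd1, one_smul]
  · right
    exact trivial_of h2u hD2 hDu hr h2 hk (by rw [hE2, hdim]) h

end pair

end Cfsg.Agent.H382.Out
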