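import Mathlib
import Cfsg.Agent.H382.OutAbs
import Cfsg.Agent.H375.Out.Def

/-!
# (N3), (N4), (N5) of E5: orders that do not occur in `Ω(Q)`, characteristic two (helper382)

* `n3` : `8 p T`, `T` a torus order of degree `n - 4`, `p` prime to the torus;
* `n4` : `2 p T`, `T` a torus order of degree `n - 3`, `p` prime to the torus and to `q ^ 2 - 1`;
* `n5` : `n = 5`, `8 r₁ r₂`, `r₁ ∣ q - 1`, `r₂ ∣ q + 1`.
-/

set_option autoImplicit false
set_option linter.unusedVariables false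
set_option linter.unusedSectionVars false

namespace Cfsg.Agent.H382.Out

open Module Finset Cfsg.Agent.H375.Odd Cfsg.Agent.H375.Out QuadraticMap

section block

variable {F : Type*} [Field F] [CharP F 2] [Fintype F] {V : Type*} [AddCommGroup V] [Module F V] [FiniteDimensional F V]
variable {β : V →ₗ[F] V →ₗ[F] F}

/-- The torus block, given its dimension. -/
theorem core' (h : Alt β) {l a e η M : ℕ} (B : Blk (Fintype.card F) l a e η M) {s : V ≃ₗ[F] V} (hs : Tor s l a e)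
    (hsβ : s ∈ Isom β) (hd : finrank F (bW (s ^ l ^ a)) = 2 * η) :
    ∀ g ∈ Isom β, (∀ v, g (s v) = s (g v)) → ∀ w ∈ bW (s ^ l ^ a), (g ^ M) w = w := by
  set W := bW (s ^ l ^ a) with hW
  have hlo := hs.hl.odd_of_ne_two hs.hl2
  rcases B.case with ⟨hm, h1, rfl⟩ | ⟨hj, h1, rfl⟩
  · subst h1
    have hsm : ∀ w ∈ W, (s ^ (Fintype.card F ^ e - 1)) w = w := by
      intro w _
      obtain ⟨k, hk⟩ := (hs.hq e).2 dvd_rfl
      rw [hk, ← hs.ho, pow_mul, pow_orderOf_eq_one, one_pow]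
      rfl
    have hcyc : Cyc (restr s W hs.inv) := by
      refine exists_cyclic_of_odd (m := e) (N := l ^ (a + 1)) hm hs.he hs.odd (restr_pow_eq_one _ fun w _ => by
        rw [← hs.ho, pow_orderOf_eq_one]; rfl) hd ?_ (restr_pow_eq_one _ hsm) (β := β.compl₁₂ W.subtype W.subtype)
        (fun v hv => by
          apply Subtype.ext
          exact nd_bW h ((Isom β).pow_mem hsβ _) hlo hs.ht v v.2 (fun u hu => by
            rw [h.symm]
            exact hv ⟨u, hu⟩)) (fun u v => hsβ u v)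
      intro Y hY
      have h1 := hs.dvd (Y := Y.map W.subtype) (Submodule.map_subtype_le _ _) (by
        rintro _ ⟨y, hy, rfl⟩
        exact ⟨restr s W hs.inv y, hY y hy, rfl⟩)
      rwa [(Submodule.equivMapOfInjective W.subtype Subtype.val_injective Y).finrank_eq]
    intro g hg hgs w hw
    have hgW : ∀ w ∈ W, g w ∈ W := bW_inv fun v => comm_pow hgs _ v
    have h1 := pow_eq_one_of_cyclic (s := restr s W hs.inv) (k := e) (restr_pow_eq_one _ hsm) hcyc
      (g := restr g W hgW) (fun v => Subtype.ext (hgs v))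
    have h2 := congrArg (fun f : W ≃ₗ[F] W => ((f ⟨w, hw⟩ : W) : V)) h1
    simp only [restr_pow_coe] at h2
    exact h2
  · subst h1
    have hN : l ^ (a + 1) ∣ Fintype.card F ^ η + 1 := by
      have hz := B.hz
      exact hz.dvd_add_one Fintype.card_pos (by omega)
    have hirr : Irr (restr s W hs.inv) := by
      apply irr_restr _ (bW_ne_bot hs.ne_one)
      intro Y hY hYs hY0
      apply Submodule.eq_of_le_of_finrank_le hY
      rw [← hW, hd]
      apply Nat.le_of_dvd _ (hs.dvd hY hYs)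
      rw [Nat.pos_iff_ne_zero]
      intro h
      exact hY0 (Submodule.finrank_eq_zero.1 h)
    intro g hg hgs w hw
    have hgW : ∀ w ∈ W, g w ∈ W := bW_inv fun v => comm_pow hgs _ v
    have h1 := pow_eq_one_of_unitary (s := restr s W hs.inv) (β := β.compl₁₂ W.subtype W.subtype) (fun v hv => by
        apply Subtype.ext
        exact nd_bW h ((Isom β).pow_mem hsβ _) (hs.hl.odd_of_ne_two hs.hl2) hs.ht v v.2 (fun u hu => by
          rw [h.symm]
          exact hv ⟨u, hu⟩)) (j := η) (restr_pow_eq_one _ fun w _ => by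
        obtain ⟨k, hk⟩ := hN
        rw [hk, ← hs.ho, pow_mul, pow_orderOf_eq_one, one_pow]
        rfl) (fun u v => hsβ u v) hirr.cyc (g := restr g W hgW) (fun v => Subtype.ext (hgs v)) (fun u v => hg u v)
    have h2 := congrArg (fun f : W ≃ₗ[F] W => ((f ⟨w, hw⟩ : W) : V)) h1
    simp only [restr_pow_coe] at h2
    exact h2

theorem pow_comm (y : V ≃ₗ[F] V) (i j : ℕ) (v : V) : (y ^ i) ((y ^ j) v) = (y ^ j) ((y ^ i) v) := by
  show (y ^ i * y ^ j) v = (y ^ j * y ^ i) v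
  rw [← pow_add, ← pow_add, add_comm]

theorem order_pow {y : V ≃ₗ[F] V} {m n k : ℕ} (hm : 0 < m) (hk : orderOf y = k) (hmn : k = m * n) :
    orderOf (y ^ m) = n := by
  rw [orderOf_pow_of_dvd hm.ne' (by rw [hk, hmn]; exact dvd_mul_right _ _), hk, hmn, Nat.mul_div_cancel_left _ hm]

theorem pow_of_order {y : V ≃ₗ[F] V} {n : ℕ} (h : orderOf y = n) : y ^ n = 1 := by
  rw [← h, pow_orderOf_eq_one]

theorem eq_zero_of_map {u : V ≃ₗ[F] V} {D : Submodule F V} {k : ℕ} (h : D.map (Nu u ^ k) = ⊥) :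
    ∀ v ∈ D, (Nu u ^ k) v = 0 := by
  intro v hv
  have : (Nu u ^ k) v ∈ D.map (Nu u ^ k) := ⟨v, hv, rfl⟩
  rw [h] at this
  exact (Submodule.mem_bot F).1 this

theorem map_of_eq_zero {u : V ≃ₗ[F] V} {D : Submodule F V} {k : ℕ} (h : ∀ v ∈ D, (Nu u ^ k) v = 0) :
    D.map (Nu u ^ k) = ⊥ := by
  rw [eq_bot_iff]
  rintro _ ⟨v, hv, rfl⟩
  rw [h v hv]
  exact Submodule.zero_mem _

theorem Nu_one_apply {u : V ≃ₗ[F] V} {v : V} (h : u v = v) : (Nu u ^ 1) v = 0 := by
  rw [pow_one, Nu_apply, h, sub_self]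

theorem Nu_four_zero {u : V ≃ₗ[F] V} {v : V} (h : (Nu u ^ 1) v = 0) : (Nu u ^ 4) v = 0 := by
  rw [show (4 : ℕ) = 3 + 1 by norm_num, pow_add]
  show (Nu u ^ 3) ((Nu u ^ 1) v) = 0
  rw [h, map_zero]

end block

section main

variable {F : Type*} [Field F] [Fintype F] [CharP F 2] {ι : Type} [Fintype ι] [DecidableEq ι]
  {Q : QuadraticForm F (ι → F)}

theorem even_rank (hQ : (polarBilin Q).Nondegenerate) (h5 : 5 ≤ Fintype.card ι) (hev : Even (Fintype.card ι))
    {g : (ι → F) ≃ₗ[F] (ι → F)} (hg : g ∈ Om Q) : Even (finrank F (bW g)) := by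
  have h1 := ((mem_Om hQ h5 hev).1 hg).2
  have h2 := finrank_bW_add (F := F) g
  rw [Module.finrank_fintype_fun_eq_card] at h2
  rw [← h2, Nat.even_add] at hev
  exact hev.2 h1

theorem Om_isom {g : (ι → F) ≃ₗ[F] (ι → F)} (hg : g ∈ Om Q) : g ∈ Isom (polarBilin Q) :=
  OQ_le (qf_of Q) (Om_le hg)

/-- **(N3)** -/
theorem n3 (hQ : (polarBilin Q).Nondegenerate) {n : ℕ} (hn : Fintype.card ι = 2 * n) {l a e η M : ℕ}
    (B : Blk (Fintype.card F) l a e η M) (hη : η + 4 = n) (hη2 : 2 ≤ η) {p : ℕ} (hp : p.Prime) (hp2 : p ≠ 2)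
    (hpM : Nat.Coprime p M) {y : (ι → F) ≃ₗ[F] (ι → F)} (hyO : y ∈ Om Q)
    (hy : orderOf y = 2 ^ 3 * (p * l ^ (a + 1))) : False := by
  classical
  have hβ : Alt (polarBilin Q) := alt_of hQ
  have hV : finrank F (ι → F) = 2 * n := by rw [Module.finrank_fintype_fun_eq_card, hn]
  have hyI := Om_isom hyO
  have hz := B.hz
  have hT0 : 0 < l ^ (a + 1) := pow_pos hz.hl.pos _
  have hp0 := hp.pos
  have hpo := hp.odd_of_ne_two hp2
  have hlo := hz.hl.odd_of_ne_two hz.hl2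
  set s := y ^ (2 ^ 3 * p) with hs
  have hso : orderOf s = l ^ (a + 1) := order_pow (by omega) hy (by ring)
  have hT : Tor s l a e := hz.tor hso
  set t := s ^ l ^ a with ht
  have hst : t = y ^ (2 ^ 3 * p * l ^ a) := by rw [ht, hs, ← pow_mul]
  set x := y ^ (2 ^ 3 * l ^ (a + 1)) with hx
  have hxo : orderOf x = p := order_pow (Nat.mul_pos (by norm_num) hT0) hy (by ring)
  set u := y ^ (p * l ^ (a + 1)) with hu
  have huo : orderOf u = 2 ^ 3 := order_pow (Nat.mul_pos hp0 hT0) hy (by ring)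
  have hu8 : u ^ 2 ^ 3 = 1 := pow_of_order huo
  have hxp : x ^ p = 1 := pow_of_order hxo
  have htl : t ^ l = 1 := hT.ht
  have hsI : s ∈ Isom (polarBilin Q) := (Isom _).pow_mem hyI _
  have htI : t ∈ Isom (polarBilin Q) := (Isom _).pow_mem hsI _
  have hxI : x ∈ Isom (polarBilin Q) := (Isom _).pow_mem hyI _
  have huI : u ∈ Isom (polarBilin Q) := (Isom _).pow_mem hyI _
  have hxs : ∀ v, x (s v) = s (x v) := fun v => pow_comm y _ _ v
  have hus : ∀ v, u (s v) = s (u v) := fun v => pow_comm y _ _ v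
  have hxt : ∀ v, x (t v) = t (x v) := fun v => by rw [hst]; exact pow_comm y _ _ v
  have hut : ∀ v, u (t v) = t (u v) := fun v => by rw [hst]; exact pow_comm y _ _ v
  have hxu : ∀ v, x (u v) = u (x v) := fun v => pow_comm y _ _ v
  have huO : u ∈ Om Q := (Om Q).pow_mem hyO _
  have hu4O : u ^ 4 ∈ Om Q := (Om Q).pow_mem huO _
  have hr1 : Even (finrank F (bW u)) := even_rank hQ (by omega) ⟨n, by omega⟩ huO
  have hr4 : Even (finrank F (bW (u ^ 4))) := even_rank hQ (by omega) ⟨n, by omega⟩ hu4O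
  have hu4 : u ^ 4 ≠ 1 := by
    intro h
    have h1 := orderOf_dvd_iff_pow_eq_one.2 h
    rw [huo] at h1
    exact absurd (Nat.le_of_dvd (by norm_num) h1) (by norm_num)
  have hb4 := finrank_pos_of_ne_bot (bW_ne_bot hu4)
  have hge2 : 2 ≤ finrank F (bW (u ^ 4)) := by
    obtain ⟨k, hk⟩ := hr4
    omega
  have hWu : ∀ v ∈ bW t, u v ∈ bW t := bW_inv hut
  -- `N^4 = 0` on `W`
  have hW4 : (bW t).map (Nu u ^ 4) = ⊥ := by
    by_contra hne
    obtain ⟨k', hk', hE0, hk1⟩ := exists_last hu8 hne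
    have h1 := count hWu hk1
    have h2 : e ∣ finrank F ((bW t).map (Nu u ^ k')) := by
      apply hT.dvd
      · rintro _ ⟨v, hv, rfl⟩
        exact Nu_mem hWu k' v hv
      · rintro _ ⟨v, hv, rfl⟩
        exact ⟨s v, hT.inv v hv, Nu_comm (fun w => (hus w).symm) k' v⟩
    have h3 := Nat.le_of_dvd (finrank_pos_of_ne_bot hE0) h2
    have h4 := Submodule.finrank_le (bW t)
    rw [hV] at h4
    have h5 : 5 * e ≤ (k' + 1) * finrank F ((bW t).map (Nu u ^ k')) := Nat.mul_le_mul (by omega) h3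
    have h6 := hz.he
    rcases B.case with ⟨⟨j, hj⟩, h7, -⟩ | ⟨h7, h8, -⟩ <;> omega
  -- `W` has dimension `2 η`
  have hC0 : (⊤ : Submodule F (ι → F)).map (Nu u ^ 4) = (bV t).map (Nu u ^ 4) := by
    apply top_map_eq
    intro v
    obtain ⟨w, hw, c, hc, rfl⟩ := exists_split hlo htl v
    refine ⟨c, hc, ?_⟩
    rw [map_add, eq_zero_of_map hW4 w hw, zero_add]
  have hbVu : ∀ v ∈ bV t, u v ∈ bV t := bV_inv hut
  have h6 : 6 ≤ finrank F (bV t) := by
    rw [bW_four, hC0] at hge2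
    have := five_le hbVu hu8 (by
      intro h
      rw [h, finrank_bot] at hge2
      omega)
    omega
  have hsum := finrank_bW_add (F := F) t
  rw [hV] at hsum
  have hWpos : 0 < finrank F (bW t) := hT.pos
  have hWev : Even (finrank F (bW t)) := even_bW hβ htI hlo htl
  have hWe : e ∣ finrank F (bW t) := hT.dvd le_rfl hT.inv
  have hWd : finrank F (bW t) = 2 * η := by
    have h2e : 2 * η ∣ finrank F (bW t) := by
      rcases B.case with ⟨ho, h7, -⟩ | ⟨h7, h8, -⟩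
      · rw [h7] at hWe
        exact Nat.Coprime.mul_dvd_of_dvd_of_dvd (Nat.coprime_two_left.2 ho) hWev.two_dvd hWe
      · rwa [h8] at hWe
    obtain ⟨k, hk⟩ := h2e
    rcases Nat.lt_or_ge k 2 with hk2 | hk2
    · have hk0 : k ≠ 0 := by
        rintro rfl
        omega
      have : k = 1 := by omega
      rw [hk, this, mul_one]
    · exfalso
      have : 2 * η * 2 ≤ 2 * η * k := Nat.mul_le_mul_left _ hk2
      omega
  have hcore := core' hβ B hT hsI hWd
  have hxW : ∀ w ∈ bW t, x w = w := by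
    intro w hw
    exact pow_fix (a := p) (b := M) (by rw [hxp]; rfl) (hcore x hxI hxs w hw) hpM
  have huW : ∀ w ∈ bW t, u w = w := by
    intro w hw
    exact pow_fix (a := 2 ^ 3) (b := M) (by rw [hu8]; rfl) (hcore u huI hus w hw)
      (Nat.Coprime.pow_left 3 (Nat.coprime_two_left.2 B.odd))
  -- the rest
  set D := bW x with hD
  set C := bV t ⊓ bV x with hC
  have hf3 : finrank F D + finrank F C = finrank F (bV t) := finrank_three hlo htl hpo hxp hxt hxW
  have hDev : Even (finrank F D) := even_bW hβ hxI hpo hxp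
  have hx1 : x ≠ 1 := by
    intro h
    rw [h, orderOf_one] at hxo
    exact hp.one_lt.ne hxo
  have hDpos : 0 < finrank F D := finrank_pos_of_ne_bot (bW_ne_bot hx1)
  have hD4 : ∀ v ∈ D, (Nu u ^ 4) v = 0 := unip hβ hxI huI hxu hpo hxp hu8 (k := 4) (by
    have : finrank F (bW x) = finrank F D := rfl
    omega)
  have hCu : ∀ v ∈ C, u v ∈ C := by
    rintro v ⟨hv, hv'⟩
    exact ⟨hbVu v hv, bV_inv (fun w => (hxu w).symm) v hv'⟩
  have hC4 : (⊤ : Submodule F (ι → F)).map (Nu u ^ 4) = C.map (Nu u ^ 4) := by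
    apply top_map_eq
    intro v
    obtain ⟨w, hw, d, hd, c, hc, rfl⟩ := three_split hlo htl hpo hxp hxt hxW v
    refine ⟨c, hc, ?_⟩
    rw [map_add, map_add, eq_zero_of_map hW4 w hw, hD4 d hd, add_zero, zero_add]
  rw [bW_four, hC4] at hge2
  have hC6 := five_le hCu hu8 (by
    intro h
    rw [h, finrank_bot] at hge2
    omega)
  have hD2 : finrank F D = 2 := by
    obtain ⟨k, hk⟩ := hDev
    omega
  have hD1 : ∀ v ∈ D, (Nu u ^ 1) v = 0 := unip hβ hxI huI hxu hpo hxp hu8 (k := 1) (by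
    have : finrank F (bW x) = finrank F D := rfl
    omega)
  have hC1 : (⊤ : Submodule F (ι → F)).map (Nu u ^ 1) = C.map (Nu u ^ 1) := by
    apply top_map_eq
    intro v
    obtain ⟨w, hw, d, hd, c, hc, rfl⟩ := three_split hlo htl hpo hxp hxt hxW v
    refine ⟨c, hc, ?_⟩
    rw [map_add, map_add, Nu_one_apply (huW w hw), hD1 d hd, add_zero, zero_add]
  have h5 := six hCu hu8 (by omega) hge2
  rw [bW_eq, hC1, h5] at hr1
  exact absurd hr1 (by decide)

/-- **(N4)** -/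
theorem n4 (hQ : (polarBilin Q).Nondegenerate) {n : ℕ} (hn : Fintype.card ι = 2 * n) {l a e η M : ℕ}
    (B : Blk (Fintype.card F) l a e η M) (hη : η + 3 = n) (hη2 : 4 ≤ η) {p : ℕ} (hp : p.Prime) (hp2 : p ≠ 2)
    (hpM : Nat.Coprime p M) (hpq : ¬ p ∣ Fintype.card F ^ 2 - 1) {y : (ι → F) ≃ₗ[F] (ι → F)} (hyO : y ∈ Om Q)
    (hy : orderOf y = 2 * (p * l ^ (a + 1))) : False := by
  classical
  have hβ : Alt (polarBilin Q) := alt_of hQ
  have hV : finrank F (ι → F) = 2 * n := by rw [Module.finrank_fintype_fun_eq_card, hn]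
  have hyI := Om_isom hyO
  have hz := B.hz
  have hpo := hp.odd_of_ne_two hp2
  have hlo := hz.hl.odd_of_ne_two hz.hl2
  obtain ⟨s, x, u, hsz, hxz, huz, hT, hxo, huo, hWd, hsum, hxW, huW⟩ := split hβ B (by omega) hpo hpM hyI
    (c := 1) (by rw [pow_one]; exact hy)
  have huO : u ∈ Om Q := mem_of_zpowers hyO huz
  have hr1 : Even (finrank F (bW u)) := even_rank hQ (by omega) ⟨n, by omega⟩ huO
  have huI := Om_isom huO
  have hxI := Om_isom (mem_of_zpowers hyO hxz)
  set t := s ^ l ^ a with ht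
  have htl : t ^ l = 1 := hT.ht
  have hxp : x ^ p = 1 := pow_of_order hxo
  have hu2 : u ^ 2 ^ 1 = 1 := pow_of_order huo
  have hcomm : ∀ g h : (ι → F) ≃ₗ[F] (ι → F), g ∈ Subgroup.zpowers y → h ∈ Subgroup.zpowers y →
      ∀ v, g (h v) = h (g v) := by
    rintro _ _ ⟨i, rfl⟩ ⟨j, rfl⟩ v
    show (y ^ i * y ^ j) v = (y ^ j * y ^ i) v
    rw [← zpow_add, ← zpow_add, add_comm]
  have htz : t ∈ Subgroup.zpowers y := (Subgroup.zpowers y).pow_mem hsz _
  have hxt := hcomm x t hxz htz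
  have hut := hcomm u t huz htz
  have hxu := hcomm x u hxz huz
  set D := bW x with hD
  set C := bV t ⊓ bV x with hC
  have hf3 : finrank F D + finrank F C = finrank F (bV t) := finrank_three hlo htl hpo hxp hxt hxW
  have hDev : Even (finrank F D) := even_bW hβ hxI hpo hxp
  have hx1 : x ≠ 1 := by
    intro h
    rw [h, orderOf_one] at hxo
    exact hp.one_lt.ne hxo
  have hu1 : u ≠ 1 := by
    intro h
    rw [h, orderOf_one] at huo
    norm_num at huo
  have hDpos : 0 < finrank F D := finrank_pos_of_ne_bot (bW_ne_bot hx1)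
  have hDu : ∀ v ∈ D, u v ∈ D := bW_inv (fun v => (hxu v).symm)
  have hDx : ∀ v ∈ D, x v ∈ D := bW_inv (fun v => rfl)
  have hCu : ∀ v ∈ C, u v ∈ C := by
    rintro v ⟨hv, hv'⟩
    exact ⟨bV_inv hut v hv, bV_inv (fun w => (hxu w).symm) v hv'⟩
  -- `x`-invariant subspaces of `D`
  have hdvd : ∀ Y : Submodule F (ι → F), (∀ v ∈ Y, x v ∈ Y) → Y ≤ D → p ∣ Fintype.card F ^ finrank F Y - 1 := by
    intro Y hY hYD
    have h1 := dvd_card_sub_one (F := F) hp hp2 (x := x) (b := 0) (by rw [hxo]; simp) hY (by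
      rw [pow_zero, pow_one]; exact hYD)
    rwa [zero_add, pow_one] at h1
  have hno : ∀ Y : Submodule F (ι → F), (∀ v ∈ Y, x v ∈ Y) → Y ≤ D → 0 < finrank F Y → 3 ≤ finrank F Y := by
    intro Y hY hYD h0
    by_contra hlt
    have h1 := hdvd Y hY hYD
    rcases (by omega : finrank F Y = 1 ∨ finrank F Y = 2) with h2 | h2
    · rw [h2, pow_one] at h1
      exact hpq (h1.trans (sub_one_dvd _ _))
    · rw [h2] at h1
      exact hpq h1
  -- the image of `D`
  have hk1 : ∀ v ∈ D, (Nu u ^ (1 + 1)) v = 0 := by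
    intro v _
    have h1 := Nu_pow u 1
    rw [hu2, Nu_one] at h1
    have h2 : Nu u ^ (1 + 1) = 0 := h1
    rw [h2]
    rfl
  have hcnt := count hDu hk1
  have himg : D.map (Nu u ^ 1) = ⊥ ∨ 3 ≤ finrank F (D.map (Nu u ^ 1)) := by
    by_cases h0 : D.map (Nu u ^ 1) = ⊥
    · left; exact h0
    · right
      apply hno _ _ _ (finrank_pos_of_ne_bot h0)
      · rintro _ ⟨v, hv, rfl⟩
        exact ⟨x v, hDx v hv, Nu_comm hxu 1 v⟩
      · rintro _ ⟨v, hv, rfl⟩
        exact Nu_mem hDu 1 v hv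
  have hD3 := hno D hDx le_rfl hDpos
  have hbu := finrank_pos_of_ne_bot (bW_ne_bot hu1)
  rcases himg with h0 | h3
  · -- trivial on `D`
    have hC1 : (⊤ : Submodule F (ι → F)).map (Nu u ^ 1) = C.map (Nu u ^ 1) := by
      apply top_map_eq
      intro v
      obtain ⟨w, hw, d, hd, c, hc, rfl⟩ := three_split hlo htl hpo hxp hxt hxW v
      refine ⟨c, hc, ?_⟩
      rw [map_add, map_add, Nu_one_apply (huW w hw), eq_zero_of_map h0 d hd, add_zero, zero_add]
    rw [bW_eq, hC1] at hr1 hbu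
    have hC2 : finrank F C ≤ 2 := by
      obtain ⟨k, hk⟩ := hDev
      omega
    have hcc := count hCu (k := 1) (fun v _ => by
      have h1 := Nu_pow u 1
      rw [hu2, Nu_one] at h1
      have h2 : Nu u ^ (1 + 1) = 0 := h1
      rw [h2]
      rfl)
    obtain ⟨k, hk⟩ := hr1
    omega
  · -- of rank three
    have hD6 : finrank F D = 6 := by
      obtain ⟨k, hk⟩ := hDev
      omega
    have hC0 : finrank F C = 0 := by omega
    have hC0' : C = ⊥ := Submodule.finrank_eq_zero.1 hC0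
    have hC1 : (⊤ : Submodule F (ι → F)).map (Nu u ^ 1) = D.map (Nu u ^ 1) := by
      apply top_map_eq
      intro v
      obtain ⟨w, hw, d, hd, c, hc, rfl⟩ := three_split hlo htl hpo hxp hxt hxW v
      have hc' : c ∈ C := hc
      rw [hC0', Submodule.mem_bot] at hc'
      refine ⟨d, hd, ?_⟩
      rw [map_add, map_add, Nu_one_apply (huW w hw), hc', map_zero, add_zero, zero_add]
    rw [bW_eq, hC1] at hr1
    obtain ⟨k, hk⟩ := hr1
    omega

/-- `q - 1` and an odd prime divisor of `q + 1`. -/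
theorem coprime_of_dvd {q r : ℕ} (hq : 1 ≤ q) (hr : r.Prime) (hr2 : r ≠ 2) (h : r ∣ q + 1) : Nat.Coprime r (q - 1) := by
  rw [hr.coprime_iff_not_dvd]
  intro h1
  have h2 := Nat.dvd_sub h h1
  have h3 : q + 1 - (q - 1) = 2 := by omega
  rw [h3] at h2
  exact hr2 ((Nat.prime_dvd_prime_iff_eq hr Nat.prime_two).1 h2)

/-- **(N5)** -/
theorem n5 (hQ : (polarBilin Q).Nondegenerate) (hn : Fintype.card ι = 10) {r₁ r₂ : ℕ} (hr1 : r₁.Prime) (hr2 : r₂.Prime)
    (h1q : r₁ ∣ Fintype.card F - 1) (h2q : r₂ ∣ Fintype.card F + 1) {y : (ι → F) ≃ₗ[F] (ι → F)} (hyO : y ∈ Om Q)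
    (hy : orderOf y = 2 ^ 3 * (r₁ * r₂)) : False := by
  classical
  have hβ : Alt (polarBilin Q) := alt_of hQ
  have hV : finrank F (ι → F) = 10 := by rw [Module.finrank_fintype_fun_eq_card, hn]
  have hyI := Om_isom hyO
  have hq : 1 < Fintype.card F := Fintype.one_lt_card
  have hqe : Even (Fintype.card F) := by
    have := even_pow_card (F := F) (m := 1) one_pos
    rwa [pow_one] at this
  have hq1 : Odd (Fintype.card F - 1) := Nat.Even.sub_odd hq.le hqe odd_one
  have ho1 : Odd r₁ := Odd.of_dvd_nat hq1 h1q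
  have ho2 : Odd r₂ := Odd.of_dvd_nat hqe.add_one h2q
  have hr22 : r₂ ≠ 2 := by
    rintro rfl
    exact absurd ho2 (by decide)
  have hcop := coprime_of_dvd hq.le hr2 hr22 h2q
  have ho : Odd (r₁ * r₂) := ho1.mul ho2
  have p1 := hr1.pos
  have p2 := hr2.pos
  set x₁ := y ^ (2 ^ 3 * r₂) with hx₁
  have hx₁o : orderOf x₁ = r₁ := order_pow (Nat.mul_pos (by norm_num) p2) hy (by ring)
  set x₂ := y ^ (2 ^ 3 * r₁) with hx₂
  have hx₂o : orderOf x₂ = r₂ := order_pow (Nat.mul_pos (by norm_num) p1) hy (by ring)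
  set x := y ^ (2 ^ 3) with hx
  have hxo : orderOf x = r₁ * r₂ := order_pow (by norm_num) hy rfl
  set u := y ^ (r₁ * r₂) with hu
  have huo : orderOf u = 2 ^ 3 := order_pow (Nat.mul_pos p1 p2) hy (by ring)
  have hu8 : u ^ 2 ^ 3 = 1 := pow_of_order huo
  have hxp : x ^ (r₁ * r₂) = 1 := pow_of_order hxo
  have hx₁q : x₁ ^ (Fintype.card F - 1) = 1 := by
    obtain ⟨k, hk⟩ := h1q
    rw [hk, pow_mul, pow_of_order hx₁o, one_pow]
  have hx₂r : x₂ ^ r₂ = 1 := pow_of_order hx₂o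
  have hx₁I : x₁ ∈ Isom (polarBilin Q) := (Isom _).pow_mem hyI _
  have hxI : x ∈ Isom (polarBilin Q) := (Isom _).pow_mem hyI _
  have huI : u ∈ Isom (polarBilin Q) := (Isom _).pow_mem hyI _
  have h12 : ∀ v, x₁ (x₂ v) = x₂ (x₁ v) := fun v => pow_comm y _ _ v
  have h1u : ∀ v, x₁ (u v) = u (x₁ v) := fun v => pow_comm y _ _ v
  have h2u : ∀ v, x₂ (u v) = u (x₂ v) := fun v => pow_comm y _ _ v
  have h1x : ∀ v, x₁ (x v) = x (x₁ v) := fun v => pow_comm y _ _ v
  have h2x : ∀ v, x₂ (x v) = x (x₂ v) := fun v => pow_comm y _ _ v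
  have hxu : ∀ v, x (u v) = u (x v) := fun v => pow_comm y _ _ v
  have huO : u ∈ Om Q := (Om Q).pow_mem hyO _
  have hu4O : u ^ 4 ∈ Om Q := (Om Q).pow_mem huO _
  have hr1' : Even (finrank F (bW u)) := even_rank hQ (by omega) ⟨5, by omega⟩ huO
  have hr4 : Even (finrank F (bW (u ^ 4))) := even_rank hQ (by omega) ⟨5, by omega⟩ hu4O
  have hu4 : u ^ 4 ≠ 1 := by
    intro h
    have h1 := orderOf_dvd_iff_pow_eq_one.2 h
    rw [huo] at h1
    exact absurd (Nat.le_of_dvd (by norm_num) h1) (by norm_num)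
  have hb4 := finrank_pos_of_ne_bot (bW_ne_bot hu4)
  have hge2 : 2 ≤ finrank F (bW (u ^ 4)) := by
    obtain ⟨k, hk⟩ := hr4
    omega
  set D := bW x with hD
  set C := bV x with hC
  have hDu : ∀ v ∈ D, u v ∈ D := bW_inv (fun v => (hxu v).symm)
  have hDx : ∀ v ∈ D, x v ∈ D := bW_inv (fun v => rfl)
  have hD1 : ∀ v ∈ D, x₁ v ∈ D := bW_inv h1x
  have hD2 : ∀ v ∈ D, x₂ v ∈ D := bW_inv h2x
  have hCu : ∀ v ∈ C, u v ∈ C := bV_inv (fun v => (hxu v).symm)
  have hDnd := nd_bW hβ hxI ho hxp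
  have hDev : Even (finrank F D) := even_bW hβ hxI ho hxp
  have hsum : finrank F D + finrank F C = 10 := by
    have := finrank_bW_add (F := F) x
    rw [hV] at this
    exact this
  have hx1 : x ≠ 1 := by
    intro h
    rw [h, orderOf_one] at hxo
    exact hr1.one_lt.ne (Nat.dvd_one.1 (hxo ▸ dvd_mul_right r₁ r₂)).symm
  have hDpos : 0 < finrank F D := finrank_pos_of_ne_bot (bW_ne_bot hx1)
  -- neither `x₁` nor `x₂` is trivial on `D`
  have hnt : ∀ (z : (ι → F) ≃ₗ[F] (ι → F)) (k : ℕ), z = x ^ k → z ≠ 1 → ¬ ∀ v ∈ D, z v = v := by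
    intro z k hz hz1 hzD
    apply hz1
    apply LinearEquiv.ext
    intro v
    obtain ⟨w, hw, c, hc, rfl⟩ := exists_split ho hxp v
    have hc1 : ∀ j : ℕ, (x ^ j) c = c := by
      intro j
      induction j with
      | zero => rfl
      | succ j ih =>
        rw [pow_succ]
        show (x ^ j) (x c) = c
        rw [mem_bV.1 hc, ih]
    show z (w + c) = w + c
    rw [map_add, hzD w hw, hz, hc1]
  have hnt1 : ¬ ∀ v ∈ D, x₁ v = v := hnt x₁ r₂ (by rw [hx₁, hx, pow_mul]) (by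
    intro h
    rw [h, orderOf_one] at hx₁o
    exact hr1.one_lt.ne hx₁o)
  have hnt2 : ¬ ∀ v ∈ D, x₂ v = v := hnt x₂ r₁ (by rw [hx₂, hx, pow_mul]) (by
    intro h
    rw [h, orderOf_one] at hx₂o
    exact hr2.one_lt.ne hx₂o)
  -- the dimension of the last image is not one
  have hne1 : ∀ k : ℕ, finrank F (D.map (Nu u ^ k)) ≠ 1 := by
    intro k h1
    obtain ⟨e0, he0⟩ := finrank_le_one_iff.1 h1.le
    have hEx : ∀ e ∈ D.map (Nu u ^ k), x e ∈ D.map (Nu u ^ k) := by
      rintro _ ⟨v, hv, rfl⟩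
      exact ⟨x v, hDx v hv, Nu_comm hxu k v⟩
    obtain ⟨d, hd⟩ := he0 ⟨x e0, hEx e0 e0.2⟩
    have hd' : x e0 = d • (e0 : ι → F) := (congrArg Subtype.val hd).symm
    have hsc : ∀ e ∈ D.map (Nu u ^ k), x e = d • e := by
      intro e he
      obtain ⟨c, hc⟩ := he0 ⟨e, he⟩
      have hc' : c • (e0 : ι → F) = e := congrArg Subtype.val hc
      rw [← hc', map_smul, hd', smul_comm]
    have hne : D.map (Nu u ^ k) ≠ ⊥ := by
      intro h
      rw [h, finrank_bot] at h1
      omega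
    have hd1 := scalar_one hβ hxI huI hxu hDx hDnd hDu hne hsc
    apply hne
    rw [eq_bot_iff]
    intro e he
    rw [Submodule.mem_bot]
    obtain ⟨v, hv, rfl⟩ := he
    apply disj ho hxp (Nu_mem hDu k v hv)
    rw [hsc _ ⟨v, hv, rfl⟩, hd1, one_smul]
  -- the last image
  have hlast : ∀ k : ℕ, D.map (Nu u ^ k) ≠ ⊥ → ∃ k' d : ℕ, k ≤ k' ∧ 2 ≤ d ∧ (k' + 1) * d ≤ finrank F D ∧
      ¬ (d = 2 ∧ finrank F D = (k' + 1) * 2) := by
    intro k hk
    obtain ⟨k', h1, h2, h3⟩ := exists_last hu8 hk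
    refine ⟨k', finrank F (D.map (Nu u ^ k')), h1, ?_, count hDu h3, ?_⟩
    · have := finrank_pos_of_ne_bot h2
      have := hne1 k'
      omega
    · rintro ⟨h4, h5⟩
      rcases two_on hβ h12 hx₁I huI h1u h2u hD1 hD2 hDu hDnd h3 h4 h5 hq1 hx₁q ho2 hcop hx₂r with h6 | h6
      · exact hnt1 h6
      · exact hnt2 h6
  have hkill : ∀ k : ℕ, finrank F D ≤ (k + 1) * 2 → D.map (Nu u ^ k) = ⊥ := by
    intro k hk
    by_contra hne
    obtain ⟨k', d, h1, h2, h3, h4⟩ := hlast k hne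
    have h5 : (k' + 1) * 2 ≤ (k' + 1) * d := Nat.mul_le_mul_left _ h2
    have h6 : (k + 1) * 2 ≤ (k' + 1) * 2 := Nat.mul_le_mul_right _ (by omega)
    have h7 : k' = k := by omega
    have h8 : (k' + 1) * d = (k' + 1) * 2 := by omega
    have h9 : d = 2 := Nat.eq_of_mul_eq_mul_left (Nat.succ_pos k') h8
    exact h4 ⟨h9, by omega⟩
  have hD4 := hkill 4 (by omega)
  have hC4 : (⊤ : Submodule F (ι → F)).map (Nu u ^ 4) = C.map (Nu u ^ 4) := by
    apply top_map_eq
    intro v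
    obtain ⟨w, hw, c, hc, rfl⟩ := exists_split ho hxp v
    refine ⟨c, hc, ?_⟩
    rw [map_add, eq_zero_of_map hD4 w hw, zero_add]
  rw [bW_four, hC4] at hge2
  have hC6 := five_le hCu hu8 (by
    intro h
    rw [h, finrank_bot] at hge2
    omega)
  have hDne2 : finrank F D ≠ 2 := by
    intro h
    have h1 := hkill 0 (by omega)
    rw [map_zero_eq] at h1
    rw [h1, finrank_bot] at hDpos
    omega
  have hD4' : finrank F D = 4 := by
    obtain ⟨k, hk⟩ := hDev
    omega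
  have hD1' := hkill 1 (by omega)
  have hC1 : (⊤ : Submodule F (ι → F)).map (Nu u ^ 1) = C.map (Nu u ^ 1) := by
    apply top_map_eq
    intro v
    obtain ⟨w, hw, c, hc, rfl⟩ := exists_split ho hxp v
    refine ⟨c, hc, ?_⟩
    rw [map_add, eq_zero_of_map hD1' w hw, zero_add]
  have h5 := six hCu hu8 (by omega) hge2
  rw [bW_eq, hC1, h5] at hr1'
  exact absurd hr1' (by decide)

end main

end Cfsg.Agent.H382.Out
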