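import Mathlib

/-!
# Elements of order `8 s` in extensions (helper382)

`Good L` : a Sylow 2-subgroup `P` of `L` and a subgroup `K₀` of `P` such that the elements of order eight of `P` form one
orbit of the normalizer of `P`, modulo `K₀`. Then every group `X` with a normal subgroup `S` isomorphic to `L` such that an
odd prime `s` divides `|X : S|` has an element of order `8 s`.
-/

set_option autoImplicit false
set_option linter.unusedVariables false
set_option linter.unusedSectionVars false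

namespace Cfsg.Agent.H382.Eight

open Subgroup

/-- The hypothesis on `L`. -/
def Good (L : Type*) [Group L] : Prop :=
  ∃ (P : Sylow 2 L) (K : Subgroup L), K ≤ P ∧ (∃ r ∈ P, orderOf r = 8) ∧
    (∀ r ∈ P, orderOf r = 8 → ∀ k ∈ K, orderOf (r * k) = 8) ∧
    ∀ r ∈ P, orderOf r = 8 → ∀ r' ∈ P, orderOf r' = 8 →
      ∃ t ∈ normalizer ((P : Subgroup L) : Set L), r'⁻¹ * (t * r * t⁻¹) ∈ K

theorem Good.of_equiv {L L' : Type*} [Group L] [Group L'] [Finite L] (e : L' ≃* L) (h : Good L) : Good L' := by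
  obtain ⟨P, K, hK, ⟨r, hr, hr8⟩, h1, h2⟩ := h
  have he : ∀ x, orderOf (e x) = orderOf x := fun x => orderOf_injective e.toMonoidHom e.injective x
  let P' : Sylow 2 L' := P.comapOfInjective e.toMonoidHom e.injective (by
    intro x _
    exact ⟨e.symm x, e.apply_symm_apply x⟩)
  have hP' : ∀ x, x ∈ P' ↔ e x ∈ P := fun x => Iff.rfl
  refine ⟨P', K.comap e.toMonoidHom, fun x hx => hK hx, ⟨e.symm r, ?_, ?_⟩, ?_, ?_⟩
  · rw [hP', e.apply_symm_apply]
    exact hr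
  · rw [← he, e.apply_symm_apply, hr8]
  · intro r hr hr8 k hk
    rw [← he, map_mul]
    exact h1 (e r) hr (by rw [he, hr8]) _ hk
  · intro r hr hr8 r' hr' hr8'
    obtain ⟨t, ht, h3⟩ := h2 (e r) hr (by rw [he, hr8]) (e r') hr' (by rw [he, hr8'])
    refine ⟨e.symm t, ?_, ?_⟩
    · rw [mem_normalizer_iff] at ht ⊢
      intro x
      have := ht (e x)
      show e x ∈ P ↔ e (e.symm t * x * (e.symm t)⁻¹) ∈ P
      rw [map_mul, map_mul, map_inv, e.apply_symm_apply]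
      exact this
    · show e (r'⁻¹ * (e.symm t * r * (e.symm t)⁻¹)) ∈ K
      rw [map_mul, map_mul, map_mul, map_inv, map_inv, e.apply_symm_apply]
      exact h3

variable {X : Type*} [Group X] [Finite X]

theorem inv_mem_of_pow {p : X → Prop} (h1 : p 1) (hmul : ∀ x y, p x → p y → p (x * y)) {x : X} (hx : p x) : p x⁻¹ := by
  have hpow : ∀ n : ℕ, p (x ^ n) := by
    intro n
    induction n with
    | zero => rw [pow_zero]; exact h1
    | succ n ih => rw [pow_succ]; exact hmul _ _ ih hx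
  have h2 : x⁻¹ = x ^ (orderOf x - 1) := by
    apply inv_eq_of_mul_eq_one_right
    rw [← pow_succ', Nat.sub_add_cancel (orderOf_pos x), pow_orderOf_eq_one]
  rw [h2]
  exact hpow _

/-- The group of all `k ∈ P` with `r k` of order eight for all `r ∈ P` of order eight. -/
def KK (P : Subgroup X) : Subgroup X where
  carrier := {k | k ∈ P ∧ ∀ r ∈ P, orderOf r = 8 → orderOf (r * k) = 8}
  mul_mem' := by
    rintro k k' ⟨hk, h1⟩ ⟨hk', h1'⟩
    refine ⟨P.mul_mem hk hk', fun r hr hr8 => ?_⟩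
    rw [← mul_assoc]
    exact h1' _ (P.mul_mem hr hk) (h1 r hr hr8)
  one_mem' := ⟨P.one_mem, fun r _ hr8 => by rw [mul_one, hr8]⟩
  inv_mem' := by
    intro k hk
    refine inv_mem_of_pow (p := fun k => k ∈ P ∧ ∀ r ∈ P, orderOf r = 8 → orderOf (r * k) = 8) ?_ ?_ hk
    · exact ⟨P.one_mem, fun r _ hr8 => by rw [mul_one, hr8]⟩
    · rintro k k' ⟨hk, h1⟩ ⟨hk', h1'⟩
      refine ⟨P.mul_mem hk hk', fun r hr hr8 => ?_⟩
      rw [← mul_assoc]
      exact h1' _ (P.mul_mem hr hk) (h1 r hr hr8)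

theorem orderOf_conj (n x : X) : orderOf (n * x * n⁻¹) = orderOf x := by
  have := orderOf_injective (MulAut.conj n).toMonoidHom (MulAut.conj n).injective x
  exact this

theorem KK_conj {P : Subgroup X} {n : X} (hn : ∀ x, x ∈ P ↔ n * x * n⁻¹ ∈ P) {k : X} (hk : k ∈ KK P) :
    n * k * n⁻¹ ∈ KK P := by
  refine ⟨(hn k).1 hk.1, fun r hr hr8 => ?_⟩
  have h1 : r * (n * k * n⁻¹) = n * ((n⁻¹ * r * n) * k) * n⁻¹ := by group
  rw [h1, orderOf_conj]
  refine hk.2 _ ?_ ?_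
  · rw [hn]
    have : n * (n⁻¹ * r * n) * n⁻¹ = r := by group
    rw [this]
    exact hr
  · have := orderOf_conj n⁻¹ r
    rw [inv_inv] at this
    rw [this, hr8]

theorem exists_fixed {z : X} {s a : ℕ} (hs : s.Prime) (hz : z ^ s ^ a = 1) {A : Set X}
    (hA : ∀ x ∈ A, z * x * z⁻¹ ∈ A) (hc : ¬ s ∣ Nat.card A) : ∃ x ∈ A, z * x = x * z := by
  classical
  have : Fact s.Prime := ⟨hs⟩
  have : Fintype A := Fintype.ofFinite A
  let f : Function.End A := fun x => ⟨z * x * z⁻¹, hA x x.2⟩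
  have hf : ∀ (n : ℕ) (x : A), ((f ^ n) x : X) = z ^ n * x * (z ^ n)⁻¹ := by
    intro n
    induction n with
    | zero => intro x; show (x : X) = _; rw [pow_zero, one_mul, inv_one, mul_one]
    | succ n ih =>
      intro x
      rw [pow_succ f]
      show ((f ^ n) (f x) : X) = _
      rw [ih]
      show z ^ n * (z * x * z⁻¹) * (z ^ n)⁻¹ = _
      rw [pow_succ]
      group
  have hf1 : f ^ s ^ a = 1 := by
    funext x
    apply Subtype.ext
    rw [hf, hz, one_mul, inv_one, mul_one]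
    rfl
  have h1 := Equiv.Perm.card_fixedPoints_modEq hf1
  have h2 : Nonempty (Function.fixedPoints f) := by
    by_contra hno
    rw [not_nonempty_iff] at hno
    rw [Fintype.card_eq_zero (α := Function.fixedPoints f), Nat.modEq_zero_iff_dvd, ← Nat.card_eq_fintype_card] at h1
    exact hc h1
  obtain ⟨⟨x, hx⟩⟩ := h2
  refine ⟨x, x.2, ?_⟩
  have h3 : z * x * z⁻¹ = x := congrArg Subtype.val hx
  calc z * x = z * x * z⁻¹ * z := by group
    _ = x * z := by rw [h3]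

/-- **The extension lemma.** -/
theorem Good.exists_orderOf {S : Subgroup X} [S.Normal] (h : Good S) {s : ℕ} (hs : s.Prime) (hs2 : s ≠ 2)
    (hsX : s ∣ S.index) : ∃ y : X, orderOf y = 8 * s := by
  classical
  obtain ⟨P, K₀, hK₀, ⟨r₀, hr₀, hr8⟩, h1, h2⟩ := h
  have : Fact (Nat.Prime 2) := ⟨Nat.prime_two⟩
  have : Fact s.Prime := ⟨hs⟩
  set PX : Subgroup X := (P : Subgroup S).map S.subtype with hPX
  have hoS : ∀ x : S, orderOf (x : X) = orderOf x := fun x => orderOf_injective S.subtype S.subtype_injective x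
  have hmem : ∀ x : S, (x : X) ∈ PX ↔ x ∈ P := by
    intro x
    constructor
    · rintro ⟨y, hy, hyx⟩
      rwa [← Subtype.ext hyx]
    · intro hx
      exact ⟨x, hx, rfl⟩
  have hPXS : ∀ x ∈ PX, ∃ y : S, y ∈ P ∧ (y : X) = x := by
    rintro _ ⟨y, hy, rfl⟩
    exact ⟨y, hy, rfl⟩
  have hfr := Sylow.normalizer_sup_eq_top P
  rw [← hPX] at hfr
  -- `K₀ ≤ KK`
  have hKK : ∀ k ∈ K₀, (k : X) ∈ KK PX := by
    intro k hk
    refine ⟨(hmem k).2 (hK₀ hk), fun r hr hr8 => ?_⟩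
    obtain ⟨y, hy, rfl⟩ := hPXS r hr
    rw [hoS] at hr8
    have := h1 y hy hr8 k hk
    rw [← hoS] at this
    exact this
  -- an element of the normalizer
  obtain ⟨xb, hxb⟩ := exists_prime_orderOf_dvd_card' (G := X ⧸ S) s (by rwa [← Subgroup.index_eq_card])
  obtain ⟨x, rfl⟩ := QuotientGroup.mk_surjective xb
  obtain ⟨n, hn, g, hg, hng⟩ : ∃ n ∈ normalizer (PX : Set X), ∃ g ∈ S, n * g = x := by
    have : x ∈ normalizer (PX : Set X) ⊔ S := by rw [hfr]; trivial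
    rw [Subgroup.mem_sup_of_normal_right] at this
    obtain ⟨n, hn, g, hg, h⟩ := this
    exact ⟨n, hn, g, hg, h⟩
  have hnx : (n : X ⧸ S) = x := by
    rw [← hng, QuotientGroup.mk_mul, (QuotientGroup.eq_one_iff g).2 hg, mul_one]
  rw [mem_normalizer_iff] at hn
  set r : X := (r₀ : X) with hr
  have hrP : r ∈ PX := (hmem r₀).2 hr₀
  have hro : orderOf r = 8 := by rw [hr, hoS, hr8]
  -- conjugate
  obtain ⟨r', hr', hr'n⟩ := hPXS (n * r * n⁻¹) ((hn r).1 hrP)
  have hr'8 : orderOf r' = 8 := by rw [← hoS, hr'n, orderOf_conj, hro]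
  obtain ⟨t, ht, htk⟩ := h2 r₀ hr₀ hr8 r' hr' hr'8
  have htX : ∀ x, x ∈ PX ↔ (t : X) * x * (t : X)⁻¹ ∈ PX := by
    intro x
    constructor
    · intro hx
      obtain ⟨y, hy, rfl⟩ := hPXS x hx
      have := ((mem_normalizer_iff).1 ht y).1 hy
      exact (hmem _).2 this
    · intro hx
      obtain ⟨y, hy, hyx⟩ := hPXS _ hx
      have h3 : x = (t⁻¹ * y * t : S) := by
        show x = (t : X)⁻¹ * y * t
        rw [hyx]
        group
      rw [h3, hmem]
      apply ((mem_normalizer_iff).1 ht _).2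
      have : t * (t⁻¹ * y * t) * t⁻¹ = y := by group
      rw [this]
      exact hy
  have htX' : ∀ x, x ∈ PX ↔ (t : X)⁻¹ * x * ((t : X)⁻¹)⁻¹ ∈ PX := by
    intro x
    rw [htX ((t : X)⁻¹ * x * ((t : X)⁻¹)⁻¹)]
    have : (t : X) * ((t : X)⁻¹ * x * ((t : X)⁻¹)⁻¹) * (t : X)⁻¹ = x := by group
    rw [this]
  set m := (t : X)⁻¹ * n with hm
  have hmP : ∀ x, x ∈ PX ↔ m * x * m⁻¹ ∈ PX := by
    intro x
    rw [hn x, htX' (n * x * n⁻¹)]
    have : (t : X)⁻¹ * (n * x * n⁻¹) * ((t : X)⁻¹)⁻¹ = m * x * m⁻¹ := by rw [hm]; group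
    rw [this]
  have hmr : ∃ k ∈ KK PX, m * r * m⁻¹ = r * k := by
    set k₀ : S := r'⁻¹ * (t * r₀ * t⁻¹) with hk₀
    have h3 : (k₀ : X) ∈ KK PX := hKK _ htk
    refine ⟨(t : X)⁻¹ * (k₀ : X)⁻¹ * ((t : X)⁻¹)⁻¹, KK_conj htX' ((KK PX).inv_mem h3), ?_⟩
    have h4 : (k₀ : X) = (n * r * n⁻¹)⁻¹ * ((t : X) * r * (t : X)⁻¹) := by
      rw [← hr'n, hk₀]
      rfl
    rw [h4, hm]
    group
  have hmx : (m : X ⧸ S) = x := by
    rw [hm, QuotientGroup.mk_mul, hnx, (QuotientGroup.eq_one_iff ((t : X)⁻¹)).2 (S.inv_mem t.2), one_mul]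
  -- the `s`-part
  obtain ⟨a, j, hj, haj⟩ := Nat.exists_eq_pow_mul_and_not_dvd (orderOf_pos m).ne' s hs.ne_one
  set z := m ^ j with hz
  have hj0 : 0 < j := Nat.pos_of_ne_zero (by rintro rfl; exact hj (dvd_zero _))
  have hzo : orderOf z = s ^ a := by
    rw [hz, orderOf_pow_of_dvd hj0.ne' (by rw [haj]; exact dvd_mul_left _ _), haj, Nat.mul_div_cancel _ hj0]
  have hzS : z ≠ 1 := by
    intro h
    apply hj
    rw [← hxb, ← hmx, orderOf_dvd_iff_pow_eq_one, ← QuotientGroup.mk_pow, ← hz, h]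
    rfl
  have ha0 : a ≠ 0 := by
    rintro rfl
    rw [pow_zero, orderOf_eq_one_iff] at hzo
    exact hzS hzo
  -- the coset
  let A : Set X := {w | ∃ k ∈ KK PX, w = r * k}
  have hAcard : Nat.card A = Nat.card (KK PX) := by
    refine (Nat.card_congr (Equiv.ofBijective (fun k : KK PX => (⟨r * k, ⟨k, k.2, rfl⟩⟩ : A)) ⟨?_, ?_⟩)).symm
    · intro k k' hkk
      exact Subtype.ext (mul_left_cancel (congrArg Subtype.val hkk))
    · rintro ⟨_, k, hk, rfl⟩
      exact ⟨⟨k, hk⟩, rfl⟩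
  have hAs : ¬ s ∣ Nat.card A := by
    rw [hAcard]
    have h3 : KK PX ≤ PX := fun k hk => hk.1
    have h4 : IsPGroup 2 (KK PX) := (P.2.map S.subtype).to_le h3
    obtain ⟨b, hb⟩ := (IsPGroup.iff_card).1 h4
    rw [hb]
    intro h5
    exact hs2 ((Nat.prime_dvd_prime_iff_eq hs Nat.prime_two).1 (hs.dvd_of_dvd_pow h5))
  have hpow : ∀ i : ℕ, (∀ x, x ∈ PX ↔ m ^ i * x * (m ^ i)⁻¹ ∈ PX) ∧ ∀ w ∈ A, m ^ i * w * (m ^ i)⁻¹ ∈ A := by
    intro i
    induction i with
    | zero => simp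
    | succ i ih =>
      refine ⟨fun x => ?_, fun w hw => ?_⟩
      · rw [hmP x, ih.1 (m * x * m⁻¹)]
        have : m ^ i * (m * x * m⁻¹) * (m ^ i)⁻¹ = m ^ (i + 1) * x * (m ^ (i + 1))⁻¹ := by
          rw [pow_succ]; group
        rw [this]
      · have h3 : m * w * m⁻¹ ∈ A := by
          obtain ⟨k, hk, rfl⟩ := hw
          obtain ⟨k', hk', hmr⟩ := hmr
          refine ⟨k' * (m * k * m⁻¹), (KK PX).mul_mem hk' (KK_conj hmP hk), ?_⟩
          calc m * (r * k) * m⁻¹ = (m * r * m⁻¹) * (m * k * m⁻¹) := by group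
            _ = r * (k' * (m * k * m⁻¹)) := by rw [hmr, mul_assoc]
        have h4 := ih.2 _ h3
        have : m ^ i * (m * w * m⁻¹) * (m ^ i)⁻¹ = m ^ (i + 1) * w * (m ^ (i + 1))⁻¹ := by
          rw [pow_succ]; group
        rwa [this] at h4
  obtain ⟨w, hw, hzw⟩ := exists_fixed hs (by rw [← hzo]; exact pow_orderOf_eq_one z) (hpow j).2 hAs
  have hwo : orderOf w = 8 := by
    obtain ⟨k, hk, rfl⟩ := hw
    exact hk.2 r hrP hro
  have hcop : Nat.Coprime (orderOf z) (orderOf w) := by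
    rw [hzo, hwo]
    apply Nat.Coprime.pow_left
    rw [hs.coprime_iff_not_dvd]
    intro h3
    have h4 : s ∣ 2 ^ 3 := h3
    exact hs2 ((Nat.prime_dvd_prime_iff_eq hs Nat.prime_two).1 (hs.dvd_of_dvd_pow h4))
  have hzwc : Commute z w := hzw
  have ho : orderOf (z * w) = s ^ a * 8 := by
    rw [hzwc.orderOf_mul_eq_mul_orderOf_of_coprime hcop, hzo, hwo]
  obtain ⟨a', rfl⟩ := Nat.exists_eq_succ_of_ne_zero ha0
  have hsp : 0 < s ^ a' := pow_pos hs.pos _
  refine ⟨(z * w) ^ s ^ a', ?_⟩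
  have h5 : s ^ (a' + 1) * 8 = s ^ a' * (8 * s) := by ring
  rw [orderOf_pow_of_dvd hsp.ne' (by rw [ho, h5]; exact dvd_mul_right _ _), ho, h5, Nat.mul_div_cancel_left _ hsp]

end Cfsg.Agent.H382.Eight
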