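import Mathlib.GroupTheory.GroupAction.Primitive
import Mathlib.GroupTheory.GroupAction.Quotient
import Mathlib.GroupTheory.Index
import Mathlib.GroupTheory.Sylow
import Mathlib.Tactic.Group

/-!
# Extremely primitive groups: Manning's theorem

`G` acts primitively on the finite set `Ω` and each point stabilizer acts primitively on each of
its orbits.

* `eq_or_univ`: a `G`-invariant equivalence relation is trivial (primitivity);
* `fix_or_trans`: a normal subgroup of `G_α` fixes `ω` or is transitive on `G_α • ω`;
* `eq_bot_of_fixes`: (Manning) a normal subgroup of `G_α` which fixes a point `β ≠ α` is trivial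
  (for a faithful action).
-/

set_option autoImplicit false
set_option linter.style.haveILetI false

namespace Cfsg.Agent.H382.ExtremelyPrimitive

open MulAction
open scoped Pointwise

variable {G : Type*} [Group G] {Ω : Type*} [MulAction G Ω]

/-- A `G`-invariant equivalence relation on a primitive `G`-set is equality or universal. -/
theorem eq_or_univ (hprim : IsPreprimitive G Ω) (r : Ω → Ω → Prop) (hr : Equivalence r)
    (hinv : ∀ (g : G) (x y : Ω), r x y → r (g • x) (g • y)) :
    (∀ x y, r x y → x = y) ∨ ∀ x y, r x y := by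
  by_contra hcon
  push Not at hcon
  obtain ⟨⟨x, y, hxy, hne⟩, ⟨u, v, huv⟩⟩ := hcon
  have hblock : IsBlock G {z | r x z} := by
    rw [isBlock_iff_smul_eq_of_mem]
    intro g a ha hga
    have ha' : r x a := ha
    have hga' : r x (g • a) := hga
    have hxgx : r x (g • x) := hr.trans hga' (hr.symm (hinv g x a ha'))
    ext z
    rw [Set.mem_smul_set_iff_inv_smul_mem]
    simp only [Set.mem_ofPred_eq]
    constructor
    · intro h
      have := hinv g _ _ h
      rw [smul_inv_smul] at this
      exact hr.trans hxgx this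
    · intro h
      have h2 : r (g • x) z := hr.trans (hr.symm hxgx) h
      have := hinv g⁻¹ _ _ h2
      rwa [inv_smul_smul] at this
  rcases hblock.subsingleton_or_eq_univ with h | h
  · exact hne (h (hr.refl x) hxy)
  · have hu : r x u := by
      have : u ∈ {z | r x z} := h ▸ Set.mem_univ u
      exact this
    have hv : r x v := by
      have : v ∈ {z | r x z} := h ▸ Set.mem_univ v
      exact this
    exact huv (hr.trans (hr.symm hu) hv)

/-- A normal subgroup `N` of `G_α` fixes `ω` or is transitive on the `G_α`-orbit of `ω`. -/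
theorem fix_or_trans (hep : ∀ (α : Ω) (ω : Ω), IsPreprimitive (stabilizer G α) (orbit (stabilizer G α) ω))
    (α : Ω) (N : Subgroup G) (hN : N ≤ stabilizer G α)
    (hNn : stabilizer G α ≤ Subgroup.normalizer (N : Set G)) (ω : Ω) :
    (∀ n ∈ N, n • ω = ω) ∨ ∀ g ∈ stabilizer G α, ∃ n ∈ N, n • ω = g • ω := by
  have hprim := hep α ω
  have hnorm : (N.subgroupOf (stabilizer G α)).Normal := by
    rw [Subgroup.normal_subgroupOf_iff_le_normalizer hN]
    exact hNn
  by_cases hfix : fixedPoints (N.subgroupOf (stabilizer G α)) (orbit (stabilizer G α) ω) = Set.univ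
  · left
    intro n hn
    have h1 : (⟨ω, mem_orbit_self ω⟩ : orbit (stabilizer G α) ω) ∈
        fixedPoints (N.subgroupOf (stabilizer G α)) (orbit (stabilizer G α) ω) := by
      rw [hfix]; trivial
    have h2 := h1 ⟨⟨n, hN hn⟩, by rw [Subgroup.mem_subgroupOf]; exact hn⟩
    exact congrArg Subtype.val h2
  · right
    have htr := IsQuasiPreprimitive.isPretransitive_of_normal hfix
    intro g hg
    obtain ⟨n, hn⟩ := htr.exists_smul_eq (⟨ω, mem_orbit_self ω⟩ : orbit (stabilizer G α) ω)
      ⟨g • ω, ⟨⟨g, hg⟩, rfl⟩⟩
    refine ⟨((n : stabilizer G α) : G), ?_, congrArg Subtype.val hn⟩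
    have := n.2
    rwa [Subgroup.mem_subgroupOf] at this

/-- The pointwise stabilizer in `G_x` of `{y | R x y}`. -/
def ker (R : Ω → Ω → Prop) (x : Ω) : Subgroup G where
  carrier := {k | k • x = x ∧ ∀ y, R x y → k • y = y}
  one_mem' := ⟨one_smul _ _, fun y _ => one_smul _ _⟩
  mul_mem' := by
    rintro a b ⟨ha, ha'⟩ ⟨hb, hb'⟩
    exact ⟨by rw [mul_smul, hb, ha], fun y hy => by rw [mul_smul, hb' y hy, ha' y hy]⟩
  inv_mem' := by
    rintro a ⟨ha, ha'⟩
    refine ⟨?_, fun y hy => ?_⟩
    · nth_rewrite 1 [← ha]; rw [inv_smul_smul]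
    · nth_rewrite 1 [← ha' y hy]; rw [inv_smul_smul]

theorem mem_ker {R : Ω → Ω → Prop} {x : Ω} {k : G} :
    k ∈ ker R x ↔ k • x = x ∧ ∀ y, R x y → k • y = y := Iff.rfl

theorem conj_mem_ker {R : Ω → Ω → Prop} (hR : ∀ (g : G) x y, R x y → R (g • x) (g • y)) {x : Ω}
    {k : G} (g : G) (hk : k ∈ ker R x) : g * k * g⁻¹ ∈ ker R (g • x) := by
  refine ⟨?_, fun y hy => ?_⟩
  · rw [mul_smul, mul_smul, inv_smul_smul, hk.1]
  · have h := hR g⁻¹ _ _ hy
    rw [inv_smul_smul] at h
    rw [mul_smul, mul_smul, hk.2 _ h, smul_inv_smul]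

/-- The key step: the kernel of `G_x` on `R x` is contained in the kernel of `G_y` on `Rᵒᵖ y`,
for `R x y`. -/
theorem ker_le_ker_swap [Finite Ω] (hprim : IsPreprimitive G Ω)
    (hep : ∀ (α : Ω) (ω : Ω), IsPreprimitive (stabilizer G α) (orbit (stabilizer G α) ω))
    (R : Ω → Ω → Prop) (hR : ∀ (g : G) x y, R x y → R (g • x) (g • y))
    (hirr : ∀ x, ¬ R x x)
    (htr : ∀ x y y', R x y → R x y' → ∃ g ∈ stabilizer G x, g • y = y')
    {x y : Ω} (hxy : R x y) : (ker R x : Subgroup G) ≤ ker (fun a b => R b a) y := by
  intro k hk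
  refine ⟨hk.2 y hxy, ?_⟩
  intro z hz
  by_contra hkz
  have hnle : (ker R x : Subgroup G) ≤ stabilizer G x := fun k hk => hk.1
  have hnorm : stabilizer G x ≤ Subgroup.normalizer ((ker R x : Subgroup G) : Set G) := by
    rw [Subgroup.le_normalizer_iff]
    intro g hg n hn
    have := conj_mem_ker hR g hn
    rwa [mem_stabilizer_iff.mp hg] at this
  rcases fix_or_trans hep x (ker R x) hnle hnorm z with h | h
  · exact hkz (h k hk)
  · -- R z (g⁻¹ y) for all g in G_x
    have h1 : ∀ g ∈ stabilizer G x, R (g • z) y := by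
      intro g hg
      obtain ⟨n, hn, hnz⟩ := h g hg
      rw [← hnz]
      have := hR n _ _ hz
      rwa [hn.2 y hxy] at this
    have h2 : ∀ y', R x y' → R z y' := by
      intro y' hy'
      obtain ⟨g, hg, hgy⟩ := htr x y y' hxy hy'
      have h3 := h1 g⁻¹ (inv_mem hg)
      have h4 := hR g _ _ h3
      rwa [smul_inv_smul, hgy] at h4
    have h3 : {y' | R z y'} = {y' | R x y'} := by
      obtain ⟨g, hg⟩ := hprim.exists_smul_eq x z
      have h5 : g • {y' | R x y'} = {y' | R z y'} := by
        ext w
        rw [Set.mem_smul_set_iff_inv_smul_mem]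
        simp only [Set.mem_ofPred_eq]
        constructor
        · intro hw
          have := hR g _ _ hw
          rwa [smul_inv_smul, hg] at this
        · intro hw
          have := hR g⁻¹ _ _ hw
          rwa [← hg, inv_smul_smul] at this
      have h6 : ({y' | R z y'} : Set Ω).ncard = ({y' | R x y'} : Set Ω).ncard := by
        rw [← h5, ← Set.image_smul, Set.ncard_image_of_injective _ (MulAction.injective g)]
      exact (Set.eq_of_subset_of_ncard_le (fun y' hy' => h2 y' hy') (le_of_eq h6)).symm
    have h4 : ∀ u v : Ω, {y' | R u y'} = {y' | R v y'} := by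
      rcases eq_or_univ hprim (fun u v => {y' | R u y'} = {y' | R v y'})
        ⟨fun _ => rfl, fun h => h.symm, fun h h' => h.trans h'⟩ (by
          intro g u v huv
          have key : ∀ w : Ω, {y' | R (g • w) y'} = g • {y' | R w y'} := by
            intro w
            ext t
            rw [Set.mem_smul_set_iff_inv_smul_mem]
            simp only [Set.mem_ofPred_eq]
            constructor
            · intro hw
              have := hR g⁻¹ _ _ hw
              rwa [inv_smul_smul] at this
            · intro hw
              have := hR g _ _ hw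
              rwa [smul_inv_smul] at this
          rw [key, key, huv]) with h7 | h7
      · exfalso
        have := h7 z x h3
        rw [this] at hkz
        exact hkz hk.1
      · exact h7
    have h5 : y ∈ {y' | R y y'} := by
      rw [h4 y x]
      exact hxy
    exact hirr y h5

/-- **Manning's theorem.** In an extremely primitive group a normal subgroup of `G_α` which fixes
a point `β ≠ α` is trivial. -/
theorem eq_bot_of_fixes [Finite Ω] [FaithfulSMul G Ω] (hprim : IsPreprimitive G Ω)
    (hep : ∀ (α : Ω) (ω : Ω), IsPreprimitive (stabilizer G α) (orbit (stabilizer G α) ω))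
    {α β : Ω} (hαβ : β ≠ α) (N : Subgroup G) (hN : N ≤ stabilizer G α)
    (hNn : stabilizer G α ≤ Subgroup.normalizer (N : Set G)) (hfix : ∀ n ∈ N, n • β = β) :
    N = ⊥ := by
  -- the orbital of (α, β)
  let R : Ω → Ω → Prop := fun x y => ∃ g : G, g • α = x ∧ g • β = y
  have hR : ∀ (g : G) x y, R x y → R (g • x) (g • y) := by
    rintro g x y ⟨h, rfl, rfl⟩
    exact ⟨g * h, mul_smul _ _ _, mul_smul _ _ _⟩
  have hirr : ∀ x, ¬ R x x := by
    rintro x ⟨g, h1, h2⟩
    exact hαβ (smul_left_cancel g (h2.trans h1.symm))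
  have htr : ∀ x y y', R x y → R x y' → ∃ g ∈ stabilizer G x, g • y = y' := by
    rintro x y y' ⟨g, rfl, rfl⟩ ⟨h, h1, rfl⟩
    refine ⟨h * g⁻¹, ?_, ?_⟩
    · rw [mem_stabilizer_iff, mul_smul, inv_smul_smul, h1]
    · rw [mul_smul, inv_smul_smul]
  have htr' : ∀ x y y', R y x → R y' x → ∃ g ∈ stabilizer G x, g • y = y' := by
    rintro x y y' ⟨g, rfl, rfl⟩ ⟨h, rfl, h1⟩
    refine ⟨h * g⁻¹, ?_, ?_⟩
    · rw [mem_stabilizer_iff, mul_smul, inv_smul_smul, h1]
    · rw [mul_smul, inv_smul_smul]
  have hαβR : R α β := ⟨1, one_smul _ _, one_smul _ _⟩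
  have heq : ∀ x y, R x y → (ker R x : Subgroup G) = ker (fun a b => R b a) y := by
    intro x y hxy
    apply le_antisymm
    · exact ker_le_ker_swap hprim hep R hR hirr htr hxy
    · have := ker_le_ker_swap hprim hep (fun a b => R b a) (fun g x y h => hR g y x h) hirr htr'
        (x := y) (y := x) hxy
      exact this
  -- N is contained in ker R α
  have hNK : N ≤ ker R α := by
    intro n hn
    refine ⟨hN hn, ?_⟩
    intro y hy
    obtain ⟨g, hg, rfl⟩ := htr α β y hαβR hy
    have h1 : g⁻¹ * n * g ∈ N := by
      have := (Subgroup.le_normalizer_iff.mp hNn) g⁻¹ (inv_mem hg) n hn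
      rwa [inv_inv] at this
    have h2 := hfix _ h1
    rw [mul_smul, mul_smul, inv_smul_eq_iff] at h2
    exact h2
  suffices hK : (ker R α : Subgroup G) = ⊥ by
    rw [eq_bot_iff, ← hK]; exact hNK
  -- the relation `ker R x = ker R y`
  have hconj : ∀ (g : G) (x : Ω), (ker R (g • x) : Subgroup G) = MulAut.conj g • (ker R x : Subgroup G) := by
    intro g x
    ext k
    rw [Subgroup.mem_pointwise_smul_iff_inv_smul_mem]
    constructor
    · intro hk
      have := conj_mem_ker hR g⁻¹ hk
      rw [inv_smul_smul, inv_inv] at this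
      rw [← map_inv, MulAut.smul_def, MulAut.conj_apply, inv_inv]
      exact this
    · intro hk
      rw [← map_inv, MulAut.smul_def, MulAut.conj_apply, inv_inv] at hk
      have := conj_mem_ker hR g hk
      convert this using 1
      group
  rcases eq_or_univ hprim (fun u v => (ker R u : Subgroup G) = ker R v)
    ⟨fun _ => rfl, fun h => h.symm, fun h h' => h.trans h'⟩ (by
      intro g u v huv
      have huv' : (ker R u : Subgroup G) = ker R v := huv
      change (ker R (g • u) : Subgroup G) = ker R (g • v)
      rw [hconj, hconj, huv']) with h7 | h7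
  · -- then G_β fixes α, so G_β ≤ G_α and equality of stabilizers
    have h8 : ∀ g : G, g • β = β → g • α = α := by
      intro g hg
      have h9 : R (g • α) β := by
        have := hR g _ _ hαβR
        rwa [hg] at this
      exact (h7 _ _ ((heq _ _ h9).trans (heq _ _ hαβR).symm))
    -- the relation `x ~ y` iff `G_y = G_x`
    have h10 : stabilizer G β = stabilizer G α := by
      obtain ⟨g, hg⟩ := hprim.exists_smul_eq β α
      have hle : stabilizer G β ≤ stabilizer G α := fun k hk => h8 k hk
      -- use finiteness of Ω : orbit sizes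
      have hfin : Finite (MulAction.toPermHom G Ω).range := inferInstance
      have hinj : Function.Injective (MulAction.toPermHom G Ω) := MulAction.toPerm_injective
      haveI : Finite G := Finite.of_injective _ hinj
      refine Subgroup.eq_of_le_of_card_ge hle ?_
      rw [← hg, stabilizer_smul_eq_stabilizer_map_conj]
      refine le_of_eq ?_
      exact Nat.card_congr ((stabilizer G β).equivMapOfInjective _ (MulAut.conj g).injective).symm.toEquiv
    rcases eq_or_univ hprim (fun u v => stabilizer G u = stabilizer G v)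
      ⟨fun _ => rfl, fun h => h.symm, fun h h' => h.trans h'⟩ (by
        intro g u v huv
        change stabilizer G (g • u) = stabilizer G (g • v)
        have huv' : stabilizer G u = stabilizer G v := huv
        rw [stabilizer_smul_eq_stabilizer_map_conj, stabilizer_smul_eq_stabilizer_map_conj, huv'])
      with h11 | h11
    · exact absurd (h11 _ _ h10) hαβ
    · rw [eq_bot_iff]
      intro k hk
      rw [Subgroup.mem_bot]
      apply FaithfulSMul.eq_of_smul_eq_smul (α := Ω)
      intro z
      rw [one_smul]
      have h12 : k ∈ stabilizer G α := hk.1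
      have h13 : stabilizer G α = stabilizer G z := h11 α z
      rw [h13] at h12
      exact h12
  · rw [eq_bot_iff]
    intro k hk
    rw [Subgroup.mem_bot]
    apply FaithfulSMul.eq_of_smul_eq_smul (α := Ω)
    intro z
    rw [one_smul]
    have h12 : (ker R α : Subgroup G) = ker R z := h7 α z
    rw [h12] at hk
    exact hk.1

/-- A non-trivial normal subgroup of `G_α` is transitive on every `G_α`-orbit other than `{α}`. -/
theorem trans_of_ne_bot [Finite Ω] [FaithfulSMul G Ω] (hprim : IsPreprimitive G Ω)
    (hep : ∀ (α : Ω) (ω : Ω), IsPreprimitive (stabilizer G α) (orbit (stabilizer G α) ω))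
    {α : Ω} (N : Subgroup G) (hN : N ≤ stabilizer G α)
    (hNn : stabilizer G α ≤ Subgroup.normalizer (N : Set G)) (hNe : N ≠ ⊥) (ω : Ω) :
    ∀ g ∈ stabilizer G α, ∃ n ∈ N, n • ω = g • ω := by
  by_cases hω : ω = α
  · subst hω
    intro g hg
    exact ⟨1, one_mem _, by rw [one_smul]; exact hg.symm⟩
  · rcases fix_or_trans hep α N hN hNn ω with h | h
    · exact absurd (eq_bot_of_fixes hprim hep hω N hN hNn h) hNe
    · exact h

end Cfsg.Agent.H382.ExtremelyPrimitive
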