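import Mathlib.GroupTheory.GroupAction.SubMulAction.OfStabilizer
import Cfsg.Agent.H382.ExtremelyPrimitive

/-!
# Abelian normal subgroups of the point stabilizer of an extremely primitive group

Let `A ≠ 1` be an abelian normal subgroup of `H = G_α`, `G` extremely primitive.
Then `C_H(A) = A`, `A` is semiregular on `Ω \ {α}`, is a minimal normal subgroup of `H`, is
elementary abelian, and its order is the length of each non-trivial `H`-orbit.
-/

set_option autoImplicit false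
set_option linter.style.haveILetI false

namespace Cfsg.Agent.H382.ExtPrimAbelian

open MulAction Cfsg.Agent.H382.ExtremelyPrimitive
open scoped Pointwise

variable {G : Type*} [Group G] {Ω : Type*} [MulAction G Ω]

theorem exists_ne [FaithfulSMul G Ω] {α : Ω} (A : Subgroup G) (hA : A ≤ stabilizer G α)
    (hAe : A ≠ ⊥) : ∃ ω : Ω, ω ≠ α := by
  by_contra hcon
  push Not at hcon
  apply hAe
  rw [eq_bot_iff]
  intro a ha
  rw [Subgroup.mem_bot]
  apply FaithfulSMul.eq_of_smul_eq_smul (α := Ω)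
  intro z
  rw [hcon z, one_smul]
  exact hA ha

/-- The centralizer of `A` in `H` is semiregular on `Ω \ {α}`. -/
theorem eq_one_of_centralizes [Finite Ω] [FaithfulSMul G Ω] (hprim : IsPreprimitive G Ω)
    (hep : ∀ (α : Ω) (ω : Ω), IsPreprimitive (stabilizer G α) (orbit (stabilizer G α) ω))
    {α : Ω} (A : Subgroup G) (hA : A ≤ stabilizer G α)
    (hAn : stabilizer G α ≤ Subgroup.normalizer (A : Set G)) (hAe : A ≠ ⊥)
    {ω : Ω} (hω : ω ≠ α) {c : G} (hc : c ∈ stabilizer G α)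
    (hcA : ∀ a ∈ A, a * c = c * a) (hcω : c • ω = ω) : c = 1 := by
  have hAn' := Subgroup.le_normalizer_iff.mp hAn
  have htr := trans_of_ne_bot hprim hep A hA hAn hAe ω
  let C : Subgroup G := stabilizer G α ⊓ Subgroup.centralizer (A : Set G) ⊓ stabilizer G ω
  have hmemC : ∀ x, x ∈ C ↔ (x ∈ stabilizer G α ∧ (∀ a ∈ A, a * x = x * a)) ∧ x • ω = ω := by
    intro x
    rw [Subgroup.mem_inf, Subgroup.mem_inf, Subgroup.mem_centralizer_iff]
    rfl
  have hCn : stabilizer G α ≤ Subgroup.normalizer (C : Set G) := by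
    rw [Subgroup.le_normalizer_iff]
    intro h hh x hx
    rw [hmemC] at hx ⊢
    obtain ⟨⟨h1, h2⟩, h3⟩ := hx
    refine ⟨⟨mul_mem (mul_mem hh h1) (inv_mem hh), ?_⟩, ?_⟩
    · intro a ha
      have h4 : h⁻¹ * a * h ∈ A := by
        have := hAn' h⁻¹ (inv_mem hh) a ha
        rwa [inv_inv] at this
      have h5 := h2 _ h4
      calc a * (h * x * h⁻¹) = h * ((h⁻¹ * a * h) * x) * h⁻¹ := by group
        _ = h * (x * (h⁻¹ * a * h)) * h⁻¹ := by rw [h5]
        _ = h * x * h⁻¹ * a := by group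
    · obtain ⟨n, hn, hnω⟩ := htr h⁻¹ (inv_mem hh)
      rw [mul_smul, ← hnω, smul_smul, mul_assoc, ← h2 n hn, mul_smul, mul_smul, h3, hnω, smul_inv_smul]
  have hC : C = ⊥ := eq_bot_of_fixes hprim hep hω C (fun x hx => ((hmemC x).mp hx).1.1) hCn
    (fun x hx => ((hmemC x).mp hx).2)
  have : c ∈ C := (hmemC c).mpr ⟨⟨hc, hcA⟩, hcω⟩
  rw [hC, Subgroup.mem_bot] at this
  exact this

/-- `C_H(A) ≤ A`. -/
theorem mem_of_centralizes [Finite Ω] [FaithfulSMul G Ω] (hprim : IsPreprimitive G Ω)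
    (hep : ∀ (α : Ω) (ω : Ω), IsPreprimitive (stabilizer G α) (orbit (stabilizer G α) ω))
    {α : Ω} (A : Subgroup G) (hA : A ≤ stabilizer G α)
    (hAn : stabilizer G α ≤ Subgroup.normalizer (A : Set G)) (hAe : A ≠ ⊥)
    (hAc : ∀ a ∈ A, ∀ b ∈ A, a * b = b * a) {c : G} (hc : c ∈ stabilizer G α)
    (hcA : ∀ a ∈ A, a * c = c * a) : c ∈ A := by
  obtain ⟨ω, hω⟩ := exists_ne A hA hAe
  obtain ⟨a, ha, haω⟩ := trans_of_ne_bot hprim hep A hA hAn hAe ω c hc
  have h1 : a⁻¹ * c = 1 := by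
    refine eq_one_of_centralizes hprim hep A hA hAn hAe hω (mul_mem (inv_mem (hA ha)) hc) ?_ ?_
    · intro b hb
      have h2 : b * a⁻¹ = a⁻¹ * b := hAc b hb a⁻¹ (inv_mem ha)
      rw [← mul_assoc, h2, mul_assoc, hcA b hb, mul_assoc]
    · rw [mul_smul, ← haω, inv_smul_smul]
  have : c = a := (inv_mul_eq_one.mp h1).symm
  rw [this]
  exact ha

/-- `A` contains no smaller normal subgroup of `H`. -/
theorem eq_of_le [Finite Ω] [FaithfulSMul G Ω] (hprim : IsPreprimitive G Ω)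
    (hep : ∀ (α : Ω) (ω : Ω), IsPreprimitive (stabilizer G α) (orbit (stabilizer G α) ω))
    {α : Ω} (A : Subgroup G) (hA : A ≤ stabilizer G α)
    (hAn : stabilizer G α ≤ Subgroup.normalizer (A : Set G)) (hAe : A ≠ ⊥)
    (hAc : ∀ a ∈ A, ∀ b ∈ A, a * b = b * a) (B : Subgroup G) (hBA : B ≤ A)
    (hBn : stabilizer G α ≤ Subgroup.normalizer (B : Set G)) (hBe : B ≠ ⊥) : B = A := by
  refine le_antisymm hBA ?_
  intro a ha
  obtain ⟨ω, hω⟩ := exists_ne A hA hAe
  obtain ⟨b, hb, hbω⟩ := trans_of_ne_bot hprim hep B (hBA.trans hA) hBn hBe ω a (hA ha)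
  have h1 : b⁻¹ * a = 1 := by
    refine eq_one_of_centralizes hprim hep A hA hAn hAe hω
      (mul_mem (inv_mem (hA (hBA hb))) (hA ha)) ?_ ?_
    · intro x hx
      exact hAc x hx _ (mul_mem (inv_mem (hBA hb)) ha)
    · rw [mul_smul, ← hbω, inv_smul_smul]
  have : a = b := (inv_mul_eq_one.mp h1).symm
  rw [this]
  exact hb

/-- `A` is elementary abelian. -/
theorem exists_prime [Finite G] [Finite Ω] [FaithfulSMul G Ω] (hprim : IsPreprimitive G Ω)
    (hep : ∀ (α : Ω) (ω : Ω), IsPreprimitive (stabilizer G α) (orbit (stabilizer G α) ω))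
    {α : Ω} (A : Subgroup G) (hA : A ≤ stabilizer G α)
    (hAn : stabilizer G α ≤ Subgroup.normalizer (A : Set G)) (hAe : A ≠ ⊥)
    (hAc : ∀ a ∈ A, ∀ b ∈ A, a * b = b * a) :
    ∃ p e : ℕ, p.Prime ∧ 0 < e ∧ Nat.card A = p ^ e ∧ ∀ a ∈ A, a ^ p = 1 := by
  have hne : Nat.card A ≠ 1 := fun h => hAe (Subgroup.card_eq_one.mp h)
  obtain ⟨p, hp, hpA⟩ := Nat.exists_prime_and_dvd hne
  haveI : Fact p.Prime := ⟨hp⟩
  let B : Subgroup G :=
    { carrier := {a | a ∈ A ∧ a ^ p = 1}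
      one_mem' := ⟨one_mem _, one_pow _⟩
      mul_mem' := by
        rintro a b ⟨ha, ha'⟩ ⟨hb, hb'⟩
        refine ⟨mul_mem ha hb, ?_⟩
        have hcomm : Commute a b := hAc a ha b hb
        rw [hcomm.mul_pow, ha', hb', one_mul]
      inv_mem' := by
        rintro a ⟨ha, ha'⟩
        exact ⟨inv_mem ha, by rw [inv_pow, ha', inv_one]⟩ }
  have hmem : ∀ x, x ∈ B ↔ x ∈ A ∧ x ^ p = 1 := fun _ => Iff.rfl
  have hBn : stabilizer G α ≤ Subgroup.normalizer (B : Set G) := by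
    rw [Subgroup.le_normalizer_iff]
    intro h hh x hx
    rw [hmem] at hx ⊢
    refine ⟨(Subgroup.le_normalizer_iff.mp hAn) h hh x hx.1, ?_⟩
    rw [conj_pow, hx.2, mul_one, mul_inv_cancel]
  have hBe : B ≠ ⊥ := by
    obtain ⟨x, hx⟩ := exists_prime_orderOf_dvd_card' p hpA
    intro h
    have h1 : (x : G) ∈ B := by
      refine ⟨x.2, ?_⟩
      have := pow_orderOf_eq_one x
      rw [hx] at this
      have h2 := congrArg Subtype.val this
      rwa [Subgroup.coe_pow, Subgroup.coe_one] at h2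
    rw [h, Subgroup.mem_bot] at h1
    have h3 : x = 1 := Subtype.ext h1
    rw [h3, orderOf_one] at hx
    exact hp.one_lt.ne hx
  have hBA : B = A := eq_of_le hprim hep A hA hAn hAe hAc B (fun x hx => hx.1) hBn hBe
  have hpow : ∀ a ∈ A, a ^ p = 1 := by
    intro a ha
    rw [← hBA] at ha
    exact ha.2
  have hpg : IsPGroup p A := by
    intro a
    refine ⟨1, ?_⟩
    rw [pow_one]
    exact Subtype.ext (hpow a a.2)
  obtain ⟨e, he⟩ := IsPGroup.iff_card.mp hpg
  refine ⟨p, e, hp, ?_, he, hpow⟩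
  rcases Nat.eq_zero_or_pos e with h | h
  · rw [h, pow_zero] at he
    exact absurd he hne
  · exact h

/-- Every non-trivial `H`-orbit has `|A|` points. -/
theorem card_orbit [Finite G] [Finite Ω] [FaithfulSMul G Ω] (hprim : IsPreprimitive G Ω)
    (hep : ∀ (α : Ω) (ω : Ω), IsPreprimitive (stabilizer G α) (orbit (stabilizer G α) ω))
    {α : Ω} (A : Subgroup G) (hA : A ≤ stabilizer G α)
    (hAn : stabilizer G α ≤ Subgroup.normalizer (A : Set G)) (hAe : A ≠ ⊥)
    (hAc : ∀ a ∈ A, ∀ b ∈ A, a * b = b * a) {ω : Ω} (hω : ω ≠ α) :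
    Nat.card (orbit (stabilizer G α) ω) = Nat.card A := by
  symm
  refine Nat.card_eq_of_bijective
    (fun a : A => (⟨(a : G) • ω, ⟨⟨(a : G), hA a.2⟩, rfl⟩⟩ : orbit (stabilizer G α) ω)) ⟨?_, ?_⟩
  · intro a b hab
    have h1 : (a : G) • ω = (b : G) • ω := congrArg Subtype.val hab
    have h2 : (b : G)⁻¹ * a = 1 := by
      refine eq_one_of_centralizes hprim hep A hA hAn hAe hω
        (mul_mem (inv_mem (hA b.2)) (hA a.2)) ?_ ?_
      · intro x hx
        exact hAc x hx _ (mul_mem (inv_mem b.2) a.2)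
      · rw [mul_smul, h1, inv_smul_smul]
    exact Subtype.ext (inv_mul_eq_one.mp h2).symm
  · rintro ⟨_, ⟨h, rfl⟩⟩
    obtain ⟨n, hn, hnω⟩ := trans_of_ne_bot hprim hep A hA hAn hAe ω h h.2
    exact ⟨⟨n, hn⟩, Subtype.ext hnω⟩

/-- `|A|` divides `|Ω| - 1`. -/
theorem card_dvd [Finite G] [Finite Ω] [FaithfulSMul G Ω] (hprim : IsPreprimitive G Ω)
    (hep : ∀ (α : Ω) (ω : Ω), IsPreprimitive (stabilizer G α) (orbit (stabilizer G α) ω))
    {α : Ω} (A : Subgroup G) (hA : A ≤ stabilizer G α)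
    (hAn : stabilizer G α ≤ Subgroup.normalizer (A : Set G)) (hAe : A ≠ ⊥)
    (hAc : ∀ a ∈ A, ∀ b ∈ A, a * b = b * a) :
    Nat.card A ∣ Nat.card Ω - 1 := by
  let A' : Subgroup (stabilizer G α) := A.subgroupOf (stabilizer G α)
  have hcardA' : Nat.card A' = Nat.card A :=
    Nat.card_congr (Subgroup.subgroupOfEquivOfLe hA).toEquiv
  have hfree : ∀ b : SubMulAction.ofStabilizer G α, stabilizer A' b = ⊥ := by
    intro b
    rw [eq_bot_iff]
    intro x hx
    have h1 : ((x : stabilizer G α) : G) • (b : Ω) = b := congrArg Subtype.val hx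
    have h2 : ((x : stabilizer G α) : G) ∈ A := by
      have := x.2
      rwa [Subgroup.mem_subgroupOf] at this
    have h3 : (b : Ω) ≠ α := b.2
    have h4 := eq_one_of_centralizes hprim hep A hA hAn hAe h3 (hA h2)
      (fun a ha => hAc a ha _ h2) h1
    rw [Subgroup.mem_bot]
    exact Subtype.ext (Subtype.ext h4)
  have h1 := Nat.card_congr (MulAction.selfEquivOrbitsQuotientProd hfree)
  rw [Nat.card_prod, hcardA'] at h1
  have h2 := SubMulAction.nat_card_ofStabilizer_add_one_eq G α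
  rw [← h2, Nat.add_sub_cancel]
  change Nat.card A ∣ Nat.card (SubMulAction.ofStabilizer G α)
  rw [h1]
  exact Dvd.intro_left _ rfl

end Cfsg.Agent.H382.ExtPrimAbelian
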