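import Cfsg.Agent.H382.Own5Abs

/-!
# An extraspecial block in `Sp₆(5)` (helper382)
-/

set_option autoImplicit false

namespace Cfsg.Agent.H382.Own5

open Matrix

/-- the index of an element of `A` -/
def idx (a : A) : Fin 16 :=
  (if a 0 = 1 then 0 else 1) + (if a 1 = 1 then 0 else 2) + (if a 2 = 1 then 0 else 4) + (if a 3 = 1 then 0 else 8)

/-- matrices of degree 6 over `ZMod 5` -/
abbrev M6 := Matrix (Fin 3 ⊕ Fin 3) (Fin 3 ⊕ Fin 3) (ZMod 5)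

/-- the 16 matrices -/
def tab : Fin 16 → M6 :=
  ![fromBlocks !![1, 0, 0; 0, 1, 0; 0, 0, 1] !![0, 0, 0; 0, 0, 0; 0, 0, 0] !![0, 0, 0; 0, 0, 0; 0, 0, 0] !![1, 0, 0; 0, 1, 0; 0, 0, 1],
    fromBlocks !![1, 0, 0; 0, 4, 0; 0, 0, 1] !![0, 0, 0; 0, 0, 0; 0, 0, 0] !![0, 0, 0; 0, 0, 0; 0, 0, 0] !![1, 0, 0; 0, 4, 0; 0, 0, 1],
    fromBlocks !![1, 0, 0; 0, 0, 1; 0, 1, 0] !![0, 0, 0; 0, 0, 0; 0, 0, 0] !![0, 0, 0; 0, 0, 0; 0, 0, 0] !![1, 0, 0; 0, 0, 1; 0, 1, 0],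
    fromBlocks !![1, 0, 0; 0, 0, 4; 0, 1, 0] !![0, 0, 0; 0, 0, 0; 0, 0, 0] !![0, 0, 0; 0, 0, 0; 0, 0, 0] !![1, 0, 0; 0, 0, 4; 0, 1, 0],
    fromBlocks !![1, 0, 0; 0, 0, 3; 0, 2, 0] !![0, 0, 0; 0, 0, 0; 0, 0, 0] !![0, 0, 0; 0, 0, 0; 0, 0, 0] !![1, 0, 0; 0, 0, 2; 0, 3, 0],
    fromBlocks !![1, 0, 0; 0, 0, 2; 0, 2, 0] !![0, 0, 0; 0, 0, 0; 0, 0, 0] !![0, 0, 0; 0, 0, 0; 0, 0, 0] !![1, 0, 0; 0, 0, 3; 0, 3, 0],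
    fromBlocks !![1, 0, 0; 0, 2, 0; 0, 0, 3] !![0, 0, 0; 0, 0, 0; 0, 0, 0] !![0, 0, 0; 0, 0, 0; 0, 0, 0] !![1, 0, 0; 0, 3, 0; 0, 0, 2],
    fromBlocks !![1, 0, 0; 0, 3, 0; 0, 0, 3] !![0, 0, 0; 0, 0, 0; 0, 0, 0] !![0, 0, 0; 0, 0, 0; 0, 0, 0] !![1, 0, 0; 0, 2, 0; 0, 0, 2],
    fromBlocks !![1, 0, 0; 0, 0, 0; 0, 0, 0] !![0, 0, 0; 0, 0, 4; 0, 1, 0] !![0, 0, 0; 0, 0, 1; 0, 4, 0] !![1, 0, 0; 0, 0, 0; 0, 0, 0],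
    fromBlocks !![1, 0, 0; 0, 0, 0; 0, 0, 0] !![0, 0, 0; 0, 0, 1; 0, 1, 0] !![0, 0, 0; 0, 0, 4; 0, 4, 0] !![1, 0, 0; 0, 0, 0; 0, 0, 0],
    fromBlocks !![1, 0, 0; 0, 0, 0; 0, 0, 0] !![0, 0, 0; 0, 1, 0; 0, 0, 4] !![0, 0, 0; 0, 4, 0; 0, 0, 1] !![1, 0, 0; 0, 0, 0; 0, 0, 0],
    fromBlocks !![1, 0, 0; 0, 0, 0; 0, 0, 0] !![0, 0, 0; 0, 4, 0; 0, 0, 4] !![0, 0, 0; 0, 1, 0; 0, 0, 1] !![1, 0, 0; 0, 0, 0; 0, 0, 0],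
    fromBlocks !![1, 0, 0; 0, 0, 0; 0, 0, 0] !![0, 0, 0; 0, 3, 0; 0, 0, 3] !![0, 0, 0; 0, 3, 0; 0, 0, 3] !![1, 0, 0; 0, 0, 0; 0, 0, 0],
    fromBlocks !![1, 0, 0; 0, 0, 0; 0, 0, 0] !![0, 0, 0; 0, 2, 0; 0, 0, 3] !![0, 0, 0; 0, 2, 0; 0, 0, 3] !![1, 0, 0; 0, 0, 0; 0, 0, 0],
    fromBlocks !![1, 0, 0; 0, 0, 0; 0, 0, 0] !![0, 0, 0; 0, 0, 3; 0, 3, 0] !![0, 0, 0; 0, 0, 3; 0, 3, 0] !![1, 0, 0; 0, 0, 0; 0, 0, 0],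
    fromBlocks !![1, 0, 0; 0, 0, 0; 0, 0, 0] !![0, 0, 0; 0, 0, 2; 0, 3, 0] !![0, 0, 0; 0, 0, 2; 0, 3, 0] !![1, 0, 0; 0, 0, 0; 0, 0, 0]]

/-- the element of order 5 -/
def um : M6 := fromBlocks !![1, 0, 0; 0, 2, 4; 0, 3, 4] !![0, 0, 0; 0, 2, 4; 0, 3, 4] !![0, 0, 0; 0, 3, 4; 0, 2, 4] !![1, 0, 0; 0, 2, 1; 0, 3, 1]

/-- the involution -/
def wm : M6 := fromBlocks !![1, 0, 0; 0, 4, 0; 0, 0, 4] !![0, 0, 0; 0, 0, 0; 0, 0, 0] !![0, 0, 0; 0, 0, 0; 0, 0, 0] !![1, 0, 0; 0, 4, 0; 0, 0, 4]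

/-- the permutation of the planes -/
def sm : M6 := fromBlocks !![0, 1, 0; 1, 0, 0; 0, 0, 1] 0 0 !![0, 1, 0; 1, 0, 0; 0, 0, 1]

theorem tab_sp : ∀ i, tab i ∈ symplecticGroup (Fin 3) (ZMod 5) := by
  have h : ∀ i, tab i * J (Fin 3) (ZMod 5) * (tab i)ᵀ = J (Fin 3) (ZMod 5) := by decide +kernel
  exact fun i => SymplecticGroup.mem_iff.2 (h i)

theorem um_sp : um ∈ symplecticGroup (Fin 3) (ZMod 5) := by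
  have h : um * J (Fin 3) (ZMod 5) * umᵀ = J (Fin 3) (ZMod 5) := by decide +kernel
  exact SymplecticGroup.mem_iff.2 h

theorem wm_sp : wm ∈ symplecticGroup (Fin 3) (ZMod 5) := by
  have h : wm * J (Fin 3) (ZMod 5) * wmᵀ = J (Fin 3) (ZMod 5) := by decide +kernel
  exact SymplecticGroup.mem_iff.2 h

theorem sm_sp : sm ∈ symplecticGroup (Fin 3) (ZMod 5) := by
  have h : sm * J (Fin 3) (ZMod 5) * smᵀ = J (Fin 3) (ZMod 5) := by decide +kernel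
  exact SymplecticGroup.mem_iff.2 h

theorem tab_mul : ∀ a b : A, tab (idx a) * tab (idx b) = tab (idx (a * b)) ∨
    tab (idx a) * tab (idx b) = tab (idx (a * b)) * wm := by decide +kernel

theorem um_tab : ∀ a : A, um * tab (idx a) = tab (idx (T a)) * um ∨
    um * tab (idx a) = tab (idx (T a)) * um * wm := by decide +kernel

theorem wm_tab : ∀ a : A, wm * tab (idx a) = tab (idx a) * wm := by decide +kernel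

theorem um_five : um ^ 5 = 1 := by decide +kernel

theorem wm_two : wm * wm = 1 := by decide +kernel

theorem wm_um : wm * um = um * wm := by decide +kernel

theorem tab_one : tab (idx 1) = 1 := by decide +kernel

theorem sm_wm : sm * wm = -(tab 1 * sm) := by decide +kernel

theorem sm_tab : sm * tab 1 = -(wm * sm) := by decide +kernel

end Cfsg.Agent.H382.Own5
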