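import Mathlib
import Cfsg.Agent.H721.SR.Orth
import Cfsg.Agent.H160.QSplit

/-!
# TEAM SR, J pieces (helper382): Gram bases of alternating-sign antidiagonal type

* `Gr Q b c` : `polar Q (b i) (b j) = (-1)^i c` for `j = i.rev`, zero otherwise;
* `Gr.dc` : the class is the quadratic character of `c ^ a`;
* `dg b d` : the diagonal automorphism `b i ↦ d i • b i`;
* `spin_dg` : its spinor sign.
-/

set_option autoImplicit false

namespace Cfsg.Agent.H382.SRJ

open QuadraticMap Module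
open Cfsg.Agent.LieClassical.OrthCore Cfsg.Agent.H160.QSpin Cfsg.Agent.H160.QDisc Cfsg.Agent.H160.QSplit

variable {F V W : Type*} [Field F] [AddCommGroup V] [Module F V] [AddCommGroup W] [Module F W]

/-- Gram basis -/
def Gr (Q : QuadraticForm F V) {a : ℕ} (b : Basis (Fin a) F V) (c : F) : Prop :=
  ∀ i j, polar Q (b i) (b j) = if j = i.rev then (-1) ^ (i : ℕ) * c else 0

/-- the determinant of the Gram matrix -/
theorem det_anti (a : ℕ) (c : F) :
    (Matrix.of fun i j : Fin a => if j = i.rev then (-1) ^ (i : ℕ) * c else (0 : F)).det = c ^ a := by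
  have h1 : (Matrix.of fun i j : Fin a => if j = i.rev then (-1) ^ (i : ℕ) * c else (0 : F)) =
      (Matrix.diagonal fun i : Fin a => (-1) ^ (i : ℕ) * c).submatrix id Fin.revPerm := by
    ext i j
    rw [Matrix.submatrix_apply, Matrix.of_apply, Matrix.diagonal_apply, id, Fin.revPerm_apply]
    congr 1
    rw [eq_iff_iff]
    exact ⟨fun h => by rw [h, Fin.rev_rev], fun h => by rw [h, Fin.rev_rev]⟩
  have h2 : Equiv.Perm.sign (Fin.revPerm : Equiv.Perm (Fin a)) = ∏ j : Fin a, (-1 : ℤˣ) ^ (j : ℕ) := by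
    rw [Equiv.Perm.sign_eq_prod_prod_Iio]
    refine Finset.prod_congr rfl fun j _ => ?_
    rw [Finset.prod_congr rfl (g := fun _ => (-1 : ℤˣ)), Finset.prod_const, Fin.card_Iio]
    intro i hi
    rw [Finset.mem_Iio] at hi
    rw [if_neg]
    rw [Fin.revPerm_apply, Fin.revPerm_apply, Fin.rev_lt_rev, not_lt]
    exact hi.le
  rw [h1, Matrix.det_permute', Matrix.det_diagonal, h2, Finset.prod_mul_distrib, Finset.prod_const,
    Finset.card_univ, Fintype.card_fin]
  push_cast
  rw [← mul_assoc, ← Finset.prod_mul_distrib, Finset.prod_congr rfl (g := fun _ => (1 : F)), Finset.prod_const_one,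
    one_mul]
  intro i _
  rw [← mul_pow, neg_one_mul, neg_neg, one_pow]

section Gr

variable {Q : QuadraticForm F V} {a : ℕ} {b : Basis (Fin a) F V} {c : F}

theorem Gr.dc_eq_pow [FiniteDimensional F V] [Fintype F] [DecidableEq F] (h : Gr Q b c) :
    dc Q = quadraticChar F (c ^ a) := by
  rw [dc_eq b Q, ← det_anti a c]
  congr 2
  ext i j
  rw [LinearMap.BilinForm.toMatrix_apply, Matrix.of_apply]
  exact h i j

theorem Gr.dc_odd [FiniteDimensional F V] [Fintype F] [DecidableEq F] (h : Gr Q b c) (hc : c ≠ 0) (ha : Odd a) :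
    dc Q = quadraticChar F c := by
  rw [h.dc_eq_pow, map_pow]
  obtain ⟨k, rfl⟩ := ha
  rw [pow_succ, pow_mul, quadraticChar_sq_one hc, one_pow, one_mul]

theorem Gr.nondeg (h : Gr Q b c) (hc : c ≠ 0) : Nondeg Q := by
  intro x hx
  rw [← b.sum_repr x] at hx ⊢
  refine Finset.sum_eq_zero fun i _ => ?_
  have h1 := hx (b i.rev)
  have h2 : polar Q (∑ k, b.repr x k • b k) (b i.rev) = ∑ k, b.repr x k * polar Q (b k) (b i.rev) := by
    have := LinearMap.congr_fun (map_sum (polarBilin Q) (fun k => b.repr x k • b k) Finset.univ) (b i.rev)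
    rw [LinearMap.sum_apply] at this
    refine this.trans (Finset.sum_congr rfl fun k _ => ?_)
    rw [map_smul]
    rfl
  rw [h2, Finset.sum_eq_single i, h, if_pos rfl] at h1
  · rw [(mul_eq_zero.1 h1).resolve_right (mul_ne_zero (pow_ne_zero _ (neg_ne_zero.2 one_ne_zero)) hc), zero_smul]
  · intro k _ hk
    rw [h, if_neg, mul_zero]
    intro h3
    exact hk (Fin.rev_injective h3).symm
  · intro h3
    exact absurd (Finset.mem_univ _) h3

theorem Gr.ne_zero [NeZero a] (h : Gr Q b c) (hQ : Nondeg Q) : c ≠ 0 := by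
  rintro rfl
  have h1 : b 0 = 0 := by
    apply hQ
    intro y
    rw [← b.sum_repr y]
    have h2 : polar Q (b 0) (∑ k, b.repr y k • b k) = ∑ k, b.repr y k * polar Q (b 0) (b k) := by
      have := map_sum (polarBilin Q (b 0)) (fun k => b.repr y k • b k) Finset.univ
      refine this.trans (Finset.sum_congr rfl fun k _ => ?_)
      rw [map_smul]
      rfl
    rw [h2]
    refine Finset.sum_eq_zero fun k _ => ?_
    rw [h]
    simp
  exact b.ne_zero 0 h1

end Gr

/-! ### Diagonal automorphisms -/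

section Dg

variable {ι : Type*} (b : Basis ι F V)

/-- the diagonal automorphism -/
noncomputable def dgf (d : ι → Fˣ) : V ≃ₗ[F] V := b.equiv (b.unitsSMul d) (Equiv.refl _)

theorem dgf_apply (d : ι → Fˣ) (i : ι) : dgf b d (b i) = (d i : F) • b i := by
  rw [dgf, Basis.equiv_apply, Basis.unitsSMul_apply]
  rfl

/-- the diagonal automorphisms as a homomorphism -/
noncomputable def dg : (ι → Fˣ) →* (V ≃ₗ[F] V) where
  toFun := dgf b
  map_one' := by
    apply en_inj
    apply b.ext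
    intro i
    show dgf b 1 (b i) = b i
    rw [dgf_apply, Pi.one_apply, Units.val_one, one_smul]
  map_mul' d d' := by
    apply en_inj
    apply b.ext
    intro i
    show dgf b (d * d') (b i) = dgf b d (dgf b d' (b i))
    rw [dgf_apply, dgf_apply, LinearEquiv.map_smul, dgf_apply, Pi.mul_apply, Units.val_mul, smul_smul, mul_comm]

theorem dg_apply (d : ι → Fˣ) (i : ι) : dg b d (b i) = (d i : F) • b i := dgf_apply b d i

theorem dg_unique {g : V ≃ₗ[F] V} {d : ι → Fˣ} (h : ∀ i, g (b i) = (d i : F) • b i) : dg b d = g := by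
  apply en_inj
  apply b.ext
  intro i
  exact (dg_apply b d i).trans (h i).symm

theorem det_dg [Fintype ι] [DecidableEq ι] (d : ι → Fˣ) : LinearEquiv.det (dg b d) = ∏ i, d i := by
  apply Units.ext
  rw [LinearEquiv.coe_det, ← LinearMap.det_toMatrix b, Units.coe_prod, ← Matrix.det_diagonal]
  congr 1
  ext i j
  rw [LinearMap.toMatrix_apply, LinearEquiv.coe_coe, dg_apply, map_smul, Basis.repr_self, Finsupp.smul_single,
    Finsupp.single_apply, Matrix.diagonal_apply]
  by_cases h : i = j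
  · rw [if_pos h, if_pos h.symm, h, smul_eq_mul, mul_one]
  · rw [if_neg h, if_neg (Ne.symm h)]

end Dg

/-! ### The spinor sign of diagonal isometries -/

/-- `d i.rev = (d i)⁻¹` -/
def RG (F : Type*) [Field F] (a : ℕ) : Subgroup (Fin a → Fˣ) where
  carrier := {d | ∀ i, d i.rev * d i = 1}
  mul_mem' := by
    intro x y hx hy i
    show x i.rev * y i.rev * (x i * y i) = 1
    rw [mul_mul_mul_comm, hx i, hy i, one_mul]
  one_mem' := fun i => mul_one 1
  inv_mem' := by
    intro x hx i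
    show (x i.rev)⁻¹ * (x i)⁻¹ = 1
    rw [← mul_inv, hx i, inv_one]

theorem mem_RG {a : ℕ} {d : Fin a → Fˣ} : d ∈ RG F a ↔ ∀ i, d i.rev * d i = 1 := Iff.rfl

section Spin

variable {Q : QuadraticForm F V} {a : ℕ} {b : Basis (Fin a) F V} {c : F}

theorem polar_ext {g : V ≃ₗ[F] V} (h : ∀ i j, polar Q (g (b i)) (g (b j)) = polar Q (b i) (b j)) (x y : V) :
    polar Q (g x) (g y) = polar Q x y := by
  have h5 : LinearMap.BilinForm.comp (polarBilin Q) (g : V →ₗ[F] V) (g : V →ₗ[F] V) = polarBilin Q := by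
    apply LinearMap.BilinForm.ext_basis b
    intro i j
    exact h i j
  exact congrArg (fun B : LinearMap.BilinForm F V => B x y) h5

theorem mem_O_of_basis (h2 : (2 : F) ≠ 0) {g : V ≃ₗ[F] V}
    (h : ∀ i j, polar Q (g (b i)) (g (b j)) = polar Q (b i) (b j)) : g ∈ O Q :=
  isIso_of_polar h2 (polar_ext h)

theorem dg_mem (h2 : (2 : F) ≠ 0) (h : Gr Q b c) {d : Fin a → Fˣ} (hd : d ∈ RG F a) : dg b d ∈ O Q := by
  apply mem_O_of_basis (b := b) h2
  intro i j
  rw [dg_apply, dg_apply, polar_smul_left, polar_smul_right, h i j]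
  by_cases hij : j = i.rev
  · rw [if_pos hij, hij]
    have h1 : ((d i.rev : Fˣ) : F) * ((d i : Fˣ) : F) = 1 := by
      rw [← Units.val_mul, hd i, Units.val_one]
    simp only [smul_eq_mul]
    linear_combination ((-1) ^ (i : ℕ) * c) * h1
  · rw [if_neg hij, smul_zero, smul_zero]

/-- diagonal isometries -/
noncomputable def dgO (h2 : (2 : F) ≠ 0) (h : Gr Q b c) : RG F a →* O Q where
  toFun d := ⟨dg b d, dg_mem h2 h d.2⟩
  map_one' := Subtype.ext (map_one (dg b))
  map_mul' _ _ := Subtype.ext (map_mul (dg b) _ _)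

/-- `t` in position `i`, `t⁻¹` in position `i.rev` -/
noncomputable def Ei {a : ℕ} (i : Fin a) (t : Fˣ) : Fin a → Fˣ := fun j => (if j = i then t else 1) * (if j = i.rev then t else 1)⁻¹

theorem Ei_mem {a : ℕ} (i : Fin a) (t : Fˣ) : Ei i t ∈ RG F a := by
  intro j
  unfold Ei
  have e1 : (j.rev = i) ↔ (j = i.rev) := ⟨fun h => by rw [← h, Fin.rev_rev], fun h => by rw [h, Fin.rev_rev]⟩
  have e2 : (j.rev = i.rev) ↔ (j = i) := Fin.rev_inj
  simp only [e1, e2]
  generalize (if j = i then t else 1) = A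
  generalize (if j = i.rev then t else 1) = B
  group

theorem Q_b_eq_zero (h2 : (2 : F) ≠ 0) (h : Gr Q b c) {i : Fin a} (hi : i.rev ≠ i) : Q (b i) = 0 := by
  have h1 := two_mul_Q Q (b i)
  have h3 : polarBilin Q (b i) (b i) = 0 := by
    show polar Q (b i) (b i) = 0
    rw [h, if_neg (Ne.symm hi)]
  rw [h3] at h1
  exact (mul_eq_zero.1 h1).resolve_left h2

theorem Q_pair (h2 : (2 : F) ≠ 0) (h : Gr Q b c) {i : Fin a} (hi : i.rev ≠ i) (t : F) :
    Q (b i - t • b i.rev) = - (t * ((-1) ^ (i : ℕ) * c)) := by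
  have h3 : i.rev.rev ≠ i.rev := by rw [Fin.rev_rev]; exact hi.symm
  rw [sub_eq_add_neg, ← neg_smul, Q_add, QuadraticMap.map_smul, Q_b_eq_zero h2 h hi, Q_b_eq_zero h2 h h3,
    polar_smul_right, h, if_pos rfl]
  simp

/-- the basic diagonal isometry as a product of two reflections -/
theorem dg_Ei (h2 : (2 : F) ≠ 0) (h : Gr Q b c) {i : Fin a} (hi : i.rev ≠ i) (t : Fˣ)
    (h3 : Q (b i - (1 : F) • b i.rev) ≠ 0) (h4 : Q (b i - (t : F) • b i.rev) ≠ 0) :
    dg b (Ei i t) = refl Q _ h3 * refl Q _ h4 := by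
  have hc : (-1) ^ (i : ℕ) * c ≠ 0 := by
    intro h0
    rw [Q_pair h2 h hi, h0] at h3
    simp at h3
  have hc' : polar Q (b i.rev) (b i) = (-1) ^ (i : ℕ) * c := by
    rw [polar_comm, h, if_pos rfl]
  have hc'' : polar Q (b i) (b i.rev) = (-1) ^ (i : ℕ) * c := by
    rw [h, if_pos rfl]
  have e1 : ∀ s : F, polar Q (b i - s • b i.rev) (b i) = - (s * ((-1) ^ (i : ℕ) * c)) := by
    intro s
    rw [polar_sub_left, polar_smul_left, hc', polar_self', Q_b_eq_zero h2 h hi]
    simp
  have e2 : ∀ s : F, polar Q (b i - s • b i.rev) (b i.rev) = (-1) ^ (i : ℕ) * c := by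
    intro s
    rw [polar_sub_left, polar_smul_left, hc'', polar_self',
      Q_b_eq_zero h2 h (i := i.rev) (by rw [Fin.rev_rev]; exact hi.symm)]
    simp
  have e3 : ∀ (s : F) (k : Fin a), k ≠ i → k ≠ i.rev → polar Q (b i - s • b i.rev) (b k) = 0 := by
    intro s k hk hk'
    rw [polar_sub_left, polar_smul_left, h, if_neg hk', h, if_neg (by rw [Fin.rev_rev]; exact hk)]
    simp
  set C : F := (-1) ^ (i : ℕ) * c with hC
  have ht : (t : F) ≠ 0 := t.ne_zero
  apply dg_unique
  intro k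
  rw [LinearEquiv.mul_apply, refl_apply, refl_apply, Q_pair h2 h hi, Q_pair h2 h hi, ← hC]
  by_cases hk : k = i
  · subst hk
    have hE : Ei k t k = t := by
      unfold Ei
      rw [if_pos rfl, if_neg (Ne.symm hi)]
      simp
    rw [hE, e1, polar_sub_right, polar_smul_right, e1, polar_sub_right, polar_smul_right, e1, e2]
    simp only [smul_eq_mul, one_mul]
    have e4 : (-((t : F) * C))⁻¹ * -((t : F) * C) = 1 := inv_mul_cancel₀ (neg_ne_zero.2 (mul_ne_zero ht hc))
    rw [e4]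
    have e5 : (-C)⁻¹ * (-C - 1 * (-C - (t : F) * C)) = - (t : F) := by
      field_simp
      ring
    rw [e5]
    module
  · by_cases hk' : k = i.rev
    · subst hk'
      have hE : Ei i t i.rev = t⁻¹ := by
        unfold Ei
        rw [if_neg hi, if_pos rfl, one_mul]
      rw [hE, e2, polar_sub_right, polar_smul_right, e2, polar_sub_right, polar_smul_right, e1, e2]
      simp only [smul_eq_mul, one_mul]
      have e5 : (-((t : F) * C))⁻¹ * C = - (t : F)⁻¹ := by
        field_simp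
      rw [e5]
      have e6 : (-C)⁻¹ * (C - -(t : F)⁻¹ * (-C - (t : F) * C)) = (t : F)⁻¹ := by
        field_simp
        ring
      rw [e6, Units.val_inv_eq_inv_val]
      have e7 : -(t : F)⁻¹ • (t : F) • b i.rev = - b i.rev := by
        rw [neg_smul, smul_smul, inv_mul_cancel₀ ht, one_smul]
      rw [smul_sub, e7]
      module
    · have hE : Ei i t k = 1 := by
        unfold Ei
        rw [if_neg hk, if_neg hk']
        simp
      rw [hE, e3 _ k hk hk', mul_zero, zero_smul, sub_zero, e3 _ k hk hk', mul_zero, zero_smul, sub_zero,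
        Units.val_one, one_smul]

theorem spin_Ei [FiniteDimensional F V] [Finite V] [Fintype F] [DecidableEq F] (h2 : (2 : F) ≠ 0) (h : Gr Q b c)
    (hc : c ≠ 0) {i : Fin a} (hi : i.rev ≠ i) (t : Fˣ) :
    ((spin Q ⟨dg b (Ei i t), dg_mem h2 h (Ei_mem i t)⟩ : ℤˣ) : ℤ) = quadraticChar F (t : F) := by
  have hC : (-1) ^ (i : ℕ) * c ≠ 0 := mul_ne_zero (pow_ne_zero _ (neg_ne_zero.2 one_ne_zero)) hc
  have h3 : Q (b i - (1 : F) • b i.rev) ≠ 0 := by
    rw [Q_pair h2 h hi, one_mul]
    exact neg_ne_zero.2 hC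
  have h4 : Q (b i - (t : F) • b i.rev) ≠ 0 := by
    rw [Q_pair h2 h hi]
    exact neg_ne_zero.2 (mul_ne_zero t.ne_zero hC)
  have h5 : (⟨dg b (Ei i t), dg_mem h2 h (Ei_mem i t)⟩ : O Q) =
      ⟨refl Q _ h3, refl_mem_O h3⟩ * ⟨refl Q _ h4, refl_mem_O h4⟩ := Subtype.ext (dg_Ei h2 h hi t h3 h4)
  rw [h5, map_mul, Units.val_mul, spin_refl_int h2, spin_refl_int h2, Q_pair h2 h hi, Q_pair h2 h hi, neg_mul_neg,
    ← map_mul, one_mul, neg_mul_neg]
  have h6 : (-1) ^ (i : ℕ) * c * ((t : F) * ((-1) ^ (i : ℕ) * c)) = ((-1) ^ (i : ℕ) * c) ^ 2 * t := by ring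
  rw [h6, qc_sq_mul hC]

end Spin

section Odd

variable {Q : QuadraticForm F V} {m : ℕ} {b : Basis (Fin (2 * m + 1)) F V} {c : F}

/-- the first half of the indices -/
def half (m : ℕ) : Finset (Fin (2 * m + 1)) := Finset.univ.filter fun i => (i : ℕ) < m

theorem mem_half {m : ℕ} {i : Fin (2 * m + 1)} : i ∈ half m ↔ (i : ℕ) < m := by
  simp [half]

theorem rev_ne_of_half {m : ℕ} {i : Fin (2 * m + 1)} (hi : i ∈ half m) : i.rev ≠ i := by
  rw [mem_half] at hi
  intro h
  have := congrArg Fin.val h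
  rw [Fin.val_rev] at this
  omega

/-- an element of `RG` with middle coordinate one is a product of basic elements -/
theorem eq_prod_Ei {d : Fin (2 * m + 1) → Fˣ} (hd : d ∈ RG F (2 * m + 1)) (hm : ∀ i : Fin (2 * m + 1), (i : ℕ) = m → d i = 1) :
    d = ∏ i ∈ half m, Ei i (d i) := by
  funext j
  rw [Finset.prod_apply]
  unfold Ei
  rw [Finset.prod_mul_distrib, Finset.prod_inv_distrib, Finset.prod_ite_eq]
  have h1 : ∏ i ∈ half m, (if j = i.rev then d i else 1) = if j.rev ∈ half m then d j.rev else 1 := by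
    rw [← Finset.prod_ite_eq (half m) j.rev (fun i => d i)]
    refine Finset.prod_congr rfl fun i _ => ?_
    congr 1
    rw [eq_iff_iff]
    exact ⟨fun h => by rw [h, Fin.rev_rev], fun h => by rw [← h, Fin.rev_rev]⟩
  rw [h1]
  simp only [mem_half, Fin.val_rev]
  have h3 := hd j
  rcases lt_trichotomy (j : ℕ) m with h | h | h
  · rw [if_pos h, if_neg (by omega), inv_one, mul_one]
  · rw [if_neg (by omega), if_neg (by omega), inv_one, mul_one, hm j h]
  · rw [if_neg (by omega), if_pos (by omega), one_mul]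
    exact eq_inv_of_mul_eq_one_right h3

/-- **The spinor sign of a diagonal isometry.** -/
theorem spin_dg [FiniteDimensional F V] [Finite V] [Fintype F] [DecidableEq F] (h2 : (2 : F) ≠ 0) (h : Gr Q b c)
    (hc : c ≠ 0) {d : Fin (2 * m + 1) → Fˣ} (hd : d ∈ RG F (2 * m + 1))
    (hm : ∀ i : Fin (2 * m + 1), (i : ℕ) = m → d i = 1) :
    ((spin Q ⟨dg b d, dg_mem h2 h hd⟩ : ℤˣ) : ℤ) = quadraticChar F ((∏ i ∈ half m, d i : Fˣ) : F) := by
  have h1 : (⟨d, hd⟩ : RG F (2 * m + 1)) = ∏ i ∈ half m, ⟨Ei i (d i), Ei_mem i (d i)⟩ := by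
    apply Subtype.ext
    rw [Subgroup.val_finsetProd]
    exact eq_prod_Ei hd hm
  have h3 : (⟨dg b d, dg_mem h2 h hd⟩ : O Q) = dgO h2 h ⟨d, hd⟩ := rfl
  have h4 : spin Q (dgO h2 h ⟨d, hd⟩) = ∏ i ∈ half m, spin Q (dgO h2 h ⟨Ei i (d i), Ei_mem i (d i)⟩) := by
    rw [h1]
    exact map_prod ((spin Q).comp (dgO h2 h)) _ _
  rw [h3, h4, Units.coe_prod, Units.coe_prod, map_prod]
  refine Finset.prod_congr rfl fun i hi => ?_
  exact spin_Ei h2 h hc (rev_ne_of_half hi) (d i)

/-- the determinant of a diagonal isometry -/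
theorem det_dg_RG {d : Fin (2 * m + 1) → Fˣ} (hd : d ∈ RG F (2 * m + 1))
    (hm : ∀ i : Fin (2 * m + 1), (i : ℕ) = m → d i = 1) : LinearEquiv.det (dg b d) = 1 := by
  rw [det_dg, eq_prod_Ei hd hm]
  simp only [Finset.prod_apply]
  rw [Finset.prod_comm]
  refine Finset.prod_eq_one fun i _ => ?_
  unfold Ei
  rw [Finset.prod_mul_distrib, Finset.prod_inv_distrib, Finset.prod_ite_eq', Finset.prod_ite_eq',
    if_pos (Finset.mem_univ _), if_pos (Finset.mem_univ _), mul_inv_cancel]

end Odd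

end Cfsg.Agent.H382.SRJ
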