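import Mathlib
import Cfsg.Agent.H382.SRJ

/-!
# TEAM SR, J pieces (helper382): the structure `JD` and the inverting involution

* `NB b` : the shift `b i ↦ b (i+1)`;
* `JD Q g σ b c` : `b` is a Gram basis and `g (x - N x) = σ • (x + N x)` for the shift `N`;
* `JD.T_one` : `T Q g 1 (χ ^ ((a ^ 2 - 1) / 8))`.
-/

set_option autoImplicit false

namespace Cfsg.Agent.H382.SRJ

open QuadraticMap Module
open Cfsg.Agent.LieClassical.OrthCore Cfsg.Agent.H160.QSpin Cfsg.Agent.H160.QDisc Cfsg.Agent.H160.QSplit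
open Cfsg.Agent.H721.SR

variable {F V W : Type*} [Field F] [AddCommGroup V] [Module F V] [AddCommGroup W] [Module F W]

section Shift

variable {a : ℕ} (b : Basis (Fin a) F V)

/-- the shift -/
noncomputable def NB : Module.End F V := b.constr F fun i => if h : (i : ℕ) + 1 < a then b ⟨i + 1, h⟩ else 0

theorem NB_apply (i : Fin a) : NB b (b i) = if h : (i : ℕ) + 1 < a then b ⟨i + 1, h⟩ else 0 := by
  rw [NB, Basis.constr_basis]

theorem NB_pow (k : ℕ) (i : Fin a) : (NB b ^ k) (b i) = if h : (i : ℕ) + k < a then b ⟨i + k, h⟩ else 0 := by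
  induction k with
  | zero =>
    rw [pow_zero, Module.End.one_apply, dif_pos (by simp)]
    rfl
  | succ k ih =>
    rw [pow_succ', Module.End.mul_apply, ih]
    by_cases h : (i : ℕ) + k < a
    · rw [dif_pos h, NB_apply]
      by_cases h3 : (i : ℕ) + k + 1 < a
      · rw [dif_pos h3, dif_pos (by omega)]
        rfl
      · rw [dif_neg h3, dif_neg (by omega)]
    · rw [dif_neg h, map_zero, dif_neg (by omega)]

theorem NB_nil : NB b ^ a = 0 := by
  apply b.ext
  intro i
  rw [NB_pow, dif_neg (by omega), LinearMap.zero_apply]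

theorem NB_unit_sub : IsUnit (1 - NB b) := IsNilpotent.isUnit_one_sub ⟨a, NB_nil b⟩

theorem NB_unit_add : IsUnit (1 + NB b) := IsNilpotent.isUnit_one_add ⟨a, NB_nil b⟩

theorem NB_sub_surj (y : V) : ∃ x, x - NB b x = y :=
  ((Module.End.isUnit_iff _).1 (NB_unit_sub b)).2 y

theorem NB_skew {Q : QuadraticForm F V} {c : F} (h : Gr Q b c) (x y : V) :
    polar Q (NB b x) y = - polar Q x (NB b y) := by
  have h1 : LinearMap.BilinForm.compLeft (polarBilin Q) (NB b) =
      - LinearMap.BilinForm.compRight (polarBilin Q) (NB b) := by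
    apply LinearMap.BilinForm.ext_basis b
    intro i j
    show polar Q (NB b (b i)) (b j) = - polar Q (b i) (NB b (b j))
    rw [NB_apply, NB_apply]
    by_cases hi : (i : ℕ) + 1 < a
    · rw [dif_pos hi, h]
      by_cases hj : (j : ℕ) + 1 < a
      · rw [dif_pos hj, h]
        have e : (j = Fin.rev (⟨(i : ℕ) + 1, hi⟩ : Fin a)) ↔ ((⟨(j : ℕ) + 1, hj⟩ : Fin a) = i.rev) := by
          rw [Fin.ext_iff, Fin.ext_iff, Fin.val_rev, Fin.val_rev]
          simp only
          omega
        simp only [e]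
        split_ifs
        · rw [pow_succ]; ring
        · rw [neg_zero]
      · rw [dif_neg hj, polar_zero_right, neg_zero, if_neg]
        rw [Fin.ext_iff, Fin.val_rev]
        simp only
        omega
    · rw [dif_neg hi, polar_zero_left]
      by_cases hj : (j : ℕ) + 1 < a
      · rw [dif_pos hj, h, if_neg, neg_zero]
        rw [Fin.ext_iff, Fin.val_rev]
        simp only
        omega
      · rw [dif_neg hj, polar_zero_right, neg_zero]
  exact congrArg (fun B : LinearMap.BilinForm F V => B x y) h1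

end Shift

/-- data of a J piece -/
structure JD (Q : QuadraticForm F V) (g : V ≃ₗ[F] V) (σ : F) {a : ℕ} (b : Basis (Fin a) F V) (c : F) : Prop where
  gram : Gr Q b c
  cay : ∀ x, g (x - NB b x) = σ • (x + NB b x)

section JD

variable {Q : QuadraticForm F V} {g : V ≃ₗ[F] V} {σ : F} {a : ℕ} {b : Basis (Fin a) F V} {c : F}

theorem JD.mem_O (h2 : (2 : F) ≠ 0) (hσ : σ = 1 ∨ σ = -1) (h : JD Q g σ b c) : g ∈ O Q := by
  have hs : σ * σ = 1 := by rcases hσ with rfl | rfl <;> ring
  apply isIso_of_polar h2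
  intro x y
  obtain ⟨x, rfl⟩ := NB_sub_surj b x
  obtain ⟨y, rfl⟩ := NB_sub_surj b y
  rw [h.cay, h.cay, polar_smul_left, polar_smul_right, smul_eq_mul, smul_eq_mul, ← mul_assoc, hs, one_mul,
    polar_add_left, polar_add_right, polar_add_right, polar_sub_left, polar_sub_right, polar_sub_right,
    NB_skew b h.gram, NB_skew b h.gram]
  ring

/-- the signs of the involution -/
def sg (F : Type*) [Field F] (m : ℕ) : Fin (2 * m + 1) → Fˣ := fun i => (-1) ^ (m + (i : ℕ))

theorem sg_mem (m : ℕ) : sg F m ∈ RG F (2 * m + 1) := by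
  intro i
  unfold sg
  rw [← pow_add, Fin.val_rev]
  have e : m + (2 * m + 1 - (↑i + 1)) + (m + ↑i) = 2 * (2 * m) := by omega
  rw [e, pow_mul, neg_one_sq, one_pow]

theorem sg_mid (m : ℕ) (i : Fin (2 * m + 1)) (hi : (i : ℕ) = m) : sg F m i = 1 := by
  unfold sg
  rw [hi, ← two_mul, pow_mul, neg_one_sq, one_pow]

theorem sg_sq (m : ℕ) : sg F m * sg F m = 1 := by
  funext i
  show sg F m i * sg F m i = 1
  unfold sg
  rw [← mul_pow, neg_one_mul, neg_neg, one_pow]

theorem prod_half {A : Type*} [CommMonoid A] (m : ℕ) (f : ℕ → A) :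
    ∏ i ∈ half m, f i = ∏ i ∈ Finset.range m, f i := by
  unfold half
  rw [Finset.prod_filter, Fin.prod_univ_eq_prod_range (fun i => if i < m then f i else 1) (2 * m + 1),
    ← Finset.prod_filter]
  refine Finset.prod_congr ?_ fun _ _ => rfl
  ext i
  simp only [Finset.mem_filter, Finset.mem_range]
  omega

theorem prod_sg (m : ℕ) : ∏ i ∈ half m, sg F m i = (-1) ^ (((2 * m + 1) ^ 2 - 1) / 8) := by
  have h1 := prod_half m (fun i => (-1 : Fˣ) ^ (m + i))
  unfold sg
  rw [h1, Finset.prod_pow_eq_pow_sum, Finset.sum_add_distrib, Finset.sum_const, Finset.card_range, smul_eq_mul]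
  have h3 := Finset.sum_range_id_mul_two m
  set G := ∑ i ∈ Finset.range m, i with hG
  have h4 : ((2 * m + 1) ^ 2 - 1) / 8 = m + G := by
    apply Nat.div_eq_of_eq_mul_right (by norm_num)
    rcases Nat.eq_zero_or_pos m with h0 | h0
    · subst h0
      simp at h3
      simp [h3]
    · obtain ⟨k, rfl⟩ := Nat.exists_eq_succ_of_ne_zero h0.ne'
      rw [Nat.succ_eq_add_one, Nat.add_sub_cancel] at h3
      have h5 : (2 * (k + 1) + 1) ^ 2 = 8 * (k + 1) + 4 * ((k + 1) * k) + 1 := by ring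
      rw [Nat.succ_eq_add_one, h5, ← h3]
      omega
  rw [h4, pow_add, pow_add]
  congr 1
  rcases Nat.even_or_odd m with h5 | h5
  · rw [h5.neg_one_pow, (h5.mul_right m).neg_one_pow]
  · rw [h5.neg_one_pow, (h5.mul h5).neg_one_pow]

theorem conj_of_cay {N : Module.End F V} {h : V ≃ₗ[F] V} (hs : σ * σ = 1)
    (hN : ∀ y : V, ∃ x, x - N x = y) (hc : ∀ x, g (x - N x) = σ • (x + N x)) (hh : ∀ x, h (N x) = - N (h x)) :
    h * g * h⁻¹ = g⁻¹ := by
  rw [eq_comm, inv_eq_iff_mul_eq_one]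
  ext x
  obtain ⟨x, rfl⟩ := h.surjective x
  obtain ⟨z, rfl⟩ := hN x
  show g (h (g (h⁻¹ (h (z - N z))))) = h (z - N z)
  have e1 : h⁻¹ (h (z - N z)) = z - N z := h.symm_apply_apply _
  rw [e1, hc, LinearEquiv.map_smul, LinearEquiv.map_smul, map_add, hh, ← sub_eq_add_neg, hc, smul_smul, hs, one_smul,
    map_sub, hh, sub_neg_eq_add]

theorem JD.T_one' {m : ℕ} {b : Basis (Fin (2 * m + 1)) F V} [Finite V] [FiniteDimensional F V] [Fintype F]
    [DecidableEq F] (h2 : (2 : F) ≠ 0) (hσ : σ = 1 ∨ σ = -1) (h : JD Q g σ b c) (hc : c ≠ 0) (χ : ℤˣ)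
    (hχ : (χ : ℤ) = quadraticChar F (-1)) : T Q g 1 (χ ^ (((2 * m + 1) ^ 2 - 1) / 8)) := by
  have hs : σ * σ = 1 := by rcases hσ with rfl | rfl <;> ring
  refine ⟨dg b (sg F m), dg_mem h2 h.gram (sg_mem m), ?_, ?_, det_dg_RG (sg_mem m) (sg_mid m), ?_⟩
  · rw [← map_mul, sg_sq, map_one]
  · refine conj_of_cay hs (NB_sub_surj b) h.cay ?_
    intro x
    have h1 : en (dg b (sg F m)) * NB b = - (NB b * en (dg b (sg F m))) := by
      apply b.ext
      intro i
      show dg b (sg F m) (NB b (b i)) = - NB b (dg b (sg F m) (b i))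
      rw [dg_apply, map_smul, NB_apply]
      by_cases hi : (i : ℕ) + 1 < 2 * m + 1
      · rw [dif_pos hi, dg_apply]
        unfold sg
        simp only
        rw [← neg_smul]
        congr 1
        push_cast
        ring
      · rw [dif_neg hi, map_zero, smul_zero, neg_zero]
    exact LinearMap.congr_fun h1 x
  · apply Units.ext
    rw [spin_dg h2 h.gram hc (sg_mem m) (sg_mid m), prod_sg]
    push_cast
    rw [map_pow, hχ]

/-- **J pieces.** -/
theorem JD.T_one [Finite V] [FiniteDimensional F V] [Fintype F] [DecidableEq F] (h2 : (2 : F) ≠ 0)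
    (hσ : σ = 1 ∨ σ = -1) (h : JD Q g σ b c) (hc : c ≠ 0) (ha : Odd a) (χ : ℤˣ)
    (hχ : (χ : ℤ) = quadraticChar F (-1)) : T Q g 1 (χ ^ ((a ^ 2 - 1) / 8)) := by
  obtain ⟨m, rfl⟩ := ha
  exact h.T_one' h2 hσ hc χ hχ

open Classical in
theorem JD.T_one_if [Finite V] [FiniteDimensional F V] [Finite F] (h2 : (2 : F) ≠ 0)
    (hσ : σ = 1 ∨ σ = -1) (h : JD Q g σ b c) (hc : c ≠ 0) (ha : Odd a) :
    T Q g 1 ((if IsSquare (-1 : F) then (1 : ℤˣ) else -1) ^ ((a ^ 2 - 1) / 8)) := by
  let _ := Fintype.ofFinite F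
  refine h.T_one h2 hσ hc ha _ ?_
  have h1 : (-1 : F) ≠ 0 := neg_ne_zero.2 one_ne_zero
  split_ifs with hsq
  · rw [(quadraticChar_one_iff_isSquare h1).2 hsq]; rfl
  · rw [quadraticChar_neg_one_iff_not_isSquare.2 hsq]; rfl

end JD

end Cfsg.Agent.H382.SRJ
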