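import Mathlib
import Cfsg.Agent.H382.SRJ2

/-!
# TEAM SR, J pieces (helper382): from a cyclic piece to the structure `JD`

* `exists_JD` : a cyclic piece with `f = X - C σ` has a basis `b` with `JD Q g σ b c`.
-/

set_option autoImplicit false

namespace Cfsg.Agent.H382.SRJ

open QuadraticMap Module Polynomial
open Cfsg.Agent.LieClassical.OrthCore Cfsg.Agent.H160.QSpin Cfsg.Agent.H160.QDisc Cfsg.Agent.H160.QSplit
open Cfsg.Agent.H721.SR

variable {F V W : Type*} [Field F] [AddCommGroup V] [Module F V] [AddCommGroup W] [Module F W]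

section Skew

variable {Q : QuadraticForm F V} {N : Module.End F V} {a : ℕ}

theorem skew_pow (hN : ∀ x y, polar Q (N x) y = - polar Q x (N y)) (k : ℕ) (x y : V) :
    polar Q ((N ^ k) x) y = (-1) ^ k * polar Q x ((N ^ k) y) := by
  induction k generalizing x y with
  | zero => simp
  | succ k ih =>
    rw [pow_succ', Module.End.mul_apply, hN, ih, ← Module.End.mul_apply, ← pow_succ, pow_succ' N,
      pow_succ (-1 : F)]
    ring

theorem skew_gram (hN : ∀ x y, polar Q (N x) y = - polar Q x (N y)) (i j : ℕ) (x y : V) :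
    polar Q ((N ^ i) x) ((N ^ j) y) = (-1) ^ i * polar Q x ((N ^ (i + j)) y) := by
  rw [skew_pow hN, pow_add, Module.End.mul_apply]

theorem skew_odd (h2 : (2 : F) ≠ 0) (hN : ∀ x y, polar Q (N x) y = - polar Q x (N y)) {k : ℕ} (hk : Odd k) (x : V) :
    polar Q x ((N ^ k) x) = 0 := by
  have h1 := skew_pow hN k x x
  rw [hk.neg_one_pow, polar_comm] at h1
  have h3 : 2 * polar Q x ((N ^ k) x) = 0 := by linear_combination h1
  exact (mul_eq_zero.1 h3).resolve_left h2

/-- one step of the normalisation -/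
theorem norm_step (h2 : (2 : F) ≠ 0) (hN : ∀ x y, polar Q (N x) y = - polar Q x (N y)) (hnil : N ^ a = 0) {j : ℕ}
    (hj : j + 1 < a) {w : V} (h0 : ∀ k, j < k → k + 1 < a → polar Q w ((N ^ k) w) = 0)
    (hc : polar Q w ((N ^ (a - 1)) w) ≠ 0) :
    ∃ w' : V, (∀ k, j ≤ k → k + 1 < a → polar Q w' ((N ^ k) w') = 0) ∧ polar Q w' ((N ^ (a - 1)) w') ≠ 0 := by
  have hbig : ∀ k, a ≤ k → ∀ x : V, (N ^ k) x = 0 := by
    intro k hk x
    rw [pow_eq_zero_of_le hk hnil, LinearMap.zero_apply]
  rcases Nat.even_or_odd j with he | ho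
  · -- `a - 1` is even
    have hae : Even (a - 1) := by
      by_contra hcon
      exact hc (skew_odd h2 hN (Nat.not_even_iff_odd.1 hcon) w)
    have hle : j ≤ a - 1 := by omega
    have hel : Even (a - 1 - j) := (Nat.even_sub hle).2 (iff_of_true hae he)
    set l := a - 1 - j with hl
    set c := polar Q w ((N ^ (a - 1)) w) with hcdef
    set x : F := - (polar Q w ((N ^ j) w) / (2 * c)) with hx
    have key : ∀ k, j ≤ k → polar Q (w + x • (N ^ l) w) ((N ^ k) (w + x • (N ^ l) w)) =
        polar Q w ((N ^ k) w) + 2 * x * polar Q w ((N ^ (k + l)) w) := by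
      intro k hk
      have e1 : (N ^ k) ((N ^ l) w) = (N ^ (k + l)) w := by rw [pow_add, Module.End.mul_apply]
      rw [map_add, map_smul, polar_add_left, polar_add_right, polar_add_right, polar_smul_left, polar_smul_left,
        polar_smul_right, polar_smul_right, e1, skew_gram hN, skew_gram hN, hel.neg_one_pow,
        hbig (l + (k + l)) (by omega), polar_zero_right, add_comm l k]
      simp only [smul_eq_mul]
      ring
    refine ⟨w + x • (N ^ l) w, ?_, ?_⟩
    · intro k hk hka
      rw [key k hk]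
      rcases hk.eq_or_lt with rfl | hlt
      · have e2 : j + l = a - 1 := by omega
        rw [e2, ← hcdef, hx]
        field_simp
        ring
      · rw [h0 k hlt hka, hbig (k + l) (by omega), polar_zero_right, mul_zero, add_zero]
    · rw [key _ hle, hbig (a - 1 + l) (by omega), polar_zero_right, mul_zero, add_zero]
      exact hc
  · refine ⟨w, fun k hk hka => ?_, hc⟩
    rcases hk.eq_or_lt with rfl | hlt
    · exact skew_odd h2 hN ho w
    · exact h0 k hlt hka

/-- the normalisation -/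
theorem norm_all (h2 : (2 : F) ≠ 0) (hN : ∀ x y, polar Q (N x) y = - polar Q x (N y)) (hnil : N ^ a = 0)
    {v : V} (hc : polar Q v ((N ^ (a - 1)) v) ≠ 0) (t : ℕ) :
    ∃ w : V, (∀ k, a - 1 - t ≤ k → k + 1 < a → polar Q w ((N ^ k) w) = 0) ∧ polar Q w ((N ^ (a - 1)) w) ≠ 0 := by
  induction t with
  | zero => exact ⟨v, fun k hk hka => by omega, hc⟩
  | succ t ih =>
    obtain ⟨w, h1, h3⟩ := ih
    by_cases hj : a - 1 - (t + 1) + 1 < a ∧ a - 1 - (t + 1) < a - 1 - t
    · obtain ⟨w', h4, h5⟩ := norm_step h2 hN hnil hj.1 (w := w) (fun k hk hka => h1 k (by omega) hka) h3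
      exact ⟨w', h4, h5⟩
    · exact ⟨w, fun k hk hka => h1 k (by omega) hka, h3⟩

/-- a basis with antidiagonal Gram matrix -/
theorem exists_basis (h2 : (2 : F) ≠ 0) [FiniteDimensional F V] (hQ : Nondeg Q)
    (hN : ∀ x y, polar Q (N x) y = - polar Q x (N y)) (hnil : N ^ a = 0)
    {v : V} (hv : (N ^ (a - 1)) v ≠ 0) (ha : 0 < a)
    (hspan : ∀ x : V, x ∈ Submodule.span F (Set.range fun i : Fin a => (N ^ (i : ℕ)) v)) :
    ∃ (b : Basis (Fin a) F V) (c : F), c ≠ 0 ∧ Gr Q b c ∧ NB b = N ∧ Odd a := by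
  have hbig : ∀ k, a ≤ k → ∀ x : V, (N ^ k) x = 0 := by
    intro k hk x
    rw [pow_eq_zero_of_le hk hnil, LinearMap.zero_apply]
  have hc : polar Q v ((N ^ (a - 1)) v) ≠ 0 := by
    intro h0
    apply hv
    apply hQ
    intro y
    refine Submodule.span_induction (p := fun y _ => polar Q ((N ^ (a - 1)) v) y = 0) ?_ ?_ ?_ ?_ (hspan y)
    · rintro _ ⟨i, rfl⟩
      rw [skew_gram hN]
      rcases Nat.eq_zero_or_pos (i : ℕ) with hi | hi
      · rw [hi, add_zero, h0, mul_zero]
      · rw [hbig _ (by omega), polar_zero_right, mul_zero]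
    · exact polar_zero_right _ _
    · intro x y _ _ hx hy
      rw [polar_add_right, hx, hy, add_zero]
    · intro r x _ hx
      rw [polar_smul_right, hx, smul_zero]
  have hodd : Odd a := by
    by_contra hcon
    have h1 : Odd (a - 1) := by
      rw [Nat.not_odd_iff_even] at hcon
      exact Nat.Even.sub_odd ha hcon odd_one
    exact hc (skew_odd h2 hN h1 v)
  obtain ⟨w, hw, hcw⟩ := norm_all h2 hN hnil hc (a - 1)
  set c := polar Q w ((N ^ (a - 1)) w) with hcdef
  have hgram : ∀ i j : Fin a, polar Q ((N ^ (i : ℕ)) w) ((N ^ (j : ℕ)) w) = if j = i.rev then (-1) ^ (i : ℕ) * c else 0 := by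
    intro i j
    rw [skew_gram hN]
    by_cases hij : j = i.rev
    · rw [if_pos hij, hij, Fin.val_rev]
      have e : (i : ℕ) + (a - (i + 1)) = a - 1 := by omega
      rw [e]
    · rw [if_neg hij]
      rw [Fin.ext_iff, Fin.val_rev] at hij
      rcases lt_or_ge ((i : ℕ) + j) a with hlt | hge
      · rw [hw _ (by omega) (by omega), mul_zero]
      · rw [hbig _ hge, polar_zero_right, mul_zero]
  have hli : LinearIndependent F (fun i : Fin a => (N ^ (i : ℕ)) w) := by
    rw [Fintype.linearIndependent_iff]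
    intro f hf i
    have h1 : polar Q (∑ k, f k • (N ^ (k : ℕ)) w) ((N ^ (i.rev : ℕ)) w) = 0 := by
      rw [hf, polar_zero_left]
    have h3 : polar Q (∑ k, f k • (N ^ (k : ℕ)) w) ((N ^ (i.rev : ℕ)) w) =
        ∑ k, f k * polar Q ((N ^ (k : ℕ)) w) ((N ^ (i.rev : ℕ)) w) := by
      have := LinearMap.congr_fun (map_sum (polarBilin Q) (fun k => f k • (N ^ (k : ℕ)) w) Finset.univ)
        ((N ^ (i.rev : ℕ)) w)
      rw [LinearMap.sum_apply] at this
      refine this.trans (Finset.sum_congr rfl fun k _ => ?_)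
      rw [map_smul]
      rfl
    rw [h3, Finset.sum_eq_single i, hgram, if_pos rfl] at h1
    · exact (mul_eq_zero.1 h1).resolve_right (mul_ne_zero (pow_ne_zero _ (neg_ne_zero.2 one_ne_zero)) hcw)
    · intro k _ hk
      rw [hgram, if_neg, mul_zero]
      intro h3
      exact hk (Fin.rev_injective h3).symm
    · intro h3
      exact absurd (Finset.mem_univ _) h3
  have hfr : finrank F V ≤ a := by
    have h1 : Submodule.span F (Set.range fun i : Fin a => (N ^ (i : ℕ)) v) = ⊤ := eq_top_iff.2 fun x _ => hspan x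
    have h3 := finrank_range_le_card (R := F) (fun i : Fin a => (N ^ (i : ℕ)) v)
    unfold Set.finrank at h3
    rwa [h1, finrank_top, Fintype.card_fin] at h3
  have hcard : Fintype.card (Fin a) = finrank F V := by
    refine le_antisymm hli.fintype_card_le_finrank ?_
    rwa [Fintype.card_fin]
  have : Nonempty (Fin a) := ⟨⟨0, ha⟩⟩
  let b := basisOfLinearIndependentOfCardEqFinrank hli hcard
  have hb : ∀ i, b i = (N ^ (i : ℕ)) w := fun i =>
    congrFun (coe_basisOfLinearIndependentOfCardEqFinrank hli hcard) i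
  refine ⟨b, c, hcw, ?_, ?_, hodd⟩
  · intro i j
    rw [hb, hb, hgram]
  · apply b.ext
    intro i
    rw [NB_apply, hb, ← Module.End.mul_apply, ← pow_succ']
    by_cases hi : (i : ℕ) + 1 < a
    · rw [dif_pos hi, hb]
    · rw [dif_neg hi, hbig _ (by omega)]

end Skew

section Cyc

variable {Q : QuadraticForm F V} {g : V ≃ₗ[F] V} {σ : F} {a : ℕ} {v : V}

theorem zpow_mem {S : Submodule F V} (h1 : ∀ x ∈ S, g x ∈ S) (h2 : ∀ x ∈ S, g⁻¹ x ∈ S) (hv : v ∈ S) (i : ℤ) :
    (g ^ i) v ∈ S := by
  induction i with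
  | zero => exact hv
  | succ i ih =>
    rw [add_comm, zpow_one_add]
    exact h1 _ ih
  | pred i ih =>
    rw [sub_eq_add_neg, add_comm, zpow_add, zpow_neg_one]
    exact h2 _ ih

theorem cyc_le {S : Submodule F V} (h1 : ∀ x ∈ S, g x ∈ S) (h2 : ∀ x ∈ S, g⁻¹ x ∈ S) (hv : v ∈ S) :
    cyc g v ≤ S := by
  unfold cyc
  rw [Submodule.span_le]
  rintro _ ⟨i, rfl⟩
  exact zpow_mem h1 h2 hv i

theorem mem_cyc (g : V ≃ₗ[F] V) (v : V) : v ∈ cyc g v := Submodule.subset_span ⟨0, rfl⟩

/-- an invertible operator equal to its powers: invariance under the inverse -/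
theorem geom_mem {S : Submodule F V} {N : Module.End F V} (hnil : N ^ a = 0) (hS : ∀ x ∈ S, N x ∈ S) {x : V}
    (hx : x ∈ S) : ∃ y ∈ S, y - N y = x := by
  have hpow : ∀ k, (N ^ k) x ∈ S := by
    intro k
    induction k with
    | zero => exact hx
    | succ k ih => rw [pow_succ', Module.End.mul_apply]; exact hS _ ih
  refine ⟨(∑ k ∈ Finset.range a, N ^ k) x, ?_, ?_⟩
  · rw [LinearMap.sum_apply]
    exact Submodule.sum_mem _ fun k _ => hpow k
  · have h1 := mul_neg_geom_sum N a
    rw [hnil, sub_zero] at h1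
    exact LinearMap.congr_fun h1 x

/-- **From a cyclic piece to `JD`.** -/
theorem exists_JD_of_ann (h2 : (2 : F) ≠ 0) [FiniteDimensional F V] (hQ : Nondeg Q) (hg : g ∈ O Q)
    (hσ : σ = 1 ∨ σ = -1) (hcyc : cyc g v = ⊤) (hpos : 0 < a) (hann : Ann g v ((X - C σ) ^ a)) :
    ∃ (b : Basis (Fin a) F V) (c : F), c ≠ 0 ∧ JD Q g σ b c ∧ Odd a := by
  have hs : σ * σ = 1 := by rcases hσ with rfl | rfl <;> ring
  obtain ⟨E, hEdef⟩ : ∃ E : Module.End F V, E = aeval (g : V →ₗ[F] V) (X - C σ) := ⟨_, rfl⟩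
  have hEx : ∀ x, E x = g x - σ • x := by
    intro x
    rw [hEdef]
    simp
  have hE1 : (E ^ a) v = 0 := by
    have := (hann ((X - C σ) ^ a)).2 dvd_rfl
    rwa [map_pow, ← hEdef] at this
  have hE2 : (E ^ (a - 1)) v ≠ 0 := by
    intro h0
    have h1 := (hann ((X - C σ) ^ (a - 1))).1 (by rw [map_pow, ← hEdef]; exact h0)
    rw [pow_dvd_pow_iff (X_sub_C_ne_zero σ) (not_isUnit_X_sub_C σ)] at h1
    omega
  have hEg : Commute E (en g) := by
    apply LinearMap.ext
    intro x
    show E (g x) = g (E x)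
    rw [hEx, hEx, map_sub, LinearEquiv.map_smul]
  have hEg' : Commute E (en g⁻¹) := by
    apply LinearMap.ext
    intro x
    obtain ⟨x, rfl⟩ := g.surjective x
    show E (g⁻¹ (g x)) = g⁻¹ (E (g x))
    have e1 : ∀ y, g⁻¹ (g y) = y := fun y => g.symm_apply_apply y
    have e3 : E (g x) = g (E x) := LinearMap.congr_fun hEg x
    rw [e1, e3, e1]
  have hEa : E ^ a = 0 := by
    have h1 : cyc g v ≤ LinearMap.ker (E ^ a) := by
      apply cyc_le
      · intro x hx
        rw [LinearMap.mem_ker] at hx ⊢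
        have := LinearMap.congr_fun (hEg.pow_left a) x
        refine this.trans ?_
        show g ((E ^ a) x) = 0
        rw [hx, map_zero]
      · intro x hx
        rw [LinearMap.mem_ker] at hx ⊢
        have := LinearMap.congr_fun (hEg'.pow_left a) x
        refine this.trans ?_
        show g⁻¹ ((E ^ a) x) = 0
        rw [hx, map_zero]
      · exact hE1
    rw [hcyc, top_le_iff, LinearMap.ker_eq_top] at h1
    exact h1
  -- the nilpotent part of `σ g`
  obtain ⟨K, hKdef⟩ : ∃ K : Module.End F V, K = σ • E := ⟨_, rfl⟩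
  have hKx : ∀ x, K x = σ • g x - x := by
    intro x
    rw [hKdef, LinearMap.smul_apply, hEx, smul_sub, smul_smul, hs, one_smul]
  have hKa : K ^ a = 0 := by rw [hKdef, _root_.smul_pow, hEa, smul_zero]
  have hKv : (K ^ (a - 1)) v ≠ 0 := by
    rw [hKdef, _root_.smul_pow, LinearMap.smul_apply]
    exact smul_ne_zero (pow_ne_zero _ (by rintro rfl; simp at hs)) hE2
  have hunit : IsUnit ((2 : F) • (1 : Module.End F V) + K) := by
    refine IsNilpotent.isUnit_add_left_of_commute ⟨a, hKa⟩ ?_ ?_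
    · exact (Units.mk0 (2 : F) h2 • (1 : (Module.End F V)ˣ)).isUnit
    · exact (Commute.one_right K).smul_right _
  obtain ⟨P, hP⟩ := hunit
  have hKP : Commute K ((P⁻¹ : (Module.End F V)ˣ) : Module.End F V) := by
    apply Commute.units_inv_right
    rw [hP]
    exact ((Commute.one_right K).smul_right _).add_right (Commute.refl _)
  obtain ⟨P', hP'⟩ : ∃ P' : Module.End F V, P' = ((P⁻¹ : (Module.End F V)ˣ) : Module.End F V) := ⟨_, rfl⟩
  rw [← hP'] at hKP
  obtain ⟨N, hNdef⟩ : ∃ N : Module.End F V, N = K * P' := ⟨_, rfl⟩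
  have hy : ∀ x, P' x + σ • g (P' x) = x := by
    intro x
    have h1 : (P : Module.End F V) * P' = 1 := by rw [hP', Units.mul_inv]
    rw [hP] at h1
    have h3 := LinearMap.congr_fun h1 x
    rw [Module.End.mul_apply, LinearMap.add_apply, LinearMap.smul_apply, Module.End.one_apply, hKx,
      Module.End.one_apply] at h3
    refine Eq.trans ?_ h3
    module
  have hNx : ∀ x, N x = σ • g (P' x) - P' x := by
    intro x
    rw [hNdef, Module.End.mul_apply, hKx]
  have hNa : N ^ a = 0 := by rw [hNdef, hKP.mul_pow, hKa, zero_mul]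
  have hNv : (N ^ (a - 1)) v ≠ 0 := by
    rw [hNdef, hKP.mul_pow, (hKP.pow_pow _ _).eq, Module.End.mul_apply]
    intro h0
    apply hKv
    have h1 : IsUnit (P' ^ (a - 1)) := by
      rw [hP', ← Units.val_pow_eq_pow_val]
      exact Units.isUnit _
    exact ((Module.End.isUnit_iff _).1 h1).1 (h0.trans (map_zero _).symm)
  have hcay : ∀ x, g (x - N x) = σ • (x + N x) := by
    intro x
    have e1 := hy x
    rw [hNx]
    generalize P' x = y at e1 ⊢
    rw [← e1]
    have e3 : y + σ • g y - (σ • g y - y) = (2 : F) • y := by module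
    have e4 : y + σ • g y + (σ • g y - y) = (2 * σ) • g y := by module
    rw [e3, e4, LinearEquiv.map_smul, smul_smul]
    congr 1
    linear_combination (-2 : F) * hs
  have hskew : ∀ x y, polar Q (N x) y = - polar Q x (N y) := by
    intro x y
    have e1 := hy x
    have e2 := hy y
    rw [hNx, hNx]
    generalize P' x = x' at e1 ⊢
    generalize P' y = y' at e2 ⊢
    rw [← e1, ← e2]
    simp only [polar_add_left, polar_add_right, polar_sub_left, polar_sub_right, polar_smul_left, polar_smul_right,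
      polar_map hg, smul_eq_mul]
    linear_combination (2 * polar Q x' y') * hs
  have hspan : ∀ x : V, x ∈ Submodule.span F (Set.range fun i : Fin a => (N ^ (i : ℕ)) v) := by
    obtain ⟨S, hS⟩ : ∃ S, S = Submodule.span F (Set.range fun i : Fin a => (N ^ (i : ℕ)) v) := ⟨_, rfl⟩
    have hNS : ∀ x ∈ S, N x ∈ S := by
      intro x hx
      rw [hS] at hx ⊢
      refine Submodule.span_induction (p := fun y _ => N y ∈ Submodule.span F (Set.range fun i : Fin a => (N ^ (i : ℕ)) v))
        ?_ ?_ ?_ ?_ hx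
      · rintro _ ⟨i, rfl⟩
        simp only
        rw [← Module.End.mul_apply, ← pow_succ']
        by_cases hi : (i : ℕ) + 1 < a
        · exact Submodule.subset_span ⟨⟨i + 1, hi⟩, rfl⟩
        · rw [pow_eq_zero_of_le (by omega) hNa, LinearMap.zero_apply]
          exact Submodule.zero_mem _
      · rw [map_zero]; exact Submodule.zero_mem _
      · intro x y _ _ hx hy
        rw [map_add]; exact Submodule.add_mem _ hx hy
      · intro r x _ hx
        rw [map_smul]; exact Submodule.smul_mem _ _ hx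
    have hvS : v ∈ S := by
      rw [hS]
      exact Submodule.subset_span ⟨⟨0, hpos⟩, rfl⟩
    have h1 : cyc g v ≤ S := by
      apply cyc_le
      · intro x hx
        obtain ⟨y, hyS, rfl⟩ := geom_mem hNa hNS hx
        rw [hcay]
        exact S.smul_mem _ (S.add_mem hyS (hNS _ hyS))
      · intro x hx
        have hNa' : (-N) ^ a = 0 := by rw [neg_pow, hNa, mul_zero]
        obtain ⟨y, hyS, rfl⟩ := geom_mem hNa' (fun x hx => S.neg_mem (hNS x hx)) hx
        have e1 : y - (-N) y = σ • g (y - N y) := by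
          rw [hcay, smul_smul, hs, one_smul, LinearMap.neg_apply, sub_neg_eq_add]
        rw [e1, LinearEquiv.map_smul]
        have e2 : g⁻¹ (g (y - N y)) = y - N y := g.symm_apply_apply _
        rw [e2]
        exact S.smul_mem _ (S.sub_mem hyS (hNS _ hyS))
      · exact hvS
    intro x
    rw [← hS]
    exact h1 (by rw [hcyc]; trivial)
  obtain ⟨b, c, hc, hG, hNB, hodd⟩ := exists_basis h2 hQ hskew hNa hNv hpos hspan
  exact ⟨b, c, hc, ⟨hG, fun x => by rw [hNB]; exact hcay x⟩, hodd⟩

/-- **From a cyclic piece to `JD`.** -/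
theorem exists_JD (h2 : (2 : F) ≠ 0) [FiniteDimensional F V] (hQ : Nondeg Q) (hg : g ∈ O Q)
    (hσ : σ = 1 ∨ σ = -1) (hcyc : cyc g v = ⊤) (hC : CPiece (polarBilin Q) g (X - C σ) a v) :
    ∃ (b : Basis (Fin a) F V) (c : F), c ≠ 0 ∧ JD Q g σ b c ∧ Odd a :=
  exists_JD_of_ann h2 hQ hg hσ hcyc hC.pos hC.ann

open Classical in
/-- **J pieces: an inverting involution.** -/
theorem T_of_CPiece [Finite V] [Finite F] (h2 : (2 : F) ≠ 0) [FiniteDimensional F V] (hQ : Nondeg Q) (hg : g ∈ O Q)
    (hσ : σ = 1 ∨ σ = -1) (hcyc : cyc g v = ⊤) (hC : CPiece (polarBilin Q) g (X - C σ) a v) :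
    T Q g 1 ((if IsSquare (-1 : F) then (1 : ℤˣ) else -1) ^ ((a ^ 2 - 1) / 8)) := by
  obtain ⟨b, c, hc, h, ho⟩ := exists_JD h2 hQ hg hσ hcyc hC
  exact h.T_one_if h2 hσ hc ho

end Cyc

end Cfsg.Agent.H382.SRJ
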