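import Mathlib
import Cfsg.Agent.H382.SRJ3

/-!
# TEAM SR, J pieces (helper382): uniqueness, existence, determinant and spinor sign

* `JD.smul` : rescaling; `JD.iso` : two J pieces with the same data are isometric as pairs;
* `JD.iso_of_dc` : lemma U;
* `exists_JD_fin` : existence on `Fin a → F`;
* `JD.el` : `σ • g` has determinant one and spinor sign one.
-/

set_option autoImplicit false

namespace Cfsg.Agent.H382.SRJ

open QuadraticMap Module Polynomial
open Cfsg.Agent.LieClassical.OrthCore Cfsg.Agent.H160.QSpin Cfsg.Agent.H160.QDisc Cfsg.Agent.H160.QSplit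
open Cfsg.Agent.H721.SR

variable {F V W : Type*} [Field F] [AddCommGroup V] [Module F V] [AddCommGroup W] [Module F W]

section Iso

variable {Q : QuadraticForm F V} {g : V ≃ₗ[F] V} {σ : F} {a : ℕ} {b : Basis (Fin a) F V} {c : F}
  {Q' : QuadraticForm F W} {g' : W ≃ₗ[F] W} {b' : Basis (Fin a) F W} {c' : F}

/-- the shift of a transported basis -/
theorem NB_map (e : V ≃ₗ[F] W) (hb : ∀ i, e (b i) = b' i) (x : V) : e (NB b x) = NB b' (e x) := by
  have h : (e : V →ₗ[F] W) ∘ₗ NB b = NB b' ∘ₗ (e : V →ₗ[F] W) := by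
    apply b.ext
    intro i
    show e (NB b (b i)) = NB b' (e (b i))
    rw [NB_apply, hb, NB_apply]
    by_cases hi : (i : ℕ) + 1 < a
    · rw [dif_pos hi, dif_pos hi, hb]
    · rw [dif_neg hi, dif_neg hi, map_zero]
  exact LinearMap.congr_fun h x

/-- two J pieces with the same data are isometric as pairs -/
theorem JD.iso (h2 : (2 : F) ≠ 0) (h : JD Q g σ b c) (h' : JD Q' g' σ b' c) :
    ∃ e : V ≃ₗ[F] W, IsIso Q Q' e ∧ cj e g = g' ∧ ∀ i, e (b i) = b' i := by
  have hb : ∀ i, (b.equiv b' (Equiv.refl _)) (b i) = b' i := fun i => by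
    rw [Basis.equiv_apply]; rfl
  refine ⟨b.equiv b' (Equiv.refl _), isIso_of_polar h2 ?_, ?_, hb⟩
  · have h5 : LinearMap.BilinForm.comp (polarBilin Q') (b.equiv b' (Equiv.refl _) : V →ₗ[F] W)
        (b.equiv b' (Equiv.refl _) : V →ₗ[F] W) = polarBilin Q := by
      apply LinearMap.BilinForm.ext_basis b
      intro i j
      rw [LinearMap.BilinForm.comp_apply, LinearEquiv.coe_coe, hb, hb]
      show polar Q' (b' i) (b' j) = polar Q (b i) (b j)
      rw [h.gram, h'.gram]
    intro x y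
    exact congrArg (fun B : LinearMap.BilinForm F V => B x y) h5
  · generalize b.equiv b' (Equiv.refl _) = e at hb
    ext w
    obtain ⟨w, rfl⟩ := e.surjective w
    obtain ⟨x, rfl⟩ := NB_sub_surj b w
    rw [cj_apply', h.cay, LinearEquiv.map_smul, map_add, map_sub, NB_map e hb, h'.cay]

/-- transport -/
theorem JD.cj {e : V ≃ₗ[F] W} (he : IsIso Q Q' e) (h : JD Q g σ b c) : JD Q' (Cfsg.Agent.H160.QSpin.cj e g) σ (b.map e) c := by
  refine ⟨fun i j => ?_, fun x => ?_⟩
  · rw [Basis.map_apply, Basis.map_apply, he.polar, h.gram]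
  · obtain ⟨x, rfl⟩ := e.surjective x
    rw [← NB_map (b := b) e (fun i => by rw [Basis.map_apply]), ← map_sub, cj_apply', h.cay, LinearEquiv.map_smul,
      map_add]

/-- rescaling -/
theorem JD.scale (h : JD Q g σ b c) {t : F} (ht : t ≠ 0) :
    JD Q g σ (b.unitsSMul fun _ => Units.mk0 t ht) (t ^ 2 * c) := by
  have hb : ∀ i, (b.unitsSMul fun _ => Units.mk0 t ht) i = t • b i := fun i => by
    rw [Basis.unitsSMul_apply]; rfl
  have hN : NB (b.unitsSMul fun _ => Units.mk0 t ht) = NB b := by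
    apply b.ext
    intro i
    have h1 : b i = t⁻¹ • (b.unitsSMul fun _ => Units.mk0 t ht) i := by
      rw [hb, smul_smul, inv_mul_cancel₀ ht, one_smul]
    have h3 : NB (b.unitsSMul fun _ => Units.mk0 t ht) (b i) =
        t⁻¹ • NB (b.unitsSMul fun _ => Units.mk0 t ht) ((b.unitsSMul fun _ => Units.mk0 t ht) i) := by
      rw [← map_smul, ← h1]
    rw [h3, NB_apply, NB_apply]
    by_cases hi : (i : ℕ) + 1 < a
    · rw [dif_pos hi, dif_pos hi, hb, smul_smul, inv_mul_cancel₀ ht, one_smul]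
    · rw [dif_neg hi, dif_neg hi, smul_zero]
  refine ⟨fun i j => ?_, fun x => by rw [hN]; exact h.cay x⟩
  rw [hb, hb, polar_smul_left, polar_smul_right, h.gram]
  simp only [smul_eq_mul]
  split_ifs
  · ring
  · ring

/-- **Lemma U.** Two J pieces with the same `a`, `σ` and class are isometric as pairs. -/
theorem JD.iso_of_dc [FiniteDimensional F V] [FiniteDimensional F W] [Fintype F] [DecidableEq F] (h2 : (2 : F) ≠ 0)
    (ha : Odd a) (h : JD Q g σ b c) (h' : JD Q' g' σ b' c') (hc : c ≠ 0) (hc' : c' ≠ 0) (hd : dc Q = dc Q') :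
    ∃ e : V ≃ₗ[F] W, IsIso Q Q' e ∧ Cfsg.Agent.H160.QSpin.cj e g = g' := by
  rw [h.gram.dc_odd hc ha, h'.gram.dc_odd hc' ha] at hd
  obtain ⟨t, ht⟩ : IsSquare (c' / c) := by
    rw [← quadraticChar_one_iff_isSquare (div_ne_zero hc' hc)]
    have h3 : quadraticChar F c' = quadraticChar F (c' / c) * quadraticChar F c := by
      rw [← map_mul, div_mul_cancel₀ _ hc]
    rcases quadraticChar_dichotomy hc' with h5 | h5
    · rw [hd, h5] at h3; linarith
    · rw [hd, h5] at h3; linarith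
  have ht0 : t ≠ 0 := by
    rintro rfl
    rw [mul_zero] at ht
    exact div_ne_zero hc' hc ht
  have h4 : t ^ 2 * c = c' := by rw [pow_two, ← ht, div_mul_cancel₀ _ hc]
  have h5 := h.scale ht0
  rw [h4] at h5
  obtain ⟨e, he, hg, -⟩ := h5.iso h2 h'
  exact ⟨e, he, hg⟩

end Iso

/-! ### Existence -/

section Ex

/-- the Gram bilinear form -/
noncomputable def grB {a : ℕ} (b : Basis (Fin a) F V) (c : F) : LinearMap.BilinForm F V :=
  Matrix.toBilin b (Matrix.of fun i j : Fin a => if j = i.rev then (-1) ^ (i : ℕ) * c else (0 : F))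

theorem grB_apply {a : ℕ} (b : Basis (Fin a) F V) (c : F) (i j : Fin a) :
    grB b c (b i) (b j) = if j = i.rev then (-1) ^ (i : ℕ) * c else 0 := by
  have h1 := LinearMap.BilinForm.toMatrix_apply b (grB b c) i j
  rw [← h1, grB, LinearMap.BilinForm.toMatrix_toBilin, Matrix.of_apply]

/-- the Gram quadratic form -/
noncomputable def grQ {a : ℕ} (b : Basis (Fin a) F V) (c : F) : QuadraticForm F V :=
  (2 : F)⁻¹ • (grB b c).toQuadraticMap

theorem polar_grQ (h2 : (2 : F) ≠ 0) {a : ℕ} (ha : Odd a) (b : Basis (Fin a) F V) (c : F) : Gr (grQ b c) b c := by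
  intro i j
  have h1 : polar (grQ b c) (b i) (b j) = (2 : F)⁻¹ * (grB b c (b i) (b j) + grB b c (b j) (b i)) := by
    simp only [grQ, QuadraticMap.polar, _root_.smul_apply, LinearMap.BilinMap.toQuadraticMap_apply, map_add,
      LinearMap.add_apply, smul_eq_mul]
    ring
  rw [h1, grB_apply, grB_apply]
  by_cases hij : j = i.rev
  · rw [if_pos hij, if_pos (by rw [hij, Fin.rev_rev]), hij, Fin.val_rev]
    have h3 : (-1 : F) ^ (a - ((i : ℕ) + 1)) = (-1) ^ (i : ℕ) := by
      obtain ⟨k, hk⟩ := ha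
      have h5 : (-1 : F) ^ (a - ((i : ℕ) + 1)) * (-1) ^ (i : ℕ) = 1 := by
        rw [← pow_add]
        have e : a - ((i : ℕ) + 1) + i = 2 * k := by omega
        rw [e, pow_mul, neg_one_sq, one_pow]
      have h6 : (-1 : F) ^ (i : ℕ) * (-1) ^ (i : ℕ) = 1 := by
        rw [← mul_pow, neg_one_mul, neg_neg, one_pow]
      calc (-1 : F) ^ (a - ((i : ℕ) + 1)) = (-1 : F) ^ (a - ((i : ℕ) + 1)) * ((-1 : F) ^ (i : ℕ) * (-1) ^ (i : ℕ)) := by
            rw [h6, mul_one]
        _ = _ := by rw [← mul_assoc, h5, one_mul]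
    rw [h3, ← two_mul, inv_mul_cancel_left₀ h2]
  · rw [if_neg hij, if_neg, add_zero, mul_zero]
    intro h
    exact hij (by rw [h, Fin.rev_rev])

/-- the Cayley transform of the shift -/
theorem exists_cay {a : ℕ} (b : Basis (Fin a) F V) {σ : F} (hs : σ * σ = 1) :
    ∃ g : V ≃ₗ[F] V, ∀ x, g (x - NB b x) = σ • (x + NB b x) := by
  obtain ⟨P, hP⟩ := NB_unit_sub b
  obtain ⟨R, hR⟩ := NB_unit_add b
  let e : (Module.End F V)ˣ ≃* (V ≃ₗ[F] V) := LinearMap.GeneralLinearGroup.generalLinearEquiv F V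
  have hσ : σ ≠ 0 := by
    rintro rfl
    simp at hs
  refine ⟨LinearEquiv.smulOfUnit (Units.mk0 σ hσ) * (e R * (e P)⁻¹), fun x => ?_⟩
  have h1 : e P x = x - NB b x := LinearMap.congr_fun hP x
  have h3 : e R x = x + NB b x := LinearMap.congr_fun hR x
  rw [← h1]
  show σ • (e R ((e P)⁻¹ (e P x))) = _
  have h4 : (e P)⁻¹ (e P x) = x := (e P).symm_apply_apply x
  rw [h4, h3]

/-- **Existence of J pieces.** -/
theorem exists_JD_fin (h2 : (2 : F) ≠ 0) {a : ℕ} (ha : Odd a) {σ : F} (hσ : σ = 1 ∨ σ = -1) (c : F)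
    (b : Basis (Fin a) F V) : ∃ (Q : QuadraticForm F V) (g : V ≃ₗ[F] V), JD Q g σ b c := by
  have hs : σ * σ = 1 := by rcases hσ with rfl | rfl <;> ring
  obtain ⟨g, hg⟩ := exists_cay b hs
  exact ⟨grQ b c, g, polar_grQ h2 ha b c, hg⟩

end Ex

/-! ### Determinant and spinor sign -/

section Det

variable {Q : QuadraticForm F V} {g : V ≃ₗ[F] V} {σ : F} {a : ℕ} {b : Basis (Fin a) F V} {c : F}

/-- an isometry with `(u - 1) ^ n = 0` has odd order -/
theorem odd_of_unip [Finite F] (h2 : (2 : F) ≠ 0) {u : V ≃ₗ[F] V} {n : ℕ} (hu : (en u - 1) ^ n = 0) :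
    Odd (orderOf u) := by
  have := Fintype.ofFinite F
  obtain ⟨p, hpF⟩ := CharP.exists F
  have hp : Fact p.Prime := ⟨CharP.char_is_prime F p⟩
  have hodd : Odd p := by
    apply hp.out.odd_of_ne_two
    rintro rfl
    apply h2
    exact_mod_cast CharP.cast_eq_zero F 2
  have hle : n ≤ p ^ n := (Nat.lt_pow_self hp.out.one_lt).le
  have h1 : u ^ (p ^ n) = 1 := by
    apply en_inj
    rw [en_pow]
    have h1 : (en u - 1) ^ (p ^ n) = 0 := pow_eq_zero_of_le hle hu
    have h3 : ∀ f : Module.End F V, (f - 1) ^ (p ^ n) = f ^ (p ^ n) - 1 := by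
      intro f
      have h : ((Polynomial.X : Polynomial F) - 1) ^ (p ^ n) = Polynomial.X ^ (p ^ n) - 1 := by
        rw [sub_pow_char_pow, one_pow]
      have h1 := congrArg (Polynomial.aeval f) h
      simpa using h1
    rw [h3, sub_eq_zero] at h1
    exact h1
  obtain ⟨k, hk⟩ := orderOf_dvd_of_pow_eq_one h1
  have h3 : Odd (p ^ n) := hodd.pow
  rw [hk] at h3
  exact (Nat.odd_mul.1 h3).1

/-- the unipotent part -/
theorem JD.unip (hσ : σ = 1 ∨ σ = -1) (h : JD Q g σ b c) : (σ • en g - 1) ^ a = 0 := by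
  have hs : σ * σ = 1 := by rcases hσ with rfl | rfl <;> ring
  obtain ⟨P, hP⟩ := NB_unit_sub b
  have h1 : σ • en g - 1 = (2 : F) • (NB b * ((P⁻¹ : (Module.End F V)ˣ) : Module.End F V)) := by
    apply LinearMap.ext
    intro y
    obtain ⟨x, rfl⟩ := NB_sub_surj b y
    have h3 : ((P⁻¹ : (Module.End F V)ˣ) : Module.End F V) (x - NB b x) = x := by
      have h4 : ((P⁻¹ : (Module.End F V)ˣ) : Module.End F V) * (P : Module.End F V) = 1 := Units.inv_mul P
      rw [hP] at h4
      exact LinearMap.congr_fun h4 x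
    show σ • g (x - NB b x) - (x - NB b x) = (2 : F) • NB b (((P⁻¹ : (Module.End F V)ˣ) : Module.End F V) (x - NB b x))
    rw [h3, h.cay, smul_smul, hs, one_smul]
    module
  have hcomm : Commute (NB b) ((P⁻¹ : (Module.End F V)ˣ) : Module.End F V) := by
    apply Commute.units_inv_right
    rw [hP]
    exact (Commute.one_right _).sub_right (Commute.refl _)
  rw [h1, _root_.smul_pow, hcomm.mul_pow, NB_nil, zero_mul, smul_zero]

/-- `σ = 1`: determinant one and spinor sign one -/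
theorem JD.el_one [Finite V] [FiniteDimensional F V] [Finite F] (h2 : (2 : F) ≠ 0) (h : JD Q g 1 b c)
    (hc : c ≠ 0) : El Q 1 g := by
  refine El.of_odd (h.gram.nondeg hc) (h.mem_O h2 (Or.inl rfl)) (odd_of_unip h2 (n := a) ?_)
  have := h.unip (Or.inl rfl)
  rwa [one_smul] at this

/-- negating an isometry -/
theorem JD.neg (h : JD Q g σ b c) : JD Q (LinearEquiv.neg F * g) (-σ) b c := by
  refine ⟨h.gram, fun x => ?_⟩
  show - g (x - NB b x) = _
  rw [h.cay, neg_smul]

/-- `σ = -1`: `-g` has determinant one and spinor sign one -/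
theorem JD.el_neg [Finite V] [FiniteDimensional F V] [Finite F] (h2 : (2 : F) ≠ 0) (h : JD Q g (-1) b c)
    (hc : c ≠ 0) : El Q 1 (LinearEquiv.neg F * g) := by
  have h1 := h.neg
  rw [neg_neg] at h1
  exact h1.el_one h2 hc

end Det

end Cfsg.Agent.H382.SRJ
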