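import Mathlib
import Cfsg.Agent.H382.SRJ4

/-!
# TEAM SR, J pieces (helper382): two pieces with the same `(a, σ)`, and `JD` as a cyclic piece

* `JD.flip`, `JD.flip_dc` : re-decomposition of a sum of two J pieces with the same `a` and `σ`;
* `JD.cpiece`, `JD.cyc_eq` : `JD` data give a cyclic piece.
-/

set_option autoImplicit false

namespace Cfsg.Agent.H382.SRJ

open QuadraticMap Module Polynomial
open Cfsg.Agent.LieClassical.OrthCore Cfsg.Agent.H160.QSpin Cfsg.Agent.H160.QDisc Cfsg.Agent.H160.QSplit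
open Cfsg.Agent.H721.SR

variable {F V W : Type*} [Field F] [AddCommGroup V] [Module F V] [AddCommGroup W] [Module F W]

section Flip

variable {Q : QuadraticForm F V} {g : V ≃ₗ[F] V} {σ : F} {a : ℕ} {b : Basis (Fin a) F V} {c : F}
  {Q' : QuadraticForm F W} {g' : W ≃ₗ[F] W} {b' : Basis (Fin a) F W} {c' : F}

/-- the Gram matrix determines the polar form -/
theorem Gr.polar_eq (h : Gr Q b c) (x y : V) : polar Q x y = c * grB b 1 x y := by
  have h1 : polarBilin Q = c • grB b 1 := by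
    apply LinearMap.BilinForm.ext_basis b
    intro i j
    show polar Q (b i) (b j) = c * grB b 1 (b i) (b j)
    rw [h, grB_apply]
    split_ifs <;> ring
  exact congrArg (fun B : LinearMap.BilinForm F V => B x y) h1

theorem grB_map (e : V ≃ₗ[F] W) (hb : ∀ i, e (b i) = b' i) (x y : V) : grB b' 1 (e x) (e y) = grB b (1 : F) x y := by
  have h5 : LinearMap.BilinForm.comp (grB b' 1) (e : V →ₗ[F] W) (e : V →ₗ[F] W) = grB b 1 := by
    apply LinearMap.BilinForm.ext_basis b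
    intro i j
    rw [LinearMap.BilinForm.comp_apply, LinearEquiv.coe_coe, hb, hb, grB_apply, grB_apply]
  exact congrArg (fun B : LinearMap.BilinForm F V => B x y) h5

/-- **Re-decomposition of two J pieces with the same `a` and `σ`.** -/
theorem JD.flip (h2 : (2 : F) ≠ 0) (ha : Odd a) (h : JD Q g σ b c) (h' : JD Q' g' σ b' c') (x y : F)
    (hxy : x ^ 2 * c + y ^ 2 * c' ≠ 0) :
    ∃ (Q₁ : QuadraticForm F V) (Q₂ : QuadraticForm F W) (e : (V × W) ≃ₗ[F] (V × W)),
      JD Q₁ g σ b (x ^ 2 * c + y ^ 2 * c') ∧ JD Q₂ g' σ b' (c * c' * (x ^ 2 * c + y ^ 2 * c')) ∧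
      IsIso (Q₁.prod Q₂) (Q.prod Q') e ∧ Cfsg.Agent.H160.QSpin.cj e (pr g g') = pr g g' := by
  obtain ⟨φ, hφ⟩ : ∃ φ : V ≃ₗ[F] W, ∀ i, φ (b i) = b' i :=
    ⟨b.equiv b' (Equiv.refl _), fun i => by rw [Basis.equiv_apply]; rfl⟩
  have hφN := NB_map φ hφ
  have hφN' : ∀ w, φ.symm (NB b' w) = NB b (φ.symm w) := by
    intro w
    apply φ.injective
    rw [hφN, LinearEquiv.apply_symm_apply, LinearEquiv.apply_symm_apply]
  have hφg : ∀ v, φ (g v) = g' (φ v) := by
    intro v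
    obtain ⟨v, rfl⟩ := NB_sub_surj b v
    rw [h.cay, LinearEquiv.map_smul, map_add, map_sub, hφN, h'.cay]
  have hφg' : ∀ w, φ.symm (g' w) = g (φ.symm w) := by
    intro w
    apply φ.injective
    rw [hφg, LinearEquiv.apply_symm_apply, LinearEquiv.apply_symm_apply]
  set k := x ^ 2 * c + y ^ 2 * c' with hk
  let A : (V × W) →ₗ[F] (V × W) :=
    LinearMap.prod (x • LinearMap.fst F V W + (y * c') • (φ.symm : W →ₗ[F] V) ∘ₗ LinearMap.snd F V W)
      (y • (φ : V →ₗ[F] W) ∘ₗ LinearMap.fst F V W - (x * c) • LinearMap.snd F V W)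
  let B : (V × W) →ₗ[F] (V × W) :=
    LinearMap.prod ((k⁻¹ * (x * c)) • LinearMap.fst F V W + (k⁻¹ * (y * c')) • (φ.symm : W →ₗ[F] V) ∘ₗ LinearMap.snd F V W)
      ((k⁻¹ * y) • (φ : V →ₗ[F] W) ∘ₗ LinearMap.fst F V W - (k⁻¹ * x) • LinearMap.snd F V W)
  have hA : ∀ z : V × W, A z = (x • z.1 + (y * c') • φ.symm z.2, y • φ z.1 - (x * c) • z.2) := fun z => rfl
  have hB : ∀ z : V × W, B z = ((k⁻¹ * (x * c)) • z.1 + (k⁻¹ * (y * c')) • φ.symm z.2,
      (k⁻¹ * y) • φ z.1 - (k⁻¹ * x) • z.2) := fun z => rfl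
  have hkk : k⁻¹ * k = 1 := inv_mul_cancel₀ hxy
  have hAB : ∀ z, A (B z) = z := by
    intro z
    rw [hA, hB]
    apply Prod.ext
    · simp only [map_sub, LinearEquiv.map_smul, LinearEquiv.symm_apply_apply]
      have : x • ((k⁻¹ * (x * c)) • z.1 + (k⁻¹ * (y * c')) • φ.symm z.2) +
          (y * c') • ((k⁻¹ * y) • z.1 - (k⁻¹ * x) • φ.symm z.2) = (k⁻¹ * k) • z.1 := by
        rw [hk]; module
      rw [this, hkk, one_smul]
    · simp only [map_add, LinearEquiv.map_smul, LinearEquiv.apply_symm_apply]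
      have : y • ((k⁻¹ * (x * c)) • φ z.1 + (k⁻¹ * (y * c')) • z.2) -
          (x * c) • ((k⁻¹ * y) • φ z.1 - (k⁻¹ * x) • z.2) = (k⁻¹ * k) • z.2 := by
        rw [hk]; module
      rw [this, hkk, one_smul]
  have hBA : ∀ z, B (A z) = z := by
    intro z
    rw [hB, hA]
    apply Prod.ext
    · simp only [map_sub, LinearEquiv.map_smul, LinearEquiv.symm_apply_apply]
      have : (k⁻¹ * (x * c)) • (x • z.1 + (y * c') • φ.symm z.2) +
          (k⁻¹ * (y * c')) • (y • z.1 - (x * c) • φ.symm z.2) = (k⁻¹ * k) • z.1 := by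
        rw [hk]; module
      rw [this, hkk, one_smul]
    · simp only [map_add, LinearEquiv.map_smul, LinearEquiv.apply_symm_apply]
      have : (k⁻¹ * y) • (x • φ z.1 + (y * c') • z.2) - (k⁻¹ * x) • (y • φ z.1 - (x * c) • z.2) =
          (k⁻¹ * k) • z.2 := by
        rw [hk]; module
      rw [this, hkk, one_smul]
  let e : (V × W) ≃ₗ[F] (V × W) := LinearEquiv.ofLinearMap A B (LinearMap.ext hAB) (LinearMap.ext hBA)
  have he : ∀ z, e z = (x • z.1 + (y * c') • φ.symm z.2, y • φ z.1 - (x * c) • z.2) := hA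
  refine ⟨grQ b k, grQ b' (c * c' * k), e, ⟨polar_grQ h2 ha b k, h.cay⟩, ⟨polar_grQ h2 ha b' _, h'.cay⟩, ?_, ?_⟩
  · apply isIso_of_polar h2
    rintro ⟨u, w⟩ ⟨u', w'⟩
    obtain ⟨z, rfl⟩ := φ.surjective w
    obtain ⟨z', rfl⟩ := φ.surjective w'
    rw [polar_pr, polar_pr, he, he]
    simp only [LinearEquiv.symm_apply_apply]
    have e1 : y • φ u - (x * c) • φ z = φ (y • u - (x * c) • z) := by
      rw [map_sub, LinearEquiv.map_smul, LinearEquiv.map_smul]
    have e2 : y • φ u' - (x * c) • φ z' = φ (y • u' - (x * c) • z') := by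
      rw [map_sub, LinearEquiv.map_smul, LinearEquiv.map_smul]
    rw [e1, e2, h.gram.polar_eq, h'.gram.polar_eq, (polar_grQ h2 ha b k).polar_eq,
      (polar_grQ h2 ha b' (c * c' * k)).polar_eq, grB_map φ hφ, grB_map φ hφ]
    simp only [map_add, map_sub, map_smul, LinearMap.add_apply, LinearMap.sub_apply, LinearMap.smul_apply, smul_eq_mul]
    rw [hk]
    ring
  · ext1 z
    obtain ⟨z, rfl⟩ := e.surjective z
    rw [cj_apply', pr_apply, pr_apply, he, he]
    simp only [map_add, map_sub, LinearEquiv.map_smul, hφg, hφg']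

theorem exists_rep [Fintype F] (h2 : (2 : F) ≠ 0) {c c' : F} (hc : c ≠ 0) (hc' : c' ≠ 0) (k : F) :
    ∃ x y : F, x ^ 2 * c + y ^ 2 * c' = k := by
  have hodd : Fintype.card F % 2 = 1 := by
    rw [← Nat.odd_iff, ← Nat.not_even_iff_odd]
    intro he
    obtain ⟨p, hpF⟩ := CharP.exists F
    have hp : Fact p.Prime := ⟨CharP.char_is_prime F p⟩
    obtain ⟨n, -, hn⟩ := FiniteField.card F p
    rw [hn] at he
    have h3 : Even p := by
      rcases Nat.even_pow.1 he with ⟨h, -⟩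
      exact h
    have h4 : p = 2 := (hp.out.even_iff).1 h3
    subst h4
    apply h2
    exact_mod_cast CharP.cast_eq_zero F 2
  obtain ⟨x, y, hxy⟩ := FiniteField.exists_root_sum_quadratic (f := C c * X ^ 2) (g := C c' * X ^ 2 - C k)
    (by compute_degree!) (by compute_degree!) hodd
  refine ⟨x, y, ?_⟩
  simp at hxy
  linear_combination hxy

/-- **Both classes can be changed.** -/
theorem JD.flip_dc [FiniteDimensional F V] [FiniteDimensional F W] [Fintype F] [DecidableEq F] (h2 : (2 : F) ≠ 0)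
    (ha : Odd a) (h : JD Q g σ b c) (h' : JD Q' g' σ b' c') (hc : c ≠ 0) (hc' : c' ≠ 0) :
    ∃ (Q₁ : QuadraticForm F V) (Q₂ : QuadraticForm F W) (e : (V × W) ≃ₗ[F] (V × W)) (c₁ c₂ : F), c₁ ≠ 0 ∧ c₂ ≠ 0 ∧
      JD Q₁ g σ b c₁ ∧ JD Q₂ g' σ b' c₂ ∧ dc Q₁ = - dc Q ∧ dc Q₂ = - dc Q' ∧
      IsIso (Q₁.prod Q₂) (Q.prod Q') e ∧ Cfsg.Agent.H160.QSpin.cj e (pr g g') = pr g g' := by
  have hd : - dc Q = 1 ∨ - dc Q = -1 := by
    rcases dc_cases (h.gram.nondeg hc) with h3 | h3
    · right; rw [h3]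
    · left; rw [h3]; norm_num
  obtain ⟨k, hk, hk'⟩ := exists_qc (F := F) h2 hd
  obtain ⟨x, y, hxy⟩ := exists_rep h2 hc hc' k
  obtain ⟨Q₁, Q₂, e, h3, h4, h5, h6⟩ := h.flip h2 ha h' x y (by rw [hxy]; exact hk)
  rw [hxy] at h3 h4
  have hk3 : c * c' * k ≠ 0 := mul_ne_zero (mul_ne_zero hc hc') hk
  refine ⟨Q₁, Q₂, e, k, c * c' * k, hk, hk3, h3, h4, ?_, ?_, h5, h6⟩
  · rw [h3.gram.dc_odd hk ha, hk']
  · rw [h4.gram.dc_odd hk3 ha, map_mul, map_mul, hk', h'.gram.dc_odd hc' ha, h.gram.dc_odd hc ha]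
    have h7 := quadraticChar_sq_one hc
    linear_combination (- quadraticChar F c') * h7

end Flip

/-! ### Cyclic pieces from `JD` -/

section Back

variable {Q : QuadraticForm F V} {g : V ≃ₗ[F] V} {σ : F} {a : ℕ} {v : V}

theorem ann_of (h1 : ((aeval (g : V →ₗ[F] V) (X - C σ)) ^ a) v = 0)
    (h3 : ((aeval (g : V →ₗ[F] V) (X - C σ)) ^ (a - 1)) v ≠ 0) : Ann g v ((X - C σ) ^ a) := by
  classical
  intro p
  constructor
  · intro hp
    obtain ⟨x, y, hxy⟩ : ∃ x y, EuclideanDomain.gcd p ((X - C σ) ^ a) = p * x + (X - C σ) ^ a * y :=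
      ⟨_, _, EuclideanDomain.gcd_eq_gcd_ab p ((X - C σ) ^ a)⟩
    set d := EuclideanDomain.gcd p ((X - C σ) ^ a) with hd
    have hdv : aeval (g : V →ₗ[F] V) d v = 0 := by
      rw [hxy, map_add, mul_comm p x, mul_comm _ y, map_mul, map_mul, map_pow, LinearMap.add_apply,
        Module.End.mul_apply, Module.End.mul_apply, hp, h1, map_zero, map_zero, add_zero]
    obtain ⟨i, hi, hass⟩ := (dvd_prime_pow (prime_X_sub_C σ) a).1 (EuclideanDomain.gcd_dvd_right p ((X - C σ) ^ a))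
    have hiv : ((aeval (g : V →ₗ[F] V) (X - C σ)) ^ i) v = 0 := by
      obtain ⟨r, hr⟩ := hass.dvd
      rw [← map_pow, hr, mul_comm, map_mul, Module.End.mul_apply, hdv, map_zero]
    rcases hi.eq_or_lt with rfl | hlt
    · exact hass.symm.dvd.trans (EuclideanDomain.gcd_dvd_left p _)
    · exfalso
      apply h3
      have e : a - 1 = (a - 1 - i) + i := by omega
      rw [e, pow_add, Module.End.mul_apply, hiv, map_zero]
  · rintro ⟨r, rfl⟩
    rw [mul_comm, map_mul, Module.End.mul_apply, map_pow, h1, map_zero]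

theorem aeval_X_sub (x : V) : aeval (g : V →ₗ[F] V) (X - C σ) x = g x - σ • x := by simp

variable [NeZero a] {b : Basis (Fin a) F V} {c : F}

theorem JD.cyc_eq (h2 : (2 : F) ≠ 0) (hσ : σ = 1 ∨ σ = -1) (h : JD Q g σ b c) : cyc g (b 0) = ⊤ := by
  have hs : σ * σ = 1 := by rcases hσ with rfl | rfl <;> ring
  rw [eq_top_iff, ← b.span_eq, Submodule.span_le]
  have hgS : ∀ x ∈ cyc g (b 0), g x ∈ cyc g (b 0) := by
    intro x hx
    refine Submodule.span_induction (p := fun x _ => g x ∈ cyc g (b 0)) ?_ ?_ ?_ ?_ hx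
    · rintro _ ⟨i, rfl⟩
      refine Submodule.subset_span ⟨1 + i, ?_⟩
      simp only
      rw [zpow_one_add]
      rfl
    · rw [map_zero g]; exact Submodule.zero_mem _
    · intro x y _ _ hx hy
      rw [map_add g]; exact Submodule.add_mem _ hx hy
    · intro r x _ hx
      rw [LinearEquiv.map_smul]; exact Submodule.smul_mem _ _ hx
  have hNS : ∀ x ∈ cyc g (b 0), NB b x ∈ cyc g (b 0) := by
    intro z hz
    have hnil : (-((2 : F)⁻¹ • (σ • en g - 1))) ^ a = 0 := by
      rw [neg_pow, _root_.smul_pow, h.unip hσ, smul_zero, mul_zero]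
    obtain ⟨y, hy, hyz⟩ := geom_mem (N := -((2 : F)⁻¹ • (σ • en g - 1))) hnil (fun x hx => by
      show - ((2 : F)⁻¹ • (σ • g x - x)) ∈ _
      exact Submodule.neg_mem _ (Submodule.smul_mem _ _ (Submodule.sub_mem _ (Submodule.smul_mem _ _ (hgS x hx)) hx))) hz
    have hyz' : y - -((2 : F)⁻¹ • (σ • g y - y)) = z := hyz
    have key : NB b z = (2 : F)⁻¹ • (σ • g y - y) := by
      obtain ⟨x, hx⟩ := NB_sub_surj b y
      have e1 : σ • g y = x + NB b x := by rw [← hx, h.cay, smul_smul, hs, one_smul]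
      have e3 : z = x := by
        rw [← hyz', e1, ← hx]
        have : x - NB b x - -((2 : F)⁻¹ • (x + NB b x - (x - NB b x))) = x - NB b x + ((2 : F)⁻¹ * 2) • NB b x := by
          module
        rw [this, inv_mul_cancel₀ h2]
        module
      rw [e1, e3, ← hx]
      have : (2 : F)⁻¹ • (x + NB b x - (x - NB b x)) = ((2 : F)⁻¹ * 2) • NB b x := by module
      rw [this, inv_mul_cancel₀ h2, one_smul]
    rw [key]
    exact Submodule.smul_mem _ _ (Submodule.sub_mem _ (Submodule.smul_mem _ _ (hgS y hy)) hy)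
  rintro _ ⟨i, rfl⟩
  have hbi : b i = (NB b ^ (i : ℕ)) (b 0) := by
    rw [NB_pow, dif_pos (by simp)]
    congr 1
    ext
    simp
  have hpow : ∀ k, (NB b ^ k) (b 0) ∈ cyc g (b 0) := by
    intro k
    induction k with
    | zero => exact mem_cyc g (b 0)
    | succ k ih => rw [pow_succ', Module.End.mul_apply]; exact hNS _ ih
  rw [hbi]
  exact hpow _

theorem JD.ann (h2 : (2 : F) ≠ 0) (hσ : σ = 1 ∨ σ = -1) (h : JD Q g σ b c) : Ann g (b 0) ((X - C σ) ^ a) := by
  have hs : σ * σ = 1 := by rcases hσ with rfl | rfl <;> ring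
  have hE : aeval (g : V →ₗ[F] V) (X - C σ) = σ • (σ • en g - 1) := by
    apply LinearMap.ext
    intro x
    rw [aeval_X_sub]
    show _ = σ • (σ • g x - x)
    rw [smul_sub, smul_smul, hs, one_smul]
  obtain ⟨P, hP⟩ := NB_unit_sub b
  have h1 : σ • en g - 1 = (2 : F) • (NB b * ((P⁻¹ : (Module.End F V)ˣ) : Module.End F V)) := by
    apply LinearMap.ext
    intro y
    obtain ⟨x, rfl⟩ := NB_sub_surj b y
    have h3 : ((P⁻¹ : (Module.End F V)ˣ) : Module.End F V) (x - NB b x) = x := by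
      have h4 : ((P⁻¹ : (Module.End F V)ˣ) : Module.End F V) * (P : Module.End F V) = 1 := Units.inv_mul P
      rw [hP] at h4
      exact LinearMap.congr_fun h4 x
    show σ • g (x - NB b x) - (x - NB b x) = (2 : F) • NB b (((P⁻¹ : (Module.End F V)ˣ) : Module.End F V) (x - NB b x))
    rw [h3, h.cay, smul_smul, hs, one_smul]
    module
  have hcomm : Commute (NB b) ((P⁻¹ : (Module.End F V)ˣ) : Module.End F V) := by
    apply Commute.units_inv_right
    rw [hP]
    exact (Commute.one_right _).sub_right (Commute.refl _)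
  apply ann_of
  · rw [hE, _root_.smul_pow, h.unip hσ, smul_zero, LinearMap.zero_apply]
  · rw [hE, _root_.smul_pow, h1, _root_.smul_pow, hcomm.mul_pow, (hcomm.pow_pow _ _).eq, LinearMap.smul_apply,
      LinearMap.smul_apply, Module.End.mul_apply]
    have hσ0 : σ ≠ 0 := by rintro rfl; simp at hs
    refine smul_ne_zero (pow_ne_zero _ hσ0) (smul_ne_zero (pow_ne_zero _ h2) ?_)
    intro h0
    have h5 : IsUnit ((((P⁻¹ : (Module.End F V)ˣ) : Module.End F V)) ^ (a - 1)) := by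
      rw [← Units.val_pow_eq_pow_val]
      exact Units.isUnit _
    have h6 : (NB b ^ (a - 1)) (b 0) = 0 := ((Module.End.isUnit_iff _).1 h5).1 (h0.trans (map_zero _).symm)
    have hpos : 0 < a := Nat.pos_of_ne_zero (NeZero.ne a)
    rw [NB_pow, dif_pos (by rw [Fin.val_zero]; omega)] at h6
    exact b.ne_zero _ h6

/-- `JD` data give a cyclic piece -/
theorem JD.cpiece (h2 : (2 : F) ≠ 0) (hσ : σ = 1 ∨ σ = -1) (h : JD Q g σ b c) (hc : c ≠ 0) :
    CPiece (polarBilin Q) g (X - C σ) a (b 0) where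
  irr := irreducible_X_sub_C σ
  pos := Nat.pos_of_ne_zero (NeZero.ne a)
  ann := h.ann h2 hσ
  nd := by
    intro x _ hx
    apply h.gram.nondeg hc
    intro y
    exact hx y (by rw [h.cyc_eq h2 hσ]; trivial)

end Back

end Cfsg.Agent.H382.SRJ
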