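import Mathlib
import Cfsg.Agent.H382.SRJ5
import Cfsg.Agent.H853.SR.Bridge

/-!
# TEAM SR, J pieces (helper382): the hypotheses `HypJT`, `HypJU` of the decomposition
-/

set_option autoImplicit false

namespace Cfsg.Agent.H382.SRJ

open QuadraticMap Module Polynomial
open Cfsg.Agent.LieClassical.OrthCore Cfsg.Agent.H160.QSpin Cfsg.Agent.H160.QDisc Cfsg.Agent.H160.QSplit
open Cfsg.Agent.H721.SR

universe u v

theorem hypJT (F : Type u) [Field F] (h2 : (2 : F) ≠ 0) : Cfsg.Agent.H853.SR.HypJT.{u, v} F := by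
  intro V _ _ _ _ Q g σ a v hQ hg hσ _ hC hcyc
  obtain ⟨b, c, hc, h, ho⟩ := exists_JD h2 hQ hg hσ hcyc hC
  have hfr : finrank F V = a := by rw [finrank_eq_card_basis b, Fintype.card_fin]
  have hF : Finite F := by
    have hpos : 0 < a := hC.pos
    have hne : b ⟨0, hpos⟩ ≠ 0 := b.ne_zero _
    exact Finite.of_injective (fun r : F => r • b ⟨0, hpos⟩) (smul_left_injective F hne)
  refine ⟨hfr, ?_⟩
  have h3 := h.T_one_if h2 hσ hc ho
  exact h3

theorem hypJU (F : Type u) [Field F] [Fintype F] [DecidableEq F] (h2 : (2 : F) ≠ 0) :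
    Cfsg.Agent.H853.SR.HypJU.{u, v} F := by
  intro V W _ _ _ _ _ _ _ _ Q Q' g g' σ a v v' hQ hQ' hg hg' hσ ha hC hcyc hC' hcyc' hd
  obtain ⟨b, c, hc, h, -⟩ := exists_JD h2 hQ hg hσ hcyc hC
  obtain ⟨b', c', hc', h', -⟩ := exists_JD h2 hQ' hg' hσ hcyc' hC'
  exact h.iso_of_dc h2 ha h' hc hc' hd

end Cfsg.Agent.H382.SRJ
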